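import Cfsg.Agent.H8.FE5
import Cfsg.Agent.H9.R2Top
import Cfsg.Agent.H9.R2Syl
import Cfsg.Agent.H3.DSQAut
import Cfsg.Agent.H43.M11E
import Cfsg.Agent.H55.Basic
import Cfsg.Agent.S0281
import Cfsg.Agent.S0276
import Cfsg.Agent.S2388

/-! The 2-fusion systems of `A₇`, `M₁₁`; invariants of the systems of `PSL_n(q)`. -/

set_option autoImplicit false
set_option linter.dupNamespace false

namespace H8.FE

open Matrix H86 Equiv H7 Subgroup H9 Cfsg
open scoped MatrixGroups

theorem v2_iff {x j : ℕ} (hx : x ≠ 0) : V2 x j ↔ v2 x = j := by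
  haveI : Fact (Nat.Prime 2) := ⟨Nat.prime_two⟩
  have key : ∀ {j}, V2 x j → v2 x = j := fun h => le_antisymm
    (Nat.le_of_lt_succ (not_le.1 fun k => h.not_dvd ((padicValNat_dvd_iff_le hx).2 k)))
    ((padicValNat_dvd_iff_le hx).1 h.dvd)
  obtain ⟨i, hi⟩ := exists_v2 hx
  exact ⟨key, fun h => h ▸ key hi ▸ hi⟩

theorem fe_of_dm {Ω Γ Γ' : Type*} [Group Ω] [Group Γ] [Group Γ'] [Finite Γ] [Finite Γ']
    {S : Subgroup Ω} {m : ℕ} {a b : S} (h : H3.DSQ m a b) (hb : b ^ 2 = 1) {k : ℤ}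
    (e1 : b * a * b⁻¹ = a ^ k) {x y : Γ} (D : DM m k 0 x y) (c1 : CF x y) (c2 : CF x (x * y))
    {x' y' : Γ'} (D' : DM m k 0 x' y') (c1' : CF x' y') (c2' : CF x' (x' * y')) :
    FE Γ Γ' ∧ ∀ P : Sylow 2 Γ, Nonempty (P ≃* S) := by
  haveI : Fact (Nat.Prime 2) := ⟨Nat.prime_two⟩
  haveI := h.finite
  obtain ⟨ι, E, s, r, ⟨P, hP⟩, f1, f2⟩ := DS.exists_sys h D e1 (by simpa)
  have hS : ∀ α : MulAut S, (orderOf α).Coprime 2 → α = 1 := fun α hα => by
    rcases h.quaternion_eight_or_isPGroup_mulAut with ⟨⟨e⟩⟩ | p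
    · have k : ∀ u v : QuaternionGroup 2, u ^ 2 = 1 → v ^ 2 = 1 → u = 1 ∨ v = 1 ∨ u = v := by decide
      rcases k (e b) (e (a ^ 2 ^ m)) (by rw [← map_pow, hb, map_one])
        (by rw [← map_pow, h.z_sq, map_one]) with l | l | l
      · exact absurd ((map_eq_one_iff e e.injective).1 l ▸ one_mem _) h.notMem
      · exact absurd ((map_eq_one_iff e e.injective).1 l) h.z_ne_one
      · exact absurd (e.injective l ▸ pow_mem (mem_zpowers a) _) h.notMem
    · obtain ⟨j, hj⟩ := p α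
      exact orderOf_eq_one_iff.1 ((hα.pow_right j).eq_one_of_dvd (orderOf_dvd_of_pow_eq_one hj))
  obtain ⟨ι', r', P', hP'⟩ := DS.realized h s hS D' e1 (by simpa)
    (iff_of_true (f1.2 c1) c1') (iff_of_true (f2.2 c2) c2')
  exact ⟨.of_model (hP ▸ isSylowIn_top P) (hP' ▸ isSylowIn_top P') (fr_of_realized r r')
    (fr_of_realized r' r), fun Q => ⟨(Q.equiv P).trans
      ((MulEquiv.subgroupCongr hP).trans (MonoidHom.ofInjective r.1).symm)⟩⟩

theorem fe_dih {Γ Γ' : Type*} [Group Γ] [Group Γ'] [Finite Γ] [Finite Γ'] {m : ℕ} {x y : Γ}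
    (D : DM (m + 1) (-1) 0 x y) (c1 : CF x y) (c2 : CF x (x * y)) {x' y' : Γ'}
    (D' : DM (m + 1) (-1) 0 x' y') (c1' : CF x' y') (c2' : CF x' (x' * y')) :
    FE Γ Γ' ∧ ∀ P : Sylow 2 Γ, Nonempty (P ≃* DihedralGroup (2 ^ (m + 2))) := by
  obtain ⟨h1, h2⟩ := fe_of_dm ((H3.dsq_dihedral m).of_mulEquiv topEquiv.symm)
    (Subtype.ext (by simp [pow_two])) (Subtype.ext (by simp)) D c1 c2 D' c1' c2'
  exact ⟨h1, fun P => ⟨(h2 P).some.trans topEquiv⟩⟩

variable {F F' : Type*} [Field F] [Fintype F] [Field F'] [Fintype F'] {n : ℕ}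

theorem v2_psl (hn : 0 < n) (hq : Odd (Fintype.card F)) :
    v2 (n.gcd (Fintype.card F - 1)) + v2 (Fintype.card F - 1) + v2 (Nat.card PSL(n, F)) =
      bd n (v2 (Fintype.card F - 1)) (v2 (Fintype.card F + 1)) := by
  haveI : Nonempty (Fin n) := ⟨⟨0, hn⟩⟩
  have h1 := H57.gcd_mul_card_psl (ι := Fin n) (F := F)
  have h2 := H57.card_units_mul_card_sl (ι := Fin n) (F := F)
  have h3 : Fintype.card F - 1 ≠ 0 := by have := Fintype.one_lt_card (α := F); omega
  rw [← h1, Nat.card_units, Nat.card_eq_fintype_card (α := F), Fintype.card_fin] at h2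
  rw [add_comm (v2 _) (v2 _), add_assoc, ← v2_mul (Nat.gcd_pos_of_pos_left _ hn).ne' Nat.card_pos.ne',
    ← v2_mul h3 (mul_pos (Nat.gcd_pos_of_pos_left _ hn) Nat.card_pos).ne', h2, bd,
    ← v2_sq_sub_one Fintype.one_lt_card]
  have := v2_card_gl hq (n / 2)
  rcases Nat.mod_two_eq_zero_or_one n with h | h
  · rw [h, zero_mul, add_zero, ← this.1, show 2 * (n / 2) = n by omega]
  · rw [h, one_mul, ← this.2, show 2 * (n / 2) + 1 = n by omega]

theorem v2_gcd {a x : ℕ} (hx : x ≠ 0) : v2 ((2 ^ a).gcd x) = min a (v2 x) := by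
  haveI : Fact (Nat.Prime 2) := ⟨Nat.prime_two⟩
  simp only [v2, ← Nat.factorization_def _ Nat.prime_two]
  rw [Nat.factorization_gcd (by positivity) hx]
  simp [Nat.Prime.factorization_self Nat.prime_two]

theorem FE.v2_eq {Γ Γ' : Type*} [Group Γ] [Group Γ'] [Finite Γ] [Finite Γ'] (h : FE Γ Γ') :
    v2 (Nat.card Γ) = v2 (Nat.card Γ') := by
  haveI : Fact (Nat.Prime 2) := ⟨Nat.prime_two⟩
  have := Nat.card_congr (h.card default default).some.toEquiv
  rw [Sylow.card_eq_multiplicity, Sylow.card_eq_multiplicity,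
    Nat.pow_right_inj (by decide)] at this
  simpa only [Nat.factorization_def _ Nat.prime_two] using this

theorem v2_psl2 (hq : Odd (Fintype.card F)) :
    v2 (Nat.card PSL(2, F)) + 1 = v2 (Fintype.card F - 1) + v2 (Fintype.card F + 1) := by
  have h := v2_psl (n := 2) two_pos hq
  have h1 := Fintype.one_lt_card (α := F)
  have h2 := v2_gcd (a := 1) (x := Fintype.card F - 1) (by omega)
  have := v2_cases hq h1
  simp only [bd, pow_one] at h h2
  norm_num at h
  omega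

theorem v2_psl3 (hq : Odd (Fintype.card F)) :
    v2 (Nat.card PSL(3, F)) = 2 * v2 (Fintype.card F - 1) + v2 (Fintype.card F + 1) := by
  have h := v2_psl (n := 3) three_pos hq
  rw [v2_of_odd (Odd.of_dvd_nat (by decide) (Nat.gcd_dvd_left 3 _)), bd] at h
  norm_num at h
  omega

theorem v2_psl4 (hq : Odd (Fintype.card F)) :
    v2 (Nat.card PSL(4, F)) + min 2 (v2 (Fintype.card F - 1)) =
      3 * v2 (Fintype.card F - 1) + 2 * v2 (Fintype.card F + 1) + 1 := by
  have h := v2_psl (n := 4) four_pos hq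
  have h1 := Fintype.one_lt_card (α := F)
  have h2 := v2_gcd (a := 2) (x := Fintype.card F - 1) (by omega)
  have := v2_two
  simp only [bd] at h
  norm_num at h h2
  omega

theorem v2_psl5 (hq : Odd (Fintype.card F)) :
    v2 (Nat.card PSL(5, F)) = 4 * v2 (Fintype.card F - 1) + 2 * v2 (Fintype.card F + 1) + 1 := by
  have h := v2_psl (n := 5) (by decide) hq
  rw [v2_of_odd (Odd.of_dvd_nat (by decide) (Nat.gcd_dvd_left 5 _)), bd] at h
  have := v2_two
  norm_num at h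
  omega

theorem exists_sq (F : Type*) [Field F] [Fintype F] :
    ∃ (E : Type) (_ : Field E) (_ : Fintype E), Fintype.card E = Fintype.card F ^ 2 := by
  obtain ⟨p, hc, n, hp, hn⟩ := FiniteField.card' F
  have := Fact.mk hp
  letI := Fintype.ofFinite (GaloisField p (n * 2))
  refine ⟨GaloisField p (n * 2), inferInstance, this, ?_⟩
  rw [← Nat.card_eq_fintype_card, GaloisField.card p _ (by have := n.pos; omega), hn, pow_mul]

theorem psu2 {K : Type*} [Field K] [Fintype K] (hK : Fintype.card K = Fintype.card F ^ 2) :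
    Nonempty (PSU 2 K (Fintype.card F) ≃* PSL(2, F)) :=
  ⟨H55.quotCenterCongr (Cfsg.Agent.S0281.result hK rfl).some⟩

theorem fe_L2 (hq : Odd (Fintype.card F)) (hq' : Odd (Fintype.card F'))
    (h : v2 (Fintype.card F' - 1) + v2 (Fintype.card F' + 1) =
      v2 (Fintype.card F - 1) + v2 (Fintype.card F + 1)) : FE PSL(2, F') PSL(2, F) := by
  obtain ⟨K, _, _, hK⟩ := exists_sq F'
  have a := v2_cases hq Fintype.one_lt_card
  have b := v2_cases hq' Fintype.one_lt_card
  by_cases c : v2 (Fintype.card F' - 1) = v2 (Fintype.card F - 1)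
  · exact fe_LL two_pos hq hq' c (by omega)
  · exact (FE.of_equiv (psu2 hK).some.symm).trans (fe_UL le_rfl hq hK hq' (by omega) (by omega))

/-- A field with prescribed 2-parts of `q - 1` and `q + 1`. -/
theorem exists_field {a b : ℕ} (h : (2 ≤ a ∧ b = 1) ∨ (a = 1 ∧ 2 ≤ b)) :
    ∃ (K : Type) (_ : Field K) (_ : Fintype K), Odd (Fintype.card K) ∧
      v2 (Fintype.card K - 1) = a ∧ v2 (Fintype.card K + 1) = b := by
  rcases h with ⟨h, rfl⟩ | ⟨rfl, h⟩
  · obtain ⟨a, rfl⟩ := Nat.exists_eq_add_of_le' (show 1 ≤ a by omega)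
    obtain ⟨K, _, _, hK⟩ := exists_field_sub a
    have h1 := Fintype.one_lt_card (α := K)
    have h2 := (v2_iff (by omega)).1 hK
    have := v2_cases hK.odd h1
    exact ⟨K, inferInstance, inferInstance, hK.odd, h2, by omega⟩
  · obtain ⟨b, rfl⟩ := Nat.exists_eq_add_of_le' (show 1 ≤ b by omega)
    obtain ⟨K, _, _, hK⟩ := exists_field_add b
    have h1 := hK.four_dvd h
    have h2 := (v2_iff (by omega)).1 hK
    have h3 : Odd (Fintype.card K) := Nat.odd_iff.2 (by omega)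
    have := v2_cases h3 Fintype.one_lt_card
    exact ⟨K, inferInstance, inferInstance, h3, by omega, h2⟩

theorem syl_L2 (hq : Odd (Fintype.card F)) (P : Sylow 2 PSL(2, F)) :
    ∃ k, 2 ≤ k ∧ Nonempty (P ≃* DihedralGroup k) := by
  have h1 := Fintype.one_lt_card (α := F)
  have a := v2_cases hq h1
  by_cases h : v2 (Fintype.card F - 1) + v2 (Fintype.card F + 1) = 3
  · haveI : Fact (Nat.Prime 2) := ⟨Nat.prime_two⟩
    have h2 := (padicValNat_dvd_iff_le (p := 2) (n := 3) (a := Fintype.card F - 1) (by omega)).not.2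
      (by change ¬ 3 ≤ v2 _; omega)
    have h3 := (padicValNat_dvd_iff_le (p := 2) (n := 3) (a := Fintype.card F + 1) (by omega)).not.2
      (by change ¬ 3 ≤ v2 _; omega)
    haveI := Cfsg.Agent.S0276.result rfl (by obtain ⟨k, hk⟩ := hq; omega) P
    exact ⟨2, le_rfl, IsKleinFour.nonempty_mulEquiv⟩
  obtain ⟨m, hm⟩ := Nat.exists_eq_add_of_le'
    (show 4 ≤ v2 (Fintype.card F - 1) + v2 (Fintype.card F + 1) by omega)
  obtain ⟨K, _, _, k1, k2, k3⟩ := exists_field (a := m + 3) (.inl ⟨by omega, rfl⟩)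
  have h2 := Fintype.one_lt_card (α := K)
  obtain ⟨x, y, D, c1, c2⟩ := exists_psl2 (m := m + 1) ((v2_iff (by omega)).2 k2)
  exact ⟨_, Nat.le_self_pow (by omega) 2, ⟨((fe_L2 k1 hq (by omega)).card P default).some.trans
    ((fe_dih D c1 c2 D c1 c2).2 _).some⟩⟩

theorem fe_A7 (hq : Odd (Fintype.card F)) (h : v2 (Fintype.card F ^ 2 - 1) = 4) :
    FE (alternatingGroup (Fin 7)) PSL(2, F) := by
  obtain ⟨K, _, _, k1, k2, k3⟩ := exists_field (a := 3) (.inl ⟨by omega, rfl⟩)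
  have h2 := Fintype.one_lt_card (α := K)
  obtain ⟨x, y, D, c1, c2⟩ := exists_psl2 (m := 1) ((v2_iff (by omega)).2 k2)
  rw [v2_sq_sub_one Fintype.one_lt_card] at h
  refine FE.trans (fe_dih (m := 0) (Γ := alternatingGroup (Fin 7))
    (x := ⟨swap 0 1 * swap 1 2 * swap 2 3 * swap 4 5, Perm.mem_alternatingGroup.2 (by decide)⟩)
    (y := ⟨swap 0 2 * swap 4 5, Perm.mem_alternatingGroup.2 (by decide)⟩)
    ⟨orderOf_eq_of_pow (by decide) (by decide), by decide, by decide, ?_⟩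
    ⟨⟨swap 1 4 * swap 3 5, Perm.mem_alternatingGroup.2 (by decide)⟩, 2, by decide⟩
    ⟨⟨swap 1 3 * swap 3 2, Perm.mem_alternatingGroup.2 (by decide)⟩, 2, by decide⟩ D c1 c2).1
    (fe_L2 hq k1 (by omega))
  rw [nat_card_alternatingGroup]; simp [Nat.factorial]

theorem syl_L3 (hq : Odd (Fintype.card F)) (P : Sylow 2 PSL(3, F)) :
    (2 ≤ v2 (Fintype.card F + 1) ∧ IsQuasiDihedral (P : Subgroup PSL(3, F))) ∨
      (v2 (Fintype.card F + 1) = 1 ∧ IsWreathed (P : Subgroup PSL(3, F))) := by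
  have h1 := Fintype.one_lt_card (α := F)
  have h2 := v2_psl3 hq
  rcases v2_cases hq h1 with ⟨a, b⟩ | ⟨a, b⟩
  · obtain ⟨m, hm⟩ := Nat.exists_eq_add_of_le' a
    obtain ⟨x, y, z, g, D, -⟩ := exists_psl3_wr ((v2_iff (by omega)).2 hm)
    exact .inr ⟨b, isWreathed_sylow D.comm D.one_iff D.zz D.rel
      ((v2_iff Nat.card_pos.ne').2 (by omega)) P⟩
  · obtain ⟨m, hm⟩ := Nat.exists_eq_add_of_le' b
    obtain ⟨x, y, D, -⟩ := exists_psl3_sd ((v2_iff (by omega)).2 hm)
    exact .inl ⟨b, isQuasiDihedral_sylow D.ord D.conj (by simpa using D.sq)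
      ((v2_iff Nat.card_pos.ne').2 (by omega)) P⟩

open H43.P12 in
theorem fe_M11 (hq : Odd (Fintype.card F)) (h : v2 (Fintype.card F + 1) = 2) :
    FE Spor.M11 PSL(3, F) := by
  haveI : Fact (Nat.Prime 2) := ⟨Nat.prime_two⟩
  haveI := H72.simple_M11
  obtain ⟨e⟩ := H43.equiv_G0 H72.card_M11
  have h1 := Fintype.one_lt_card (α := F)
  obtain ⟨x, y, D, c1, c2⟩ := exists_psl3_sd (m := 0) ((v2_iff (by omega)).2 h)
  let P : Sylow 2 PSL(3, F) := default
  obtain ⟨m, a, b, d, -, e1, e2⟩ := H3.exists_dsq_of_isQuasiDihedral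
    ((syl_L3 hq P).resolve_right (by omega)).2
  obtain rfl : m = 2 := by
    have := d.card
    rw [P.card_eq_multiplicity, Nat.pow_right_inj (by decide),
      Nat.factorization_def _ Nat.prime_two] at this
    have h2 := v2_psl3 hq
    have h3 := v2_cases hq h1
    change v2 _ = _ at this
    omega
  let w : G0 := ⟨W, subset_closure (by simp)⟩
  let u : G0 := ⟨Y, subset_closure (by simp)⟩
  let v : G0 := ⟨V, subset_closure (by simp)⟩
  refine (FE.of_equiv e).trans (fe_of_dm d e1 (DS.rel_sd d e2) D c1 c2 (x' := u * w * w * v * u)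
    (y' := w * v * v * u * w * v * v) ⟨orderOf_eq_of_pow (fun k => ?_) (Subtype.ext ?_),
      Subtype.ext ?_, Subtype.ext ?_, ?_⟩ ⟨w, 4, Subtype.ext ?_⟩
    ⟨u * v * v, 2, Subtype.ext ?_⟩).1.symm
  · exact absurd (congrArg Subtype.val k) (by decide +kernel)
  any_goals decide +kernel
  rw [← Nat.card_congr e.toEquiv, H72.card_M11]; decide

/-- All elements of order four are real. -/
def Re4 (G : Type*) [Group G] : Prop := ∀ x : G, x ^ 4 = 1 → IsConj x x⁻¹

theorem Re4.fe {Γ Γ' : Type*} [Group Γ] [Group Γ'] [Finite Γ] (h : FE Γ Γ')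
    (r : Re4 Γ') : Re4 Γ := fun x hx => by
  haveI : Fact (Nat.Prime 2) := ⟨Nat.prime_two⟩
  obtain ⟨S, hS⟩ := (IsPGroup.of_card_dvd_pow (p := 2) (n := 2) (G := zpowers x) (by
    rw [Nat.card_zpowers]; exact orderOf_dvd_of_pow_eq_one hx)).exists_le_sylow
  obtain ⟨ι, -, -, -, -, b⟩ := h S
  let s : S := ⟨x, hS (mem_zpowers x)⟩
  obtain ⟨g, hg⟩ := isConj_iff.1 (r (ι s) (by
    rw [← map_pow, show s ^ 4 = 1 from Subtype.ext hx, map_one]))
  obtain ⟨k, -, c⟩ := b g trivial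
  exact isConj_iff.2 ⟨k, (c s s⁻¹ (by rw [map_inv, hg])).symm⟩

theorem cen_pow {z : SL(n, F)} (hz : z ∈ center SL(n, F)) : z ^ n = 1 := by
  obtain ⟨r, h1, h2⟩ := Matrix.SpecialLinearGroup.mem_center_iff.1 hz
  refine Subtype.ext ?_
  rw [Fintype.card_fin] at h1
  change z.1 ^ n = 1
  rw [← h2, ← map_pow, h1, map_one]

theorem re4_sl (hq : Fintype.card F % 4 = 3) : Re4 SL(n, F) := fun g h1 => by
  obtain ⟨p, hp⟩ := CharP.exists F
  haveI : Fact p.Prime := ⟨CharP.char_is_prime F p⟩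
  have h3 : (orderOf g).Coprime p := by
    refine Nat.Coprime.coprime_dvd_left (orderOf_dvd_of_pow_eq_one h1)
      (Nat.Coprime.pow_left 2 (Nat.coprime_two_left.2 ?_))
    obtain ⟨j, -, hj⟩ := FiniteField.card F p
    exact Odd.of_dvd_nat (Nat.odd_iff.2 (by omega)) (hj ▸ dvd_pow_self p j.ne_zero)
  refine Cfsg.Agent.S2388.result p n _ _ h3 (by rwa [orderOf_inv]) ?_
  have : g⁻¹ = g ^ Fintype.card F := by
    rw [inv_eq_iff_mul_eq_one, ← pow_succ', show Fintype.card F + 1 =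
      4 * (Fintype.card F / 4 + 1) by omega, pow_mul, h1, one_pow]
  rw [this]
  exact (FiniteField.Matrix.charpoly_pow_card g.1).symm

theorem re4_psl (hn : Odd n) (hq : Fintype.card F % 4 = 3) : Re4 PSL(n, F) := fun x hx => by
  obtain ⟨g, rfl⟩ := QuotientGroup.mk'_surjective _ x
  obtain ⟨k, hk⟩ : ∃ k, n * n = 4 * k + 1 := by
    obtain ⟨k, rfl⟩ := hn; exact ⟨k * k + k, by ring⟩
  have h1 : (g ^ (n * n)) ^ 4 = 1 := by
    rw [← pow_mul, mul_comm, pow_mul, pow_mul,
      cen_pow ((QuotientGroup.eq_one_iff _).1 ((map_pow _ _ _).trans hx)), one_pow]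
  have h2 : QuotientGroup.mk' (center _) (g ^ (n * n)) = QuotientGroup.mk' _ g := by
    rw [map_pow, hk, pow_succ, pow_mul, hx, one_pow, one_mul]
  rw [← h2, ← map_inv]
  exact MonoidHom.map_isConj _ (re4_sl hq _ h1)

theorem not_re4 (hn : n = 2 ∨ n = 4) (hq : Fintype.card F % 4 = 1) : ¬ Re4 PSL(n + 1, F) := by
  intro r
  obtain ⟨i, hi⟩ := exists_unit_orderOf (K := F) (n := 2 ^ (1 + 1)) (by omega)
  have h1 : (i : F) ^ 2 = -1 := by simpa using congrArg Units.val (pow_eq_neg_one hi)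
  have h2 : (2 : F) ≠ 0 := fun h => by
    haveI := CharTwo.of_one_ne_zero_of_two_eq_zero one_ne_zero h
    have := FiniteField.even_card_of_char_two (ringChar.eq F 2)
    omega
  have h4 : (i : F) ^ 4 = 1 := by linear_combination ((i : F) ^ 2 - 1) * h1
  let d : F → Fin (n + 1) → F := fun t => Fin.cons (t ^ (3 * n)) fun _ => t
  have hd : ∀ t : F, t ^ 4 = 1 → (diagonal (d t)).det = 1 := fun t ht => by
    rw [det_diagonal, Fin.prod_univ_succ]
    simp only [d, Fin.cons_zero, Fin.cons_succ, Finset.prod_const, Finset.card_univ,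
      Fintype.card_fin]
    rw [← pow_add, show 3 * n + n = 4 * n by ring, pow_mul, ht, one_pow]
  let x : SL(n + 1, F) := ⟨_, hd i h4⟩
  let y : SL(n + 1, F) := ⟨_, hd (-i) (by rw [← h4]; ring)⟩
  have hx : x ^ 4 = 1 := Subtype.ext (by
    change diagonal (d i) ^ 4 = 1
    rw [diagonal_pow, ← diagonal_one]
    congr 1; ext j
    refine Fin.cases ?_ (fun _ => h4) j
    change ((i : F) ^ (3 * n)) ^ 4 = 1
    rw [← pow_mul, mul_comm, pow_mul, h4, one_pow])
  have hy : x⁻¹ = y := inv_eq_of_mul_eq_one_right (Subtype.ext (by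
    change diagonal (d i) * diagonal (d (-i)) = 1
    rw [diagonal_mul_diagonal, ← diagonal_one]
    have : (i : F) * -i = 1 := by linear_combination -h1
    congr 1; ext j
    refine Fin.cases ?_ (fun _ => this) j
    change (i : F) ^ (3 * n) * (-i) ^ (3 * n) = 1
    rw [← mul_pow, this, one_pow]))
  obtain ⟨g, hg⟩ := isConj_iff.1 (r (QuotientGroup.mk' _ x) (by rw [← map_pow, hx, map_one]))
  obtain ⟨g, rfl⟩ := QuotientGroup.mk'_surjective _ g
  rw [← map_inv, ← map_inv, ← map_mul, ← map_mul] at hg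
  obtain ⟨z, hz, k⟩ := (QuotientGroup.mk'_eq_mk' _).1 hg
  have z4 : z ^ 4 = 1 := by
    have := congrArg (· ^ 4) k
    simpa [Commute.mul_pow (mem_center_iff.1 hz _), hx] using this
  have z1 : z = 1 := by
    have := pow_gcd_eq_one.2 ⟨z4, cen_pow hz⟩
    rcases hn with rfl | rfl <;> simpa using this
  rw [z1, mul_one, hy] at k
  have : (g.1 * x.1 * (g⁻¹).1).trace = y.1.trace :=
    congrArg (fun a : SL(n + 1, F) => a.1.trace) k
  rw [trace_mul_cycle, show (g⁻¹).1 * g.1 = 1 from congrArg Subtype.val (inv_mul_cancel g),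
    one_mul] at this
  simp only [x, y, d, trace_diagonal, Fin.sum_univ_succ, Fin.cons_zero, Fin.cons_succ,
    Finset.sum_const, Finset.card_univ, Fintype.card_fin, nsmul_eq_mul] at this
  have h3 : (2 : F) ^ 3 * i = 0 := by
    rcases hn with rfl | rfl
    · push_cast at this; linear_combination 2 * this
    · push_cast at this; linear_combination this
  exact mul_ne_zero (pow_ne_zero 3 h2) i.ne_zero h3

end H8.FE
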