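import Cfsg.Agent.H8.Focal

/-!
# Normal complements of Hall subgroups from the focal series
-/

set_option autoImplicit false

namespace H8

open scoped commutatorElement

universe u

/-- A normal subgroup with order prime to its index contains every element of order prime to
that index. -/
theorem mem_of_coprime_index {G : Type*} [Group G] (M : Subgroup G) [M.Normal] {x : G}
    (h : Nat.Coprime (orderOf x) M.index) : x ∈ M := by
  rw [← QuotientGroup.eq_one_iff, ← orderOf_eq_one_iff]
  have h1 : orderOf (x : G ⧸ M) ∣ orderOf x := orderOf_map_dvd (QuotientGroup.mk' M) x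
  have h2 : orderOf (x : G ⧸ M) ∣ M.index := orderOf_dvd_natCard _
  exact Nat.eq_one_of_dvd_coprimes h h1 h2

/-- A normal Hall subgroup is characteristic. -/
theorem characteristic_of_normal_hall {G : Type*} [Group G] (M : Subgroup G) [M.Normal]
    (h : Nat.Coprime (Nat.card M) M.index) : M.Characteristic := by
  rw [Subgroup.characteristic_iff_map_le]
  rintro φ _ ⟨x, hx, rfl⟩
  apply mem_of_coprime_index
  exact Nat.Coprime.coprime_dvd_left
    ((orderOf_map_dvd φ.toMonoidHom x).trans (M.orderOf_dvd_natCard hx)) h

theorem map_focal_le {G G' : Type*} [Group G] [Group G'] (f : G →* G') (K : Subgroup G)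
    (K' : Subgroup G') (h : K.map f ≤ K') : K.focalSubgroup.map f ≤ K'.focalSubgroup := by
  rw [Subgroup.focalSubgroup_def, MonoidHom.map_closure]
  apply Subgroup.closure_mono
  rintro _ ⟨g, ⟨hg, x, hx, u, rfl⟩, rfl⟩
  exact ⟨h (Subgroup.mem_map_of_mem f hg), f x, h (Subgroup.mem_map_of_mem f hx), f u,
    map_commutatorElement f x u⟩

theorem map_focal_iterate_le {G G' : Type*} [Group G] [Group G'] (f : G →* G') (n : ℕ) :
    ∀ (K : Subgroup G) (K' : Subgroup G'), K.map f ≤ K' →
      ((fun K : Subgroup G => K.focalSubgroup)^[n] K).map f ≤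
        (fun K : Subgroup G' => K.focalSubgroup)^[n] K' := by
  induction n with
  | zero => intro K K' h; exact h
  | succ n ih =>
    intro K K' h
    rw [Function.iterate_succ_apply, Function.iterate_succ_apply]
    exact ih _ _ (map_focal_le f K K' h)

/-- If `N` is normal and `NH = G` then `[N : N ⊓ H] = [G : H]`. -/
theorem relIndex_eq_index_of_sup_eq_top {G : Type*} [Group G] [Finite G] (N H : Subgroup G)
    [N.Normal] (h : N ⊔ H = ⊤) : H.relIndex N = H.index := by
  have h1 : N.relIndex H = N.index := by
    rw [← Subgroup.relIndex_sup_left H N, h, Subgroup.relIndex_top_right]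
  have h2 := Subgroup.relIndex_mul_index (inf_le_left : N ⊓ H ≤ N)
  have h3 := Subgroup.relIndex_mul_index (inf_le_right : N ⊓ H ≤ H)
  rw [Subgroup.inf_relIndex_left] at h2
  rw [Subgroup.inf_relIndex_right, h1, ← h2, mul_comm] at h3
  exact (Nat.eq_of_mul_eq_mul_right (Nat.pos_of_ne_zero Subgroup.index_ne_zero_of_finite) h3).symm

/-- A Hall subgroup whose focal series reaches `1` has a normal complement. -/
theorem normal_complement_of_focal_iterate (n : ℕ) :
    ∀ {G : Type u} [Group G] [Finite G] (H : Subgroup G), (Nat.card H).Coprime H.index →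
      (fun K : Subgroup G => K.focalSubgroup)^[n] H = ⊥ →
      ∃ N : Subgroup G, N.Normal ∧ N.IsComplement' H := by
  induction n with
  | zero =>
    intro G _ _ H _ h
    refine ⟨⊤, inferInstance, ?_⟩
    rw [show H = ⊥ from h]
    exact Subgroup.isComplement'_top_bot
  | succ n ih =>
    intro G _ _ H hH h
    obtain ⟨N, hN, -, h1, h2⟩ := exists_normal_inf_eq_focal_of_hall H hH
    have hidx : (H.subgroupOf N).index = H.index := relIndex_eq_index_of_sup_eq_top N H h2
    have hcard : Nat.card (H.subgroupOf N) ∣ Nat.card H := by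
      rw [← Subgroup.card_map_of_injective N.subtype_injective, Subgroup.subgroupOf_map_subtype]
      exact Subgroup.card_dvd_of_le inf_le_left
    have hcop : (Nat.card (H.subgroupOf N)).Coprime (H.subgroupOf N).index := by
      rw [hidx]
      exact Nat.Coprime.coprime_dvd_left hcard hH
    obtain ⟨M, hM, hMc⟩ := ih (H.subgroupOf N) hcop (by
      have := map_focal_iterate_le N.subtype n (H.subgroupOf N) H.focalSubgroup (by
        rw [Subgroup.subgroupOf_map_subtype, inf_comm, h1])
      rw [Function.iterate_succ_apply] at h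
      rw [h, le_bot_iff, Subgroup.map_eq_bot_iff_of_injective _ N.subtype_injective] at this
      exact this)
    have hMcard : Nat.card M = H.index := by rw [← hMc.index_eq_card, hidx]
    have : M.Characteristic := by
      apply characteristic_of_normal_hall
      rw [hMc.symm.index_eq_card, hMcard]
      exact (Nat.Coprime.coprime_dvd_left hcard hH).symm
    refine ⟨M.map N.subtype, inferInstance, ?_⟩
    have hc : Nat.card (M.map N.subtype) = H.index := by
      rw [Subgroup.card_map_of_injective N.subtype_injective, hMcard]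
    apply Subgroup.isComplement'_of_coprime
    · rw [hc, Subgroup.index_mul_card]
    · rw [hc]
      exact hH.symm

/-- A nilpotent Hall subgroup controlling its own fusion has a normal complement. -/
theorem normal_complement_of_nilpotent_hall {G : Type*} [Group G] [Finite G] (H : Subgroup G)
    (hH : Group.IsNilpotent H) (hHall : Nat.Coprime (Nat.card H) H.index)
    (h : ∀ x ∈ H, ∀ g : G, g * x * g⁻¹ ∈ H → ∃ k ∈ H, g * x * g⁻¹ = k * x * k⁻¹) :
    ∃ N : Subgroup G, N.Normal ∧ N.IsComplement' H := by
  obtain ⟨n, hn⟩ := Subgroup.nilpotent_iff_lowerCentralSeries.mp hH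
  apply normal_complement_of_focal_iterate n H hHall
  have key : ∀ m : ℕ, (fun K : Subgroup G => K.focalSubgroup)^[m] H ≤
      (Subgroup.lowerCentralSeries (⊤ : Subgroup H) m).map H.subtype := by
    intro m
    induction m with
    | zero =>
      intro x hx
      exact ⟨⟨x, hx⟩, trivial, rfl⟩
    | succ m ih =>
      rw [Function.iterate_succ_apply']
      have hle : (fun K : Subgroup G => K.focalSubgroup)^[m] H ≤ H :=
        ih.trans (Subgroup.map_subtype_le _)
      refine (focal_le_commutator_of_control _ H fun x hx g hg => h x (hle hx) g (hle hg)).trans ?_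
      rw [Subgroup.lowerCentralSeries_succ, Subgroup.map_commutator, ← MonoidHom.range_eq_map,
        Subgroup.range_subtype]
      exact Subgroup.commutator_mono ih le_rfl
  have := key n
  rwa [hn, Subgroup.map_bot, le_bot_iff] at this

/-- If `H` has a normal complement then `H` controls its own fusion. -/
theorem conj_eq_of_normal_complement {G : Type*} [Group G] {H N : Subgroup G} [N.Normal]
    (hc : N.IsComplement' H) {x : G} (hx : x ∈ H) (g : G) (hg : g * x * g⁻¹ ∈ H) :
    ∃ k ∈ H, g * x * g⁻¹ = k * x * k⁻¹ := by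
  obtain ⟨⟨n, k⟩, rfl⟩ := hc.2 g
  refine ⟨k, k.2, ?_⟩
  have h1 : ((n : G) * k * x * ((n : G) * k)⁻¹) * ((k : G) * x * (k : G)⁻¹)⁻¹ ∈ N ⊓ H := by
    constructor
    · have : ((n : G) * k * x * ((n : G) * k)⁻¹) * ((k : G) * x * (k : G)⁻¹)⁻¹ =
          n * (((k : G) * x * (k : G)⁻¹) * (n : G)⁻¹ * ((k : G) * x * (k : G)⁻¹)⁻¹) := by group
      rw [this]
      exact N.mul_mem n.2 (Subgroup.Normal.conj_mem inferInstance _ (N.inv_mem n.2) _)
    · exact H.mul_mem hg (H.inv_mem (H.mul_mem (H.mul_mem k.2 hx) (H.inv_mem k.2)))
  rw [hc.disjoint.eq_bot, Subgroup.mem_bot, mul_inv_eq_one] at h1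
  exact h1

end H8
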