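import Cfsg.Agent.H53.DGSpec2
import Cfsg.Agent.H54.PrinSer
import Cfsg.Agent.H7.DGT2

/-! Tower DG, jobs KZ, MK, SC. -/

set_option autoImplicit false

namespace H8.DG

open Cfsg H28 H33 H53.DG Finset
open scoped ComplexConjugate

theorem sum_coset {G : Type} [Group G] {χ : G → ℂ} (hχ : IsCharacter G χ) {R : Subgroup G}
    [Fintype R] (h : ∑ r : R, χ r = 0) (g : G) : ∑ r : R, χ (g * r) = 0 := by
  obtain ⟨n, ρ, rfl⟩ := hχ
  let σ : Representation ℂ R (Fin n → ℂ) := ρ.comp R.subtype
  have h1 : ∑ r : R, σ r = 0 := by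
    have h2 : (Nat.card R : ℂ)⁻¹ * ∑ r : R, σ.character r = Module.finrank ℂ σ.invariants := by
      have := invertibleOfNonzero (card_ne_zero' R)
      exact Representation.card_inv_mul_sum_char_eq_finrank σ
    rw [show ∑ r : R, σ.character r = 0 from h, mul_zero, eq_comm, Nat.cast_eq_zero,
      Submodule.finrank_eq_zero] at h2
    refine LinearMap.ext fun v => (Submodule.eq_bot_iff _).1 h2 _ fun r => ?_
    rw [LinearMap.sum_apply, map_sum]
    exact Fintype.sum_equiv (Equiv.mulLeft r) _ _ fun x => by simp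
  have h3 : ∀ r : R, ρ.character (g * r) = LinearMap.trace ℂ _ (ρ g * σ r) := fun r => by
    rw [Representation.character, map_mul]; rfl
  simp only [h3]
  rw [← map_sum, ← mul_sum, h1, mul_zero, map_zero]

theorem jobKZ : JobKZ := fun G A _ _ _ _ χ α R hχ hR h g => by
  have := Fintype.ofFinite A
  have := Fintype.ofFinite R
  rw [finsum_eq_sum_of_fintype] at h ⊢
  have h1 : ∀ r : R, ∑ x, χ (g * α x) = ∑ x, χ (g * α x * r) := fun r => by
    obtain ⟨a, ha⟩ := hR r.2
    exact (Fintype.sum_equiv (Equiv.mulRight a) _ _ fun x => by simp [← ha, mul_assoc]).symm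
  refine mul_left_cancel₀ (card_ne_zero' R) ?_
  rw [mul_zero, Nat.card_eq_fintype_card, ← nsmul_eq_mul, ← card_univ, ← sum_const,
    sum_congr rfl fun r _ => h1 r, sum_comm]
  exact sum_eq_zero fun x _ => sum_coset hχ h _

theorem jobMK : JobMK := fun G _ _ H θ hθ => by
  refine ⟨fun p hp p' hp' x => ?_, H54.PS.irr_ind H hθ, indFun_apply_one H θ,
    fun z hz e χ ψ hχ hψ k => ?_⟩
  · refine (Fintype.sum_equiv (MulAut.conj p).toEquiv _ _ fun g => ?_).symm
    change _ = extendByZero H θ (p * g * p⁻¹) *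
      conj (extendByZero H θ ((p * x * p')⁻¹ * (p * g * p⁻¹) * (p * x * p')))
    rw [ext0_conj_mem H hθ.isClassFunction hp,
      show (p * x * p')⁻¹ * (p * g * p⁻¹) * (p * x * p') = p'⁻¹ * (x⁻¹ * g * x) * p' by group,
      ext0_conj_mem' H hθ.isClassFunction hp']
  · have h1 : indFun H θ z = indFun H θ 1 := by
      rw [indFun_apply, indFun_apply]
      refine congrArg _ (sum_congr rfl fun x _ => ?_)
      rw [mul_assoc, ← Subgroup.mem_center_iff.1 hz x, inv_mul_cancel_left, mul_one, inv_mul_cancel,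
        ext0_coe, e, ← H.coe_one, ext0_coe]
    rw [k] at h1
    have h2 := congrArg Complex.re h1
    simp only [Pi.add_apply, Complex.add_re] at h2
    have h3 := hχ.norm_le z
    have h4 := (Complex.re_le_norm _).trans (hψ.norm_le z)
    have h5 := Complex.re_le_norm (χ z)
    have h6 : (χ z).re = ‖χ z‖ := by linarith
    refine Complex.ext (by linarith) ?_
    rw [Complex.conj_eq_iff_im.1 hχ.conj_apply_one]
    exact (Complex.nonneg_iff.1 (Complex.re_eq_norm.1 h6)).2.symm

theorem jobSC : JobSC := fun G X ι _ _ _ _ _ s c h e τ τ' H hτ hτ' k => by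
  have := Fintype.ofFinite G
  have := Fintype.ofFinite X
  have hπ := H30.isCharacter_fixChar (G := G) X
  have h1 : ∀ p, ∑ i ∈ s, c i * H30.fixChar G X (p * h i) = e * H30.fixChar G X (p * 1) := fun p => by
    simp only [H30.fixChar_eq_sum, mul_sum, mul_one, mul_ite, mul_zero, mul_smul, smul_eq_iff_eq_inv_smul p]
    rw [sum_comm]
    exact sum_congr rfl fun x _ => H x _
  have h2 : classInner (H30.fixChar G X) τ ≠ 0 := by
    obtain ⟨n, hn⟩ := hτ'.classInner_nat hτ.isCharacter
    rw [k, classInner_add_left, hτ.classInner_self, hn]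
    exact_mod_cast (by omega : 1 + n ≠ 0)
  refine mul_left_cancel₀ h2 ?_
  rw [mul_left_comm, ← H7.DGT2.conv hτ hπ, mul_sum,
    sum_congr rfl fun i _ => by rw [mul_left_comm, ← H7.DGT2.conv hτ hπ]]
  simp only [mul_sum]
  rw [sum_comm]
  refine sum_congr rfl fun p _ => ?_
  calc _ = τ 1 / Nat.card G * conj (τ p) * ∑ i ∈ s, c i * H30.fixChar G X (p * h i) := by
        rw [mul_sum]; exact sum_congr rfl fun i _ => by ring
    _ = _ := by rw [h1]; ring

end H8.DG
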