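import Cfsg.Agent.Base
import Cfsg.Prelude.Def_FusionSystem
import Cfsg.Prelude.Def_OddOrderLocal

set_option autoImplicit false

universe u

namespace H8.BC

open scoped commutatorElement

/-- A two-generator nonmetacyclic 2-group with cyclic derived subgroup and a generator `b` with
`b ^ 2 ∈ Φ(S')` carries a saturated fusion system other than the inner one. -/
def JobCon : Prop :=
  ∀ {Ω : Type u} [Group Ω] (S : Subgroup Ω) [Finite S], IsPGroup 2 S → ∀ a b : S,
    Subgroup.closure {a, b} = ⊤ → IsCyclic (commutator S) →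
    b ^ 2 ∈ Subgroup.zpowers (⁅a, b⁆ ^ 2) → ¬ Cfsg.IsMetacyclic S →
    ∃ F : Cfsg.FusionSystem S, F.IsSaturated 2 ∧
      ¬ ∀ P : Subgroup Ω, F.Hom P = (Cfsg.innerFusionSystem S).Hom P

end H8.BC
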