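import Cfsg.Agent.H9.Meta2
import Cfsg.Agent.H9.EssSmall
import Cfsg.Agent.H9.GenExtra
import Cfsg.Agent.S0572

/-! Nonmetacyclic bicyclic 2-groups have two metacyclic maximal subgroups. -/

set_option autoImplicit false

universe u

namespace H8.BC

open Subgroup Cfsg H9
open scoped commutatorElement

variable {G : Type u} [Group G]

theorem mc_of_surj {H : Type*} [Group H] (hH : IsMetacyclic H) (n : ℕ) :
    ∀ (G : Type u) [Group G] [Finite G], Nat.card G = n → IsPGroup 2 G → ∀ f : G →* H,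
      Function.Surjective f → f.ker < commutator G → IsMetacyclic G := by
  induction n using Nat.strong_induction_on with | _ n ih => ?_
  intro G _ _ hn hG f hf hk
  by_cases h : f.ker = ⊥
  · exact H19.isMetacyclic_of_injective hH f (f.ker_eq_bot_iff.1 h)
  obtain ⟨z, hz, hc, ho⟩ := exists_mem_center_orderOf_eq hG h
  have hN : (zpowers z).Normal := normal_of_le_center' (zpowers_le.2 hc)
  have hle := zpowers_le.2 hz
  refine H3.isMetacyclic_of_quotient_central hG hc (ho ▸ pow_orderOf_eq_one z) (hk.le hz)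
    (fun e => (hle.trans_lt hk).ne e.symm) (ih _ ?_ _ rfl (hG.to_quotient _)
      (QuotientGroup.lift _ f hle) (QuotientGroup.lift_surjective_of_surjective _ f hf hle) ?_)
  · rw [← hn, card_eq_card_quotient_mul_card_subgroup (zpowers z), Nat.card_zpowers, ho]
    have : 0 < Nat.card (G ⧸ zpowers z) := Nat.card_pos
    omega
  · have hs := QuotientGroup.mk'_surjective (zpowers z)
    rw [QuotientGroup.ker_lift, ← H19.map_commutator_of_surjective _ hs]
    refine lt_of_le_of_ne (map_mono hk.le) fun e => hk.ne ?_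
    have h1 := congrArg (comap (QuotientGroup.mk' (zpowers z))) e
    rwa [comap_map_eq_self (by rwa [QuotientGroup.ker_mk']),
      comap_map_eq_self (by rw [QuotientGroup.ker_mk']; exact hle.trans hk.le)] at h1

/-- `G = ⟨x⟩⟨y⟩`. -/
def Gen (x y : G) : Prop := ∀ g : G, ∃ i j : ℤ, g = x ^ i * y ^ j

theorem Gen.symm {x y : G} (h : Gen x y) : Gen y x := fun g => by
  obtain ⟨i, j, e⟩ := h g⁻¹
  exact ⟨-j, -i, by rw [← inv_inv g, e]; group⟩

theorem Gen.map {H : Type*} [Group H] {x y : G} (h : Gen x y) (f : G →* H)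
    (hf : Function.Surjective f) : Gen (f x) (f y) := fun g => by
  obtain ⟨g, rfl⟩ := hf g
  obtain ⟨i, j, rfl⟩ := h g
  exact ⟨i, j, by simp⟩

theorem Gen.eq_top {x y : G} (h : Gen x y) {K : Subgroup G} (hx : x ∈ K) (hy : y ∈ K) : K = ⊤ :=
  (eq_top_iff' _).2 fun g => by
    obtain ⟨i, j, rfl⟩ := h g
    exact mul_mem (zpow_mem hx i) (zpow_mem hy j)

theorem Gen.index_frattini [Finite G] (hG : IsPGroup 2 G) {x y : G} (h : Gen x y) :
    (frattini G).index ≤ 2 ^ 2 := by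
  have h2 : ∀ (g : G) (i : ℤ), ((g ^ i : G) : G ⧸ frattini G) = (g : G ⧸ frattini G) ^ (i % 2).toNat := by
    intro g i
    have h1 : (g : G ⧸ frattini G) ^ (2 : ℤ) = 1 := by
      rw [zpow_ofNat, ← QuotientGroup.mk_pow, QuotientGroup.eq_one_iff]
      exact pow_mem_frattini hG g
    rw [← zpow_natCast, Int.toNat_of_nonneg (by omega), QuotientGroup.mk_zpow,
      ← Int.mul_ediv_add_emod i 2, zpow_add, zpow_mul, h1, one_zpow, one_mul]
    congr 1; omega
  refine (Nat.card_le_card_of_surjective (fun p : Fin 2 × Fin 2 =>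
    (x : G ⧸ frattini G) ^ p.1.1 * (y : G ⧸ frattini G) ^ p.2.1) fun g => ?_).trans (by simp)
  obtain ⟨g, rfl⟩ := QuotientGroup.mk_surjective g
  obtain ⟨i, j, rfl⟩ := h g
  exact ⟨(⟨(i % 2).toNat, by omega⟩, ⟨(j % 2).toNat, by omega⟩), by
    rw [QuotientGroup.mk_mul, h2, h2]⟩

theorem mem_of_odd (hG : IsPGroup 2 G) {K : Subgroup G} {g : G} {k : ℤ} (hk : Odd k)
    (h : g ^ k ∈ K) : g ∈ K :=
  (zpowers_le.2 h) (H19.zpowers_zpow_eq_of_not_dvd hG g (n := k) (by
    obtain ⟨t, rfl⟩ := hk; omega) ▸ mem_zpowers g)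

/-- The class two quotient. -/
structure K0 (x y : G) : Prop where
  fin : Finite G
  two : IsPGroup 2 G
  gen : Gen x y
  card : Nat.card (commutator G) = 2
  nm : ¬ IsMetacyclic G

namespace K0

variable {x y : G} (h : K0 x y)
include h

theorem symm : K0 y x := ⟨h.fin, h.two, h.gen.symm, h.card, h.nm⟩

theorem cen {c : G} (hc : c ∈ commutator G) (g : G) : Commute g c :=
  haveI := h.fin
  commute_of_mem_center (le_center_of_card_le h.two h.card.le hc) g

theorem csq {c : G} (hc : c ∈ commutator G) : c ^ 2 = 1 := pow_eq_one_of_card_eq h.card hc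

theorem sq (g k : G) : Commute (g ^ 2) k := by
  have h1 := commutatorElement_mem_commutator g k
  rw [← commutatorElement_eq_one_iff_commute, commutatorElement_pow_left (h.cen h1 g), h.csq h1]

theorem ev (g k : G) (i : ℤ) : Commute (g ^ (2 * i)) k := by
  rw [zpow_mul, zpow_ofNat]; exact (h.sq g k).zpow_left i

theorem c_ne : ⁅x, y⁆ ≠ 1 := fun e => by
  have h1 := commutatorElement_eq_one_iff_commute.1 e
  refine h.nm (H19.MC.isMetacyclic (a := x) (b := y) ⟨⟨?_⟩, h.gen⟩)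
  rintro _ ⟨k, rfl⟩ g
  obtain ⟨i, j, rfl⟩ := h.gen g
  have : Commute (x ^ i * y ^ j) (x ^ k) := (Commute.zpow_zpow_self x i k).mul_left
    (h1.symm.zpow_zpow j k)
  exact ⟨k, by simp only [this.eq, mul_inv_cancel_right]⟩

theorem comm_eq : commutator G = zpowers ⁅x, y⁆ :=
  haveI := h.fin
  H3.eq_zpowers_of_card_eq_prime Nat.prime_two h.card (commutatorElement_mem_commutator x y) h.c_ne

theorem not_mem {u : G} (hu : u ∉ frattini G) : ⁅x, y⁆ ∉ zpowers u := fun e =>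
  haveI := h.fin
  h.nm (H3.isMetacyclic_of_commutator_le_zpowers h.two (h.gen.index_frattini h.two) hu
    (h.comm_eq ▸ zpowers_le.2 e))

theorem x_not : x ∉ frattini G := fun e => by
  have h1 : zpowers y ⊔ frattini G = ⊤ := h.gen.eq_top (mem_sup_right e) (mem_sup_left (mem_zpowers y))
  haveI := h.fin
  have h2 := frattini_nongenerating h1
  obtain ⟨k, rfl⟩ : x ∈ zpowers y := h2 ▸ mem_top x
  exact h.c_ne (commutatorElement_eq_one_iff_commute.2 (Commute.zpow_self y k))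

theorem par {i j : ℤ} (e : x ^ i * y ^ j ∈ frattini G) : Even i ∧ Even j := by
  haveI := h.fin
  have key : ∀ {x y : G}, K0 x y → ∀ {i j : ℤ}, x ^ i * y ^ j ∈ frattini G → Even i := by
    intro x y h i j e
    by_contra hi
    have h1 : x ∈ zpowers y ⊔ frattini G := mem_of_odd h.two (Int.not_even_iff_odd.1 hi) (by
      simpa using mul_mem (mem_sup_right e) (mem_sup_left (zpow_mem (mem_zpowers y) (-j))))
    have h2 := frattini_nongenerating (h.gen.eq_top h1 (mem_sup_left (mem_zpowers y)))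
    obtain ⟨k, rfl⟩ : x ∈ zpowers y := h2 ▸ mem_top x
    exact h.c_ne (commutatorElement_eq_one_iff_commute.2 (Commute.zpow_self y k))
  refine ⟨key h e, ?_⟩
  have := key h.symm (i := -j) (j := -i) (by simpa using inv_mem e)
  simpa using this

theorem sq_eq (i j : ℤ) : (x ^ i * y ^ j) ^ 2 = x ^ (2 * i) * y ^ (2 * j) * ⁅x, y⁆ ^ (i * j) := by
  have h1 := commutatorElement_mem_commutator y x
  have h2 : ⁅y ^ j, x ^ i⁆ = ⁅x, y⁆ ^ (i * j) := by
    rw [commutatorElement_zpow_left (h.cen (commutatorElement_mem_commutator _ _) _),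
      commutatorElement_zpow_right (h.cen h1 _), ← zpow_mul, ← commutatorElement_inv,
      inv_eq_of_mul_eq_one_right (pow_two (_ : G) ▸ h.csq (commutatorElement_mem_commutator x y))]
  have h3 := (h.cen (commutatorElement_mem_commutator (y ^ j) (x ^ i)) (x ^ i * x ^ i * y ^ j * y ^ j)).eq
  have h4 := (h.cen (commutatorElement_mem_commutator (y ^ j) (x ^ i)) (x ^ i)).eq
  calc (x ^ i * y ^ j) ^ 2 = (x ^ i * ⁅y ^ j, x ^ i⁆) * (x ^ i * y ^ j * y ^ j) := by
        rw [commutatorElement_def, pow_two]; group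
    _ = ⁅y ^ j, x ^ i⁆ * (x ^ i * x ^ i * y ^ j * y ^ j) := by rw [h4]; group
    _ = _ := by rw [← h3, h2]; group

theorem key : ∃ i j : ℤ, Odd i ∧ Odd j ∧ ⁅x, y⁆ = x ^ (2 * i) * y ^ (2 * j) := by
  haveI := h.fin
  have hc := commutatorElement_mem_commutator x y
  obtain ⟨i, j, e⟩ := h.gen ⁅x, y⁆
  obtain ⟨⟨i, rfl⟩, ⟨j, rfl⟩⟩ := h.par (e ▸ commutator_le_frattini h.two hc)
  rw [← two_mul, ← two_mul] at e
  have main : ∀ (n : ℕ) (i j : ℤ), i.natAbs + j.natAbs = n → ∀ k : ℕ,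
      ⁅x, y⁆ = (x ^ (2 * i) * y ^ (2 * j)) ^ 2 ^ k → k = 0 ∧ Odd i ∧ Odd j := by
    intro n
    induction n using Nat.strong_induction_on with | _ n ih => ?_
    intro i j hn k e
    by_cases h1 : Even i ∧ Even j
    · obtain ⟨⟨i, rfl⟩, ⟨j, rfl⟩⟩ := h1
      by_cases h0 : n = 0
      · obtain rfl : i = 0 := by omega
        obtain rfl : j = 0 := by omega
        exact absurd (by simpa using e) h.c_ne
      · refine absurd (ih _ (by omega) i j rfl (k + 1) ?_).1 (by omega)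
        rw [e, pow_succ', pow_mul, (h.ev x _ i).mul_pow]
        congr 2 <;> rw [← zpow_natCast, ← zpow_mul] <;> congr 1 <;> push_cast <;> ring
    · have h2 : x ^ i * y ^ j ∉ frattini G := fun e => h1 (h.par e)
      have h3 := h.sq_eq i j
      by_contra h4
      refine h.not_mem h2 ?_
      have h5 : (⁅x, y⁆ ^ (i * j)) ^ 2 ^ k = 1 := by
        rcases k with _ | k
        · obtain ⟨t, ht⟩ : Even (i * j) := by
            rw [Int.even_mul]; by_contra h6
            rw [not_or, Int.not_even_iff_odd, Int.not_even_iff_odd] at h6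
            exact h4 ⟨rfl, h6⟩
          rw [ht, ← two_mul, zpow_mul, zpow_ofNat, h.csq hc]; simp
        · rw [pow_succ', pow_mul, h.csq (zpow_mem hc _), one_pow]
      have : ⁅x, y⁆ = ((x ^ i * y ^ j) ^ 2) ^ 2 ^ k := by
        rw [h3, (h.cen (zpow_mem hc _) _).mul_pow, h5, mul_one, ← e]
      exact this ▸ pow_mem (pow_mem (mem_zpowers _) _) _
  exact ⟨i, j, (main _ i j rfl 0 (by simpa using e)).2.1, (main _ i j rfl 0 (by simpa using e)).2.2,
    e⟩

theorem sq_not : x ^ 2 ∉ zpowers y := fun e => by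
  obtain ⟨i, j, -, -, h1⟩ := h.key
  refine h.not_mem h.symm.x_not ?_
  rw [h1, zpow_mul, zpow_ofNat]
  exact mul_mem (zpow_mem e i) (zpow_mem (mem_zpowers y) _)

theorem odd_sq_not {k l : ℤ} (hk : Odd k) : x ^ (2 * k) * y ^ l ≠ 1 := fun e =>
  h.sq_not (mem_of_odd h.two hk (by
    rw [← zpow_ofNat, ← zpow_mul, eq_inv_of_mul_eq_one_left e]
    exact inv_mem (zpow_mem (mem_zpowers y) l)))

theorem exists_inv : ∃ i j : ℤ, Odd i ∧ Odd j ∧ (x ^ i * y ^ j) ^ 2 = 1 := by
  obtain ⟨i, j, hi, hj, e⟩ := h.key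
  obtain ⟨t, ht⟩ := hi.mul hj
  refine ⟨i, j, hi, hj, ?_⟩
  have := h.csq (commutatorElement_mem_commutator x y)
  rw [h.sq_eq, ← e, ht, zpow_add_one, zpow_mul, zpow_ofNat, this, one_zpow, one_mul, ← pow_two, this]

theorem nsq {i j : ℤ} (hi : Odd i) (hj : Even j) : (x ^ i * y ^ j) ^ 2 ∉ commutator G := fun e => by
  have hu : x ^ i * y ^ j ∉ frattini G := fun e => Int.not_even_iff_odd.2 hi (h.par e).1
  by_cases h1 : (x ^ i * y ^ j) ^ 2 = 1
  · obtain ⟨t, rfl⟩ := hj
    rw [← two_mul, (h.ev y _ t).symm.mul_pow, ← zpow_natCast, ← zpow_natCast,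
      ← zpow_mul, ← zpow_mul, mul_comm i] at h1
    exact h.odd_sq_not hi h1
  · haveI := h.fin
    exact h.not_mem hu (zpowers_le.2 (pow_mem (mem_zpowers _) 2)
      (H3.eq_zpowers_of_card_eq_prime Nat.prime_two h.card e h1 ▸
        commutatorElement_mem_commutator x y))

end K0

theorem k0_quot [Finite G] (hG : IsPGroup 2 G) {x y : G} (h : Gen x y) (hm : ¬ IsMetacyclic G)
    (R : Subgroup G) [R.Normal] (h1 : R ≤ commutator G) (h2 : R.relIndex (commutator G) = 2) :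
    K0 (x : G ⧸ R) (y : G ⧸ R) := by
  have hs := QuotientGroup.mk'_surjective R
  refine ⟨inferInstance, hG.to_quotient R, h.map _ hs, ?_, fun e => hm
    (mc_of_surj e _ G rfl hG _ hs ?_)⟩
  · rw [← H19.map_commutator_of_surjective _ hs, ← relIndex_ker, QuotientGroup.ker_mk', h2]
  · rw [QuotientGroup.ker_mk']
    exact lt_of_le_of_ne h1 fun e => by rw [e, relIndex_self] at h2; omega

theorem exists_R [Finite G] (hG : IsPGroup 2 G) {x y : G} (h : Gen x y) (hm : ¬ IsMetacyclic G) :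
    ∃ R : Subgroup G, R.Normal ∧ R ≤ commutator G ∧ R.relIndex (commutator G) = 2 := by
  obtain ⟨n, hn⟩ := IsPGroup.iff_card.1 (hG.to_subgroup (commutator G))
  rcases n with _ | n
  · haveI := (commutator_eq_bot_iff G).1 (card_eq_one.1 hn)
    exact absurd (H3.isMetacyclic_of_isMulCommutative hG (h.index_frattini hG)) hm
  obtain ⟨R, h1, h2, h3⟩ := exists_normal_le_card_eq hG (commutator G) n
    (hn ▸ Nat.pow_le_pow_right (by decide) (by omega))
  refine ⟨R, h1, h2, ?_⟩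
  have := relIndex_mul_card_le h2
  rw [h3, hn, pow_succ'] at this
  exact Nat.eq_of_mul_eq_mul_right (by positivity) this

theorem mc_max [Finite G] (hG : IsPGroup 2 G) {x y : G} (h : Gen x y) (hm : ¬ IsMetacyclic G)
    {M : Subgroup G} (hi : M.index = 2) (hx : x ∈ M) : IsMetacyclic M := by
  by_contra hM
  have hy : y ∉ M := fun e => by rw [h.eq_top hx e, index_top] at hi; omega
  have hy2 : y ^ 2 ∈ M := sq_mem_of_index_two hi y
  have h1 : Gen (⟨x, hx⟩ : M) ⟨y ^ 2, hy2⟩ := fun g => by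
    obtain ⟨i, j, e⟩ := h g
    obtain ⟨t, rfl | rfl⟩ := Int.even_or_odd' j
    · exact ⟨i, t, Subtype.ext (by simpa [zpow_mul, zpow_ofNat] using e)⟩
    · refine absurd ?_ hy
      have : y = (x ^ i * (y ^ 2) ^ t)⁻¹ * g := by rw [e, ← zpow_natCast, ← zpow_mul]; group
      exact this ▸ mul_mem (inv_mem (mul_mem (zpow_mem hx i) (zpow_mem hy2 t))) g.2
  obtain ⟨R, _, r1, r2⟩ := exists_R hG h hm
  obtain ⟨R', _, s1, s2⟩ := exists_R (hG.to_subgroup M) h1 hM
  have k := k0_quot hG h hm R r1 r2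
  obtain ⟨i, j, hi, -, e⟩ := (k0_quot (hG.to_subgroup M) h1 hM R' s1 s2).exists_inv
  rw [← QuotientGroup.mk_zpow, ← QuotientGroup.mk_zpow, ← QuotientGroup.mk_mul,
    ← QuotientGroup.mk_pow, QuotientGroup.eq_one_iff] at e
  let f : M →* G ⧸ R := (QuotientGroup.mk' R).comp M.subtype
  have hf : ∀ (i j : ℤ), f (⟨x, hx⟩ ^ i * ⟨y ^ 2, hy2⟩ ^ j) = (x : G ⧸ R) ^ i * (y : G ⧸ R) ^ (2 * j) :=
    fun i j => by simp [f, zpow_mul, zpow_ofNat]
  have h3 : commutator M ≤ f.ker := by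
    refine commutator_le.2 fun a _ b _ => ?_
    obtain ⟨i, j, rfl⟩ := h1 a
    obtain ⟨i', j', rfl⟩ := h1 b
    rw [MonoidHom.mem_ker, map_commutatorElement, hf, hf, commutatorElement_eq_one_iff_commute]
    exact ((Commute.zpow_zpow_self _ _ _).mul_right (k.ev _ _ _).symm).mul_left (k.ev _ _ _)
  have h4 := h3 (s1 e)
  rw [MonoidHom.mem_ker, map_pow, hf, (k.ev _ _ j).symm.mul_pow, ← zpow_natCast, ← zpow_natCast,
    ← zpow_mul, ← zpow_mul, mul_comm i] at h4
  exact k.odd_sq_not hi h4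

/-- The three maximal subgroups of a nonmetacyclic bicyclic 2-group. -/
structure BD (M₁ M₂ M₃ : Subgroup G) : Prop where
  i1 : M₁.index = 2
  i2 : M₂.index = 2
  m3 : ∀ g, g ∈ M₃ ↔ (g ∈ M₁ ↔ g ∈ M₂)
  phi : frattini G = M₁ ⊓ M₂
  ex : ∃ x ∈ M₁, x ∉ M₂
  mc1 : IsMetacyclic M₁
  mc2 : IsMetacyclic M₂
  nm : ¬ IsMetacyclic G
  ab : ∀ a ∈ commutator G, ∀ b ∈ commutator G, a * b = b * a
  sq3 : ∀ R : Subgroup G, R.Normal → R ≤ commutator G → R.relIndex (commutator G) = 2 →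
    ∃ b ∈ M₃, b ∉ M₁ ∧ b ^ 2 ∈ R
  exR : ∃ R : Subgroup G, R.Normal ∧ R ≤ commutator G ∧ R.relIndex (commutator G) = 2
  nsq : ∀ g ∉ M₃, g ^ 2 ∉ commutator G

theorem zpow_mem_iff {M : Subgroup G} (hi : M.index = 2) {y : G} (hy : y ∉ M) (j : ℤ) :
    y ^ j ∈ M ↔ Even j := by
  have hy2 : y ^ 2 ∈ M := sq_mem_of_index_two hi y
  obtain ⟨t, rfl | rfl⟩ := Int.even_or_odd' j
  · exact iff_of_true (by rw [zpow_mul, zpow_ofNat]; exact zpow_mem hy2 t) (even_two_mul t)
  · refine iff_of_false (fun e => hy ?_) (Int.not_even_two_mul_add_one t)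
    rw [zpow_add_one, zpow_mul, zpow_ofNat] at e
    exact (mul_mem_cancel_left (zpow_mem hy2 t)).1 e

theorem exists_bd [Finite G] (hG : IsPGroup 2 G) {x y : G} (h : Gen x y) (hm : ¬ IsMetacyclic G) :
    ∃ M₁ M₂ M₃ : Subgroup G, BD M₁ M₂ M₃ := by
  obtain ⟨R, _, r1, r2⟩ := exists_R hG h hm
  have hmax : ∀ x : G, ∃ M : Subgroup G, M.index = 2 ∧ x ∈ M ∧ frattini G ≤ M := fun x => by
    refine ((eq_top_or_exists_le_coatom (zpowers x)).resolve_left fun e => hm ?_).imp
      fun M hM => ⟨index_of_isCoatom hG hM.1, hM.2 (mem_zpowers x), frattini_le_coatom hM.1⟩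
    exact H19.MC.isMetacyclic (a := x) (b := 1) ⟨e ▸ inferInstance, fun g => by
      obtain ⟨k, hk⟩ : g ∈ zpowers x := e ▸ mem_top g
      exact ⟨k, 0, by simpa using hk.symm⟩⟩
  obtain ⟨M₁, i1, hx, f1⟩ := hmax x
  obtain ⟨M₂, i2, hy, f2⟩ := hmax y
  have hy1 : y ∉ M₁ := fun e => by rw [h.eq_top hx e, index_top] at i1; omega
  have hx2 : x ∉ M₂ := fun e => by rw [h.eq_top e hy, index_top] at i2; omega
  have p1 : ∀ i j : ℤ, x ^ i * y ^ j ∈ M₁ ↔ Even j := fun i j => by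
    rw [mul_mem_cancel_left (zpow_mem hx i), zpow_mem_iff i1 hy1]
  have p2 : ∀ i j : ℤ, x ^ i * y ^ j ∈ M₂ ↔ Even i := fun i j => by
    rw [mul_mem_cancel_right (zpow_mem hy j), zpow_mem_iff i2 hx2]
  let M₃ : Subgroup G :=
    { carrier := {g | g ∈ M₁ ↔ g ∈ M₂}
      one_mem' := iff_of_true (one_mem _) (one_mem _)
      mul_mem' := fun {a b} ha hb => by
        change _ ↔ _ at ha hb ⊢
        rw [mul_mem_iff_of_index_two i1, mul_mem_iff_of_index_two i2, ha, hb]
      inv_mem' := fun {a} ha => by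
        change _ ↔ _ at ha ⊢
        rw [inv_mem_iff, inv_mem_iff, ha] }
  refine ⟨M₁, M₂, M₃, i1, i2, fun _ => Iff.rfl, le_antisymm (le_inf f1 f2) fun g hg => ?_,
    ⟨x, hx, hx2⟩, mc_max hG h hm i1 hx, mc_max hG h.symm hm i2 hy, hm, fun a ha b hb => ?_,
    fun R _ r1 r2 => ?_, ⟨R, ‹_›, r1, r2⟩, fun g hg e => ?_⟩
  · obtain ⟨i, j, rfl⟩ := h g
    obtain ⟨s, rfl⟩ := (p2 i j).1 hg.2
    obtain ⟨t, rfl⟩ := (p1 _ j).1 hg.1
    rw [zpow_add, zpow_add, ← pow_two, ← pow_two]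
    exact mul_mem (pow_mem_frattini hG _) (pow_mem_frattini hG _)
  · have := Cfsg.Agent.S0572.result (zpowers x) (zpowers y) fun g => by
      obtain ⟨i, j, rfl⟩ := h g
      exact ⟨_, zpow_mem (mem_zpowers x) i, _, zpow_mem (mem_zpowers y) j, rfl⟩
    have h2 : ⁅a, b⁆ ∈ derivedSeries G 2 := commutator_mem_commutator ha hb
    rwa [this, mem_bot, commutatorElement_eq_one_iff_mul_comm] at h2
  · obtain ⟨i, j, hi, hj, e⟩ := (k0_quot hG h hm R r1 r2).exists_inv
    refine ⟨x ^ i * y ^ j, ?_, fun e => Int.not_even_iff_odd.2 hj ((p1 i j).1 e), ?_⟩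
    · change _ ↔ _
      rw [p1, p2]
      exact iff_of_false (Int.not_even_iff_odd.2 hj) (Int.not_even_iff_odd.2 hi)
    · rwa [← QuotientGroup.mk_zpow, ← QuotientGroup.mk_zpow, ← QuotientGroup.mk_mul,
        ← QuotientGroup.mk_pow, QuotientGroup.eq_one_iff] at e
  · have k := k0_quot hG h hm R r1 r2
    have h3 : ∀ g : G, g ^ 2 ∈ commutator G → (g : G ⧸ R) ^ 2 ∈ commutator (G ⧸ R) := fun g e => by
      rw [← H19.map_commutator_of_surjective _ (QuotientGroup.mk'_surjective R)]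
      exact ⟨_, e, rfl⟩
    obtain ⟨i, j, rfl⟩ := h g
    change ¬ (_ ↔ _) at hg
    rw [p1, p2] at hg
    rcases Int.even_or_odd j with hj | hj
    · exact k.nsq (Int.not_even_iff_odd.1 fun hi => hg (iff_of_true hj hi)) hj
        (by simpa using h3 _ e)
    · have hi : Even i := by_contra fun hi => hg (iff_of_false (Int.not_even_iff_odd.2 hj) hi)
      refine k.symm.nsq hj.neg hi.neg ?_
      have := h3 _ (inv_pow (x ^ i * y ^ j) 2 ▸ inv_mem e)
      simpa using this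

end H8.BC
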