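import Cfsg.Agent.H4.QeJ2
import Cfsg.Agent.H1.GSpec
import Cfsg.Agent.H78.XS

/-! Tower JS (see `blueprints/JS.md`): a standard subgroup isomorphic to the Hall–Janko group.
Definitions and job statements. -/

set_option autoImplicit false

namespace H8.JS

open Cfsg Subgroup H98 H1.Gold
open H4.M2 (X g y p q r s t z a h)

universe u

/-! ### elements and subgroups of the model -/

noncomputable def c2 : X := y * a * y⁻¹
noncomputable def d1 : X := q * a * q
noncomputable def d2 : X := q * c2 * q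
noncomputable def k1 : X := r * s
noncomputable def k2 : X := s * t
/-- `{1, z, p, p z}` -/
def InV (w : X) : Prop := w = 1 ∨ w = z ∨ w = p ∨ w = p * z
/-- elementary abelian of order `16` -/
noncomputable def E1 : Subgroup X := closure {w | w ∈ [z, p, a, c2]}
/-- `O₂(C(z, p))`, of order `64` -/
noncomputable def P0 : Subgroup X := closure {w | w ∈ [a, c2, d1, d2]}

/-! ### codes for the extraspecial group of order `128`

bits: `0 : p`, `1 : q`, `2 : k1`, `3 : k2`, `4 : x`, `5 : v`, `6 : z` -/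

def bt (c : Fin 128) (i : ℕ) : ℕ := c.val >>> i % 2

def qm (b c : Fin 128) : Fin 128 :=
  Fin.ofNat 128 (b.val ^^^ c.val ^^^ 64 * ((bt b 1 * bt c 0 + bt b 2 * bt c 2 + bt b 3 * bt c 3 +
    bt b 3 * bt c 2 + bt b 5 * bt c 4 + bt b 5 * bt c 5) % 2))

def pk (c : Fin 128) (i : ℕ) (b : Fin 128) : Fin 128 := if bt c i = 1 then b else 0

/-- the endomorphism that fixes `z` and sends `p, q, k1, k2, x, v` to the given codes -/
def lin (l0 l1 l2 l3 l4 l5 : Fin 128) (c : Fin 128) : Fin 128 :=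
  qm (qm (qm (qm (qm (qm (pk c 0 l0) (pk c 1 l1)) (pk c 2 l2)) (pk c 3 l3)) (pk c 4 l4))
    (pk c 5 l5)) (pk c 6 64)

section Defs

variable {G : Type u} [Group G]

/-- `e` is the involution of the centralizer of the standard subgroup `j.range`, and `O` is the
odd part of `C(e) ∩ C(j.range)`. -/
structure St (j : X →* G) (e : G) (O : Subgroup G) : Prop where
  inj : Function.Injective j
  e1 : e ≠ 1
  e2 : e * e = 1
  ec : ∀ w, e * j w = j w * e
  odd : Odd (Nat.card O)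
  oe : ∀ o ∈ O, o * e = e * o
  oj : ∀ o ∈ O, ∀ w, o * j w = j w * o
  act : ∀ b, b * e = e * b → ∃ θ : MulAut X, ∀ w, b * j w * b⁻¹ = j (θ w)
  ker : ∀ b, b * e = e * b → (∀ w, b * j w = j w * b) → b ∈ O ∨ e * b ∈ O

/-- from `z` to `p` -/
noncomputable def up (j : X →* G) (u : G) : G := j g * u * (j g)⁻¹
/-- from `z` to `p z` -/
noncomputable def uz (j : X →* G) (u : G) : G := (j g)⁻¹ * u * j g

structure Vv (j : X →* G) (e : G) (O : Subgroup G) (v : G) : Prop where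
  vo : ∀ o ∈ O, v * o = o * v
  vc : ∀ w, w * z = z * w → v * j w = j w * v
  ve : v * e * v⁻¹ = e * j z
  v2 : v * v = j z

/-- `u`, `u^g`, `u^{g²}` have product one -/
def Tri (j : X →* G) (u : G) : Prop := u * up j u * uz j u = 1

/-- the Suzuki configuration: `⟨x, e⟩` is dihedral of order `16`, `v = (x e)²` -/
structure SD (j : X →* G) (e : G) (O : Subgroup G) (v x : G) : Prop extends Vv j e O v where
  vv : Tri j v
  xo : ∀ o ∈ O, x * o = o * x
  xc : ∀ w, w * z = z * w → x * j w = j w * x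
  x2 : x * x = 1
  xe : x * e * (x * e) = v
  xv : x * up j v * x = up j v * j p * j z
  xx : Tri j x

/-- the relation `(p₁ q₁)² = z₁` between the halves in the wreath configuration -/
def WR (j : X →* G) (z₁ : G) : Prop :=
  up j z₁ * (j h * up j z₁ * (j h)⁻¹) * (up j z₁ * (j h * up j z₁ * (j h)⁻¹)) = z₁

/-- a translation: `γ` centralizes `E1` and sends `e` to `e c` with `c ∈ E1 - V` -/
def Trl (j : X →* G) (e γ : G) : Prop :=
  (∀ w ∈ E1, γ * j w = j w * γ) ∧ ∃ c ∈ E1, ¬ InV c ∧ γ * e * γ⁻¹ = e * j c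

noncomputable def qq (j : X →* G) (v x : G) (c : Fin 128) : G :=
  j p ^ bt c 0 * j q ^ bt c 1 * j k1 ^ bt c 2 * j k2 ^ bt c 3 * x ^ bt c 4 * v ^ bt c 5 *
    j z ^ bt c 6

/-- the extraspecial group `2^{1+6}_-` -/
noncomputable def QQ (j : X →* G) (v x : G) : Subgroup G :=
  closure {u | u ∈ [j p, j q, j k1, j k2, x, v]}

/-- the part of the normalizer of `QQ` that lies in every normal subgroup over `j.range` -/
noncomputable def N1 (j : X →* G) (v x : G) : Subgroup G :=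
  closure {u | u ∈ [j y, j a, j h, up j v, up j x]} ⊔ QQ j v x

def Act (j : X →* G) (v x n : G) (f : Fin 128 → Fin 128) : Prop :=
  ∀ c, n * qq j v x c * n⁻¹ = qq j v x (f c)

structure QD (j : X →* G) (e v x : G) : Prop where
  mul : ∀ b c, qq j v x b * qq j v x c = qq j v x (qm b c)
  inj : Function.Injective (qq j v x)
  mem : ∀ u, u ∈ QQ j v x ↔ ∃ c, qq j v x c = u
  xs : H78.XS (QQ j v x) (j z)
  card : Nat.card (QQ j v x) = 2 ^ 7
  ay : Act j v x (j y) (lin 1 2 8 76 16 32)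
  aa : Act j v x (j a) (lin 1 11 69 72 16 32)
  ah : Act j v x (j h) (lin 2 1 68 12 16 32)
  ae : Act j v x e (lin 1 2 4 8 48 96)
  av : Act j v x (up j v) (lin 1 35 4 8 81 32)
  ax : Act j v x (up j x) (lin 1 18 4 8 16 97)
  all : ∀ n ∈ nor (QQ j v x), n * j z = j z * n ∧
    ∃ l0 l1 l2 l3 l4 l5, Act j v x n (lin l0 l1 l2 l3 l4 l5)
  en : e ∈ nor (QQ j v x)
  cn : ∀ w, w * z = z * w → j w ∈ nor (QQ j v x)
  n1 : N1 j v x ≤ nor (QQ j v x)

/-- transitivity -/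
structure TD (j : X →* G) (v x : G) : Prop where
  tr1 : ∀ u ∈ QQ j v x, u * u = 1 → u ≠ 1 → u ≠ j z → ∃ n ∈ N1 j v x, n * u * n⁻¹ = j p
  trU : ∀ u ∈ QQ j v x, u * u ≠ 1 → ∃ n ∈ N1 j v x, n * u * n⁻¹ = v
  tr2 : ∀ u ∈ QQ j v x, ∀ w ∈ QQ j v x, u * u = 1 → u ≠ 1 → u ≠ j z → w * w ≠ 1 →
    u * w = w * u → ∃ n ∈ N1 j v x, n * u * n⁻¹ = j p ∧ (n * w * n⁻¹ = v ∨ n * w * n⁻¹ = v⁻¹)
  big : 81 ∣ Nat.card (N1 j v x)
  le : ∀ F : Subgroup G, F.Normal → j.range ≤ F → N1 j v x ≤ F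

/-- `n` acts trivially on `Q / ⟨ζ⟩` -/
def Tr (Q : Subgroup G) (ζ n : G) : Prop := ∀ u ∈ Q, n * u * n⁻¹ = u ∨ n * u * n⁻¹ = u * ζ

/-- centralizers -/
structure CD (j : X →* G) (e v x : G) : Prop where
  ez : ∀ b, b * e = e * b → b * j z = j z * b → b ∈ nor (QQ j v x)
  cq : ∀ b ∈ cen (QQ j v x), ∃ m, Odd m ∧ (b ^ m = 1 ∨ b ^ m = j z)
  inn : ∀ n, Tr (QQ j v x) (j z) n → ∃ u ∈ QQ j v x, u⁻¹ * n ∈ cen (QQ j v x)
  triv2 : ∀ n k, Tr (QQ j v x) (j z) n → n ^ 2 ^ k ∈ QQ j v x → n ∈ QQ j v x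
  cos : ∀ b ∈ nor (QQ j v x), ∀ b' ∈ nor (QQ j v x), b * b ∈ QQ j v x → b' * b' ∈ QQ j v x →
    Tr (QQ j v x) (j z) (b⁻¹ * b') →
    ∃ n, Tr (QQ j v x) (j z) n ∧ n ∈ nor (QQ j v x) ∧ ∃ u ∈ QQ j v x, n * b' * n⁻¹ = b * u

/-- `b` acts on `Q / ⟨z⟩` as a Siegel involution -/
def Sg (j : X →* G) (v x b : G) : Prop :=
  ∃ n ∈ nor (QQ j v x), Tr (QQ j v x) (j z) ((up j x)⁻¹ * (n * b * n⁻¹))

/-- involutions of `O₆⁻(2)` -/
structure LD (j : X →* G) (e v x : G) : Prop where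
  cls : ∀ b ∈ nor (QQ j v x), Tr (QQ j v x) (j z) (b * b) → ∃ n ∈ nor (QQ j v x),
    ∃ b₀ ∈ [1, e, j a, e * j a, up j x], Tr (QQ j v x) (j z) (b₀⁻¹ * (n * b * n⁻¹))
  rk1 : ∀ b ∈ nor (QQ j v x), ∀ b' ∈ nor (QQ j v x), Sg j v x b → Sg j v x b' →
    ¬ Sg j v x (b * b')

/-- fusion -/
structure UD (j : X →* G) (e v x : G) : Prop where
  cl : ∀ b ∈ nor (QQ j v x), b * b = 1 → b ≠ 1 →
    (∃ n ∈ nor (QQ j v x) ⊔ zpowers (j g), n * b * n⁻¹ = j z) ∨
      ∃ n ∈ nor (QQ j v x), n * b * n⁻¹ ∈ [e, j a, e * j a]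
  uf : ∀ b, b * j z = j z * b → b * e * b⁻¹ ∈ nor (QQ j v x) → b ∈ nor (QQ j v x)
  cl2 : ∀ b ∈ nor (QQ j v x), b * b = 1 ∨ b * b = j z → b ∈ QQ j v x ∨ Sg j v x b ∨
    ∃ n ∈ nor (QQ j v x), e * (n * b * n⁻¹) * e = n * b * n⁻¹ ∨
      e * (n * b * n⁻¹) * e = n * b * n⁻¹ * j z

/-- the stabilizer of the images of `p` and `v` in `C(z) / ⟨z⟩` normalizes `Q` -/
def ZD (j : X →* G) (v x : G) : Prop :=
  ∀ b, b * j z = j z * b → (b * j p * b⁻¹ = j p ∨ b * j p * b⁻¹ = j p * j z) →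
    (b * v * b⁻¹ = v ∨ b * v * b⁻¹ = v⁻¹) → b ∈ nor (QQ j v x)

end Defs

/-! ### jobs -/

def Job0 : Prop := ∀ (G : Type u) [Group G] [Finite G] (A : Subgroup G),
  IsSimpleGroup (generalizedFittingSubgroup G) → ¬ IsMulCommutative (generalizedFittingSubgroup G) →
  IsStandardSubgroup A → Nonempty (X ≃* A) →
  ∃ (j : X →* G) (e : G) (O : Subgroup G), St j e O ∧ j.range = A ∧
    A ≤ generalizedFittingSubgroup G ∧ IsConj e (e * j z)

def JobV : Prop := ∀ (G : Type u) [Group G] [Finite G] (j : X →* G) (e : G) (O : Subgroup G),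
  St j e O → IsConj e (e * j z) → ∃ v, Vv j e O v ∧ (Tri j v ∨ Tri j (v * e))

def JobS : Prop := ∀ (G : Type u) [Group G] [Finite G] (j : X →* G) (e v : G),
  St j e ⊥ → Vv j e ⊥ v → Tri j v → ∃ x, SD j e ⊥ v x

def JobNT : Prop := ∀ (G : Type u) [Group G] [Finite G] (j : X →* G) (e v x γ : G),
  St j e ⊥ → SD j e ⊥ v x → ¬ Trl j e γ

def JobF : Prop := ∀ (G : Type u) [Group G] [Finite G] (j : X →* G) (e : G) (O : Subgroup G) (v : G),
  St j e O → Vv j e O v → ¬ IsConj e (j a) ∧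
    (IsConj e (e * j a) → ∃ γ, (∀ o ∈ O, γ * o = o * γ) ∧ Trl j e γ)

def JobW1 : Prop := ∀ (G : Type u) [Group G] [Finite G] (j : X →* G) (e v : G),
  St j e ⊥ → Vv j e ⊥ v → Tri j (v * e) → WR j (v * e)

def JobW2 : Prop := ∀ (G : Type u) [Group G] [Finite G] (j : X →* G) (e : G) (O : Subgroup G) (v : G),
  IsSimpleGroup (generalizedFittingSubgroup G) → ¬ IsMulCommutative (generalizedFittingSubgroup G) →
  IsStandardSubgroup j.range → St j e O → Vv j e O v → Tri j (v * e) → ¬ WR j (v * e)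

def JobQ1 : Prop := ∀ (G : Type u) [Group G] [Finite G] (j : X →* G) (e : G) (O : Subgroup G)
  (v x : G), St j e O → SD j e O v x → QD j e v x

def JobT : Prop := ∀ (G : Type u) [Group G] [Finite G] (j : X →* G) (e : G) (O : Subgroup G)
  (v x : G), St j e O → SD j e O v x → QD j e v x → TD j v x

def JobQ2 : Prop := ∀ (G : Type u) [Group G] [Finite G] (j : X →* G) (e : G) (O : Subgroup G)
  (v x : G), St j e O → SD j e O v x → QD j e v x → CD j e v x

def JobQ3 : Prop := ∀ (G : Type u) [Group G] [Finite G] (j : X →* G) (e : G) (O : Subgroup G)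
  (v x : G), St j e O → SD j e O v x → QD j e v x → LD j e v x

def JobCL : Prop := ∀ (G : Type u) [Group G] [Finite G] (j : X →* G) (e : G) (O : Subgroup G)
  (v x : G), St j e O → SD j e O v x → QD j e v x → TD j v x → CD j e v x → LD j e v x →
  ¬ IsConj e (j a) → ¬ IsConj e (e * j a) → UD j e v x

def JobZ : Prop := ∀ (G : Type u) [Group G] [Finite G] (j : X →* G) (e : G) (O : Subgroup G)
  (v x : G), St j e O → SD j e O v x → QD j e v x → CD j e v x → UD j e v x → ZD j v x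

def JobSC : Prop := ∀ (G : Type u) [Group G] [Finite G] (j : X →* G) (e : G) (O : Subgroup G)
  (v x : G), St j e O → SD j e O v x → QD j e v x → TD j v x → CD j e v x → LD j e v x →
  UD j e v x → ZD j v x → cen1 (j z) ≤ nor (QQ j v x)

def JobE : Prop := ∀ (G : Type u) [Group G] [Finite G] (j : X →* G) (e : G) (O : Subgroup G)
  (v x : G), IsSimpleGroup (generalizedFittingSubgroup G) →
  ¬ IsMulCommutative (generalizedFittingSubgroup G) → j.range ≤ generalizedFittingSubgroup G →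
  St j e O → SD j e O v x → QD j e v x → TD j v x → CD j e v x → UD j e v x →
  cen1 (j z) ≤ nor (QQ j v x) → Spor.IsoSuz (generalizedFittingSubgroup G)

end H8.JS
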