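import Cfsg.Agent.H7.HKSSpec
import Cfsg.Agent.H84.Inv

/-! HKS tower, job NRE: the end game of the types A and L. -/

set_option autoImplicit false

namespace H8.HK

open MulAction Cfsg Subgroup H89.K H65 H7.HKS

universe u

variable {G : Type u} [Group G]

theorem conj_into [Finite G] {K H P : Subgroup G} (o : Odd (K.relIndex H)) (p1 : P ≤ H)
    (p2 : IsPGroup 2 P) : ∃ k ∈ H, ∀ x ∈ P, k * x * k⁻¹ ∈ K := by
  haveI : Fact (Nat.Prime 2) := ⟨Nat.prime_two⟩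
  obtain ⟨w, hw⟩ := IsPGroup.nonempty_fixed_point_of_prime_not_dvd_card
    (p2.of_equiv (subgroupOfEquivOfLe p1).symm) (H ⧸ K.subgroupOf H) (Odd.not_two_dvd_nat o)
  obtain ⟨g, rfl⟩ := QuotientGroup.mk_surjective w
  refine ⟨g⁻¹, inv_mem g.2, fun x a => ?_⟩
  have := QuotientGroup.eq.1 (hw ⟨⟨x, p1 a⟩, a⟩).symm
  simpa [mem_subgroupOf, mul_assoc] using this

theorem ord2 {x : G} (h1 : x ≠ 1) (h2 : x * x = 1) : orderOf x = 2 :=
  orderOf_eq_prime (by rw [pow_two, h2]) h1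

theorem sq_of_ord2 {x : G} (h : orderOf x = 2) : x * x = 1 := by
  rw [← pow_two, ← h, pow_orderOf_eq_one]

theorem ne_of_ord2 {x : G} (h : orderOf x = 2) : x ≠ 1 := by
  rintro rfl
  simp at h

/-- A non-trivial element of a `2`-group has an involution among its powers. -/
theorem exists_pow_inv {P : Subgroup G} (hP : IsPGroup 2 P) {x : G} (hx : x ∈ P) (h1 : x ≠ 1) :
    ∃ n : ℕ, x ^ n ≠ 1 ∧ x ^ n * x ^ n = 1 := by
  obtain ⟨k, hk⟩ : ∃ k, x ^ 2 ^ k = 1 := (hP ⟨x, hx⟩).imp fun _ e => congrArg Subtype.val e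
  induction k with
  | zero => exact absurd (by simpa using hk) h1
  | succ k ih =>
    by_cases h : x ^ 2 ^ k = 1
    · exact ih h
    · exact ⟨2 ^ k, h, by rw [← pow_add, ← two_mul, ← pow_succ', hk]⟩

theorem mem_sup_comm {D R : Subgroup G} (hc : R ≤ centralizer (D : Set G)) {s : G}
    (hs : s ∈ D ⊔ R) : ∃ d ∈ D, ∃ r ∈ R, s = d * r := by
  have c : ∀ d ∈ D, ∀ r ∈ R, d * r = r * d := fun d hd r hr => hc hr d hd
  let T : Subgroup G :=
    { carrier := {s | ∃ d ∈ D, ∃ r ∈ R, s = d * r}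
      one_mem' := ⟨1, one_mem _, 1, one_mem _, by simp⟩
      mul_mem' := by
        rintro _ _ ⟨d, hd, r, hr, rfl⟩ ⟨e, he, t, ht, rfl⟩
        exact ⟨d * e, mul_mem hd he, r * t, mul_mem hr ht, by
          rw [mul_assoc, ← mul_assoc r, ← c e he r hr]; group⟩
      inv_mem' := by
        rintro _ ⟨d, hd, r, hr, rfl⟩
        exact ⟨d⁻¹, inv_mem hd, r⁻¹, inv_mem hr, by
          rw [mul_inv_rev, c _ (inv_mem hd) _ (inv_mem hr)]⟩ }
  exact (sup_le (show D ≤ T from fun d hd => ⟨d, hd, 1, one_mem _, by simp⟩)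
    (show R ≤ T from fun r hr => ⟨1, one_mem _, r, hr, by simp⟩)) hs

theorem quat_noncomm (n : ℕ) : ∃ x y : QuaternionGroup (2 ^ (n + 1)), x * y ≠ y * x := by
  refine ⟨.a 1, .xa 0, fun e => ?_⟩
  rw [QuaternionGroup.a_mul_xa, QuaternionGroup.xa_mul_a, QuaternionGroup.xa.injEq] at e
  have h : ((2 : ℕ) : ZMod (2 * 2 ^ (n + 1))) = 0 := by
    push_cast
    linear_combination -e
  have := Nat.le_of_dvd two_pos ((ZMod.natCast_eq_zero_iff _ _).1 h)
  have : 0 < 2 ^ n := by positivity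
  rw [pow_succ] at *
  omega

theorem jobNRE : JobNRE.{u} := by
  intro G _ _ D R k ⟨w, hw, hwk, hc⟩ hk kR uR D2 R2 RD gD hodd nk one alt
  have k2 := sq_of_ord2 hk
  have k1 := ne_of_ord2 hk
  have c : ∀ d ∈ D, ∀ r ∈ R, d * r = r * d := fun d hd r hr => RD hr d hd
  have rk : ∀ r ∈ R, r * k = k * r := fun r hr => by
    have h := uR _ (mul_mem (mul_mem hr kR) (inv_mem hr)) (by
      calc r * k * r⁻¹ * (r * k * r⁻¹) = r * (k * k) * r⁻¹ := by group
        _ = 1 := by rw [k2]; group)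
    rcases h with h | h
    · exact absurd (by simpa [mul_inv_eq_one] using h) k1
    · exact mul_inv_eq_iff_eq_mul.1 h
  have Sk : ∀ s ∈ D ⊔ R, s * k = k * s := fun s hs => by
    obtain ⟨d, hd, r, hr, rfl⟩ := mem_sup_comm RD hs
    rw [mul_assoc, rk r hr, ← mul_assoc, c d hd k kR, mul_assoc]
  have disj : ∀ x ∈ D, x ∈ R → x = 1 := fun x hD hR => by
    by_contra h
    obtain ⟨n, h1, h2⟩ := exists_pow_inv R2 hR h
    have := (uR _ (pow_mem hR n) h2).resolve_left h1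
    exact nk k (this ▸ pow_mem hD n) (IsConj.refl k)
  have S2 : IsPGroup 2 ↥(D ⊔ R) := fun ⟨s, hs⟩ => by
    obtain ⟨d, hd, r, hr, rfl⟩ := mem_sup_comm RD hs
    obtain ⟨i, hi⟩ := D2 ⟨d, hd⟩
    obtain ⟨j, hj⟩ := R2 ⟨r, hr⟩
    have hi : d ^ 2 ^ i = 1 := congrArg Subtype.val hi
    have hj : r ^ 2 ^ j = 1 := congrArg Subtype.val hj
    refine ⟨i + j, Subtype.ext ?_⟩
    show (d * r) ^ 2 ^ (i + j) = 1
    rw [Commute.mul_pow (c d hd r hr), pow_add, pow_mul, hi, one_pow, mul_comm, pow_mul, hj, one_pow,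
      one_mul]
  have inv : ∀ s ∈ D ⊔ R, s * s = 1 → ∃ d ∈ D, d * d = 1 ∧ (s = d ∨ s = d * k) := fun s hs h => by
    obtain ⟨d, hd, r, hr, rfl⟩ := mem_sup_comm RD hs
    have e : d * d * (r * r) = 1 := by
      calc d * d * (r * r) = d * (d * r) * r := by group
        _ = d * (r * d) * r := by rw [c d hd r hr]
        _ = 1 := by rw [← h]; group
    have e1 : d * d = 1 := disj _ (mul_mem hd hd)
      (by rw [eq_inv_of_mul_eq_one_left e]; exact inv_mem (mul_mem hr hr))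
    rw [e1, one_mul] at e
    exact ⟨d, hd, e1, (uR r hr e).imp (fun e => by rw [e, mul_one]) fun e => by rw [e]⟩
  have w2 : w * w = 1 := by
    obtain ⟨g, rfl⟩ := isConj_iff.1 hw
    calc g * k * g⁻¹ * (g * k * g⁻¹) = g * (k * k) * g⁻¹ := by group
      _ = 1 := by rw [k2]; group
  have zw : IsPGroup 2 (zpowers w) := fun ⟨x, n, e⟩ => ⟨1, Subtype.ext (by
    show x ^ 2 ^ 1 = 1
    rw [← e, pow_one, ← zpow_natCast, ← zpow_mul, mul_comm, zpow_mul, zpow_natCast, pow_two, w2,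
      one_zpow])⟩
  obtain ⟨g, hg, hgw⟩ := conj_into hodd (zpowers_le.2 (mem_centralizer_singleton_iff.2 hc)) zw
  have gk : g * k = k * g := mem_centralizer_singleton_iff.1 hg
  have hw' : IsConj k (g * w * g⁻¹) := hw.trans (isConj_iff.2 ⟨g, rfl⟩)
  obtain ⟨d, hd, d2, e | e⟩ := inv _ (hgw w (mem_zpowers w)) (by
    calc g * w * g⁻¹ * (g * w * g⁻¹) = g * (w * w) * g⁻¹ := by group
      _ = 1 := by rw [w2]; group)
  · exact nk d hd (e ▸ hw')
  have d1 : d ≠ 1 := by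
    rintro rfl
    rw [one_mul, mul_inv_eq_iff_eq_mul, ← gk, mul_right_inj] at e
    exact hwk e
  rcases alt with alt | alt
  · exact alt d hd (ord2 d1 d2) (e ▸ hw')
  obtain ⟨r₁, h₁, r₂, h₂, hne⟩ : ∃ r₁ ∈ R, ∃ r₂ ∈ R, r₁ * r₂ ≠ r₂ * r₁ := by
    obtain ⟨n, ⟨e⟩⟩ := (H84.isCyclic_or_quaternion_of_unique_involution R2 fun a ha b hb h1 h2 => by
      rw [(uR a ha (sq_of_ord2 h1)).resolve_left (ne_of_ord2 h1),
        (uR b hb (sq_of_ord2 h2)).resolve_left (ne_of_ord2 h2)]).resolve_left alt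
    obtain ⟨x, y, h⟩ := quat_noncomm n
    refine ⟨_, (e.symm x).2, _, (e.symm y).2, fun e' => h (e.symm.injective ?_)⟩
    rw [map_mul, map_mul]
    exact Subtype.ext e'
  -- the normaliser of `D R` centralises `k`
  have nS : ∀ h : G, (∀ s ∈ D ⊔ R, h * s * h⁻¹ ∈ D ⊔ R) → h * k * h⁻¹ = k := fun h hh => by
    have hn : h ∈ normalizer ((D ⊔ R : Subgroup G) : Set G) := mem_normalizer_fintype hh
    have key : ∀ r ∈ R, ∃ z ∈ D, ∃ t ∈ R, h * r * h⁻¹ = z * t ∧ ∀ x ∈ D, x * z = z * x := by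
      intro r hr
      obtain ⟨z, hz, t, ht, e⟩ := mem_sup_comm RD (hh r (mem_sup_right hr))
      refine ⟨z, hz, t, ht, e, fun x hx => ?_⟩
      have : D ≤ centralizer {h * r * h⁻¹} := by
        rw [← gD, closure_le]
        rintro y ⟨hy, y2⟩
        obtain ⟨f, hf, -, e'⟩ := inv _ ((mem_normalizer_iff.1 (inv_mem hn) y).1 (mem_sup_left hy)) (by
          calc h⁻¹ * y * h⁻¹⁻¹ * (h⁻¹ * y * h⁻¹⁻¹) = h⁻¹ * (y * y) * h := by group
            _ = 1 := by rw [y2]; group)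
        have e2 : h⁻¹ * y * h⁻¹⁻¹ * r = r * (h⁻¹ * y * h⁻¹⁻¹) := by
          rcases e' with e' | e' <;> rw [e']
          · exact c f hf r hr
          · rw [mul_assoc, ← rk r hr, ← mul_assoc, c f hf r hr, mul_assoc]
        refine mem_centralizer_singleton_iff.2 ?_
        calc y * (h * r * h⁻¹) = h * (h⁻¹ * y * h⁻¹⁻¹ * r) * h⁻¹ := by group
          _ = _ := by rw [e2]; group
      have e3 := mem_centralizer_singleton_iff.1 (this hx)
      rw [e, mul_assoc z, ← c x hx t ht, ← mul_assoc, ← mul_assoc] at e3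
      exact mul_right_cancel e3
    obtain ⟨z₁, a₁, t₁, b₁, e₁, c₁⟩ := key r₁ h₁
    obtain ⟨z₂, a₂, t₂, b₂, e₂, -⟩ := key r₂ h₂
    have hm : r₁ * r₂ * r₁⁻¹ * r₂⁻¹ ∈ R := mul_mem (mul_mem (mul_mem h₁ h₂) (inv_mem h₁)) (inv_mem h₂)
    obtain ⟨n, p1, p2⟩ := exists_pow_inv R2 hm fun e => hne (by
      rwa [mul_inv_eq_one, mul_inv_eq_iff_eq_mul] at e)
    have ek := (uR _ (pow_mem hm n) p2).resolve_left p1
    have e3 : h * (r₁ * r₂ * r₁⁻¹ * r₂⁻¹) * h⁻¹ = t₁ * t₂ * t₁⁻¹ * t₂⁻¹ := by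
      have f : z₁ * t₁ * (z₂ * t₂) = (t₁ * t₂ * t₁⁻¹ * t₂⁻¹) * (z₂ * t₂ * (z₁ * t₁)) := by
        have g1 : z₁ * t₁ * (z₂ * t₂) = t₁ * t₂ * (z₁ * z₂) := by
          rw [← c _ (mul_mem a₁ a₂) _ (mul_mem b₁ b₂), mul_assoc z₁, ← mul_assoc t₁, ← c _ a₂ _ b₁]
          group
        have g2 : z₂ * t₂ * (z₁ * t₁) = t₂ * t₁ * (z₁ * z₂) := by
          rw [← c₁ _ a₂, ← c _ (mul_mem a₂ a₁) _ (mul_mem b₂ b₁), mul_assoc z₂, ← mul_assoc t₂,
            ← c _ a₁ _ b₂]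
          group
        rw [g1, g2]
        group
      calc _ = (h * r₁ * h⁻¹) * (h * r₂ * h⁻¹) * ((h * r₂ * h⁻¹) * (h * r₁ * h⁻¹))⁻¹ := by group
        _ = _ := by rw [e₁, e₂, f]; group
    have e4 : h * k * h⁻¹ ∈ R := by
      rw [← ek, ← conj_pow, e3]
      exact pow_mem (mul_mem (mul_mem (mul_mem b₁ b₂) (inv_mem b₁)) (inv_mem b₂)) n
    refine (uR _ e4 ?_).resolve_left fun e => k1 (by simpa [mul_inv_eq_one] using e)
    calc h * k * h⁻¹ * (h * k * h⁻¹) = h * (k * k) * h⁻¹ := by group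
      _ = 1 := by rw [k2]; group
  obtain ⟨z, hz, z2, zc⟩ := H84.exists_central_orderOf D2 (by
    rintro rfl
    exact d1 (mem_bot.1 hd))
  obtain ⟨f, fk, e'⟩ := one d hd z hz (ord2 d1 d2) z2
  have hzk : IsConj (z * k) k := by
    refine (hw'.trans (isConj_iff.2 ⟨f, ?_⟩)).symm
    rw [e, ← e', mul_assoc (f * d), ← mul_assoc f, mul_assoc (f * d)]
    congr 1
    rw [mul_inv_eq_iff_eq_mul, mul_assoc, ← fk, inv_mul_cancel_left]
  obtain ⟨h, eh⟩ := isConj_iff.1 hzk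
  have Sz : ∀ s ∈ D ⊔ R, s * (z * k) = z * k * s := fun s hs => by
    have : s * z = z * s := by
      obtain ⟨d, hd, r, hr, rfl⟩ := mem_sup_comm RD hs
      rw [mul_assoc, ← c z hz r hr, ← mul_assoc, (zc d hd).eq, mul_assoc]
    rw [← mul_assoc, this, mul_assoc, Sk s hs, mul_assoc]
  obtain ⟨l, hl, hls⟩ := conj_into (P := (D ⊔ R).map (MulAut.conj h).toMonoidHom) hodd (by
    rintro _ ⟨s, hs, rfl⟩
    refine mem_centralizer_singleton_iff.2 ?_
    show h * s * h⁻¹ * k = k * (h * s * h⁻¹)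
    rw [← eh]
    calc _ = h * (s * (z * k)) * h⁻¹ := by group
      _ = _ := by rw [Sz s hs]; group) (S2.map _)
  have lk : l * k = k * l := mem_centralizer_singleton_iff.1 hl
  have e5 := nS (l * h) fun s hs => by
    have := hls _ ⟨s, hs, rfl⟩
    simpa [mul_assoc] using this
  have e6 : l * h * (z * k) * (l * h)⁻¹ = k := by
    calc _ = l * (h * (z * k) * h⁻¹) * l⁻¹ := by group
      _ = k := by rw [eh, lk]; group
  have e7 : z * k = k := by
    have := e6.trans e5.symm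
    simpa using this
  exact ne_of_ord2 z2 (by simpa using e7)

end H8.HK
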