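import Cfsg.Agent.H8.HKNRE

/-! HKS tower, job NRb: the kit of chapter NR. -/

set_option autoImplicit false

namespace H8.HK

open MulAction Cfsg Subgroup H89.K H65 H7.HKS

universe u

variable {G Ω : Type u} [Group G] [Finite G] [MulAction G Ω] {U : Ω → Subgroup G} {p : ℕ}

omit [Finite G] in
theorem conj_U (h : Sp U) {g u : G} {a : Ω} (hg : g • a = a) (hu : u ∈ U a) : g * u * g⁻¹ ∈ U a := by
  have := h.conj g a u hu
  rwa [hg] at this

omit [Finite G] in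
theorem smul_ne (h : Sp U) {u : G} {a b : Ω} (hab : a ≠ b) (hu : u ∈ U a) : u • b ≠ a := fun e =>
  hab (smul_left_cancel u ((h.fix a u hu).trans e.symm))

omit [Finite G] in
theorem smul_mem_Fx {V : Set G} {g : G} (hg : ∀ v ∈ V, g⁻¹ * v * g ∈ V) {c : Ω} (hc : c ∈ Fx Ω V) :
    g • c ∈ Fx Ω V := fun v hv => by
  have := hc _ (hg v hv)
  rwa [mul_smul, mul_smul, inv_smul_eq_iff] at this

omit [Finite G] in
theorem cent_mem_Fx {V : Set G} {g : G} (hg : g ∈ centralizer V) {c : Ω} (hc : c ∈ Fx Ω V) :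
    g • c ∈ Fx Ω V := smul_mem_Fx (fun v hv => by
  rwa [mul_assoc, hg v hv, inv_mul_cancel_left]) hc

omit [Finite G] in
theorem norm_mem_Fx {X : Subgroup G} {g : G} (hg : g ∈ normalizer (X : Set G)) {c : Ω}
    (hc : c ∈ Fx Ω (X : Set G)) : g • c ∈ Fx Ω (X : Set G) := smul_mem_Fx (fun v hv => by
  simpa using (mem_normalizer_iff.1 (inv_mem hg) v).1 hv) hc

/-- Orbit and stabiliser for a subgroup. -/
theorem orbit_card (W : Subgroup G) (b : Ω) :
    {c | ∃ u ∈ W, u • b = c}.ncard * Nat.card ↥(W ⊓ stabilizer G b) = Nat.card W := by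
  have e1 : {c | ∃ u ∈ W, u • b = c} = orbit W b :=
    Set.ext fun c => ⟨fun ⟨u, hu, e⟩ => ⟨⟨u, hu⟩, e⟩, fun ⟨u, e⟩ => ⟨u, u.2, e⟩⟩
  have e2 : Nat.card ↥(W ⊓ stabilizer G b) = Nat.card (stabilizer W b) := by
    rw [← card_map_of_injective W.subtype_injective]
    congr 2
    ext x
    exact ⟨fun hx => ⟨⟨x, hx.1⟩, hx.2, rfl⟩, by rintro ⟨y, hy, rfl⟩; exact ⟨y.2, hy⟩⟩
  rw [e1, e2, ← Nat.card_coe_set_eq, ← Nat.card_prod]
  exact Nat.card_congr (orbitProdStabilizerEquivGroup W b)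

/-- A `2`-group fixing `a`, `b`, `c` centralises an element of `U a` moving `b` to `c`. -/
theorem exists_cent (h : Pre U) {V : Set G} (hV : IsPGroup 2 (closure V)) {a b c : Ω} (hab : a ≠ b)
    (hca : c ≠ a) (hs : V ⊆ St G a b) (hc : c ∈ Fx Ω V) : ∃ u ∈ CU U V a, u • b = c := by
  haveI : Fact (Nat.Prime 2) := ⟨Nat.prime_two⟩
  have hQ : closure V ≤ St G a b ⊓ stabilizer G c := (closure_le _).2 fun v hv => ⟨hs hv, hc v hv⟩
  letI : MulAction (closure V) {u : G // u ∈ U a ∧ u • b = c} :=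
    { smul := fun q u => ⟨q * u * (q : G)⁻¹, conj_U h.toSp (hQ q.2).1.1 u.2.1, by
        have := (conj_smul_eq (g := (q : G))).2 u.2.2
        rwa [(hQ q.2).1.2, (hQ q.2).2] at this⟩
      one_smul := fun u => Subtype.ext (show (1 : G) * u * 1⁻¹ = u by group)
      mul_smul := fun q r u => Subtype.ext
        (show (q : G) * r * u * ((q : G) * r)⁻¹ = q * (r * u * (r : G)⁻¹) * (q : G)⁻¹ by group) }
  obtain ⟨u₀, h₀, e₀⟩ := h.tr hab.symm hca
  have e : Nat.card {u : G // u ∈ U a ∧ u • b = c} = Nat.card (Xs U a b) := Nat.card_congr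
    { toFun := fun u => ⟨u₀⁻¹ * u, (U a).mul_mem ((U a).inv_mem h₀) u.2.1,
        mem_stabilizer_iff.2 (by rw [mul_smul, u.2.2, inv_smul_eq_iff, e₀])⟩
      invFun := fun x => ⟨u₀ * x, mul_mem h₀ x.2.1, by rw [mul_smul, x.2.2, e₀]⟩
      left_inv := fun u => Subtype.ext (by simp)
      right_inv := fun u => Subtype.ext (by simp) }
  obtain ⟨u, hu⟩ := hV.nonempty_fixed_point_of_prime_not_dvd_card {u : G // u ∈ U a ∧ u • b = c}
    (by
      rw [e]
      exact ((h.odd a).of_dvd_nat (card_dvd_of_le inf_le_left)).not_two_dvd_nat)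
  refine ⟨u, ⟨u.2.1, fun v hv => ?_⟩, u.2.2⟩
  have : v * u * v⁻¹ = u := congrArg Subtype.val (hu ⟨v, subset_closure hv⟩)
  exact mul_inv_eq_iff_eq_mul.1 this

theorem fx_iff (h : Pre U) {V : Set G} (hV : IsPGroup 2 (closure V)) {a b : Ω} (hab : a ≠ b)
    (hs : V ⊆ St G a b) (c : Ω) : c ∈ Fx Ω V ↔ c = a ∨ ∃ u ∈ CU U V a, u • b = c := by
  refine ⟨fun hc => or_iff_not_imp_left.2 fun hca => exists_cent h hV hab hca hs hc, ?_⟩
  rintro (rfl | ⟨u, hu, rfl⟩)
  · exact fun v hv => (hs hv).1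
  · exact cent_mem_Fx hu.2 fun v hv => (hs hv).2

theorem fx_card (h : Pre U) {V : Set G} (hV : IsPGroup 2 (closure V)) {a b : Ω} (hab : a ≠ b)
    (hs : V ⊆ St G a b) : ∃ m, (Fx Ω V).ncard = m + 1 ∧
      m * Nat.card ↥(Xs U a b ⊓ centralizer V) = Nat.card (CU U V a) := by
  have := h.t2.finite
  refine ⟨{c | ∃ u ∈ CU U V a, u • b = c}.ncard, ?_, ?_⟩
  · rw [← Set.ncard_insert_of_notMem (a := a) (s := {c | ∃ u ∈ CU U V a, u • b = c})
      fun ⟨u, hu, e⟩ => smul_ne h.toSp hab hu.1 e]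
    exact congrArg _ (Set.ext (fx_iff h hV hab hs))
  · rw [← orbit_card (CU U V a) b, inf_right_comm]

theorem fx_fix (h : NRa U p) {V : Set G} (hV : IsPGroup 2 (closure V)) {a b : Ω} (hab : a ≠ b)
    (hs : V ⊆ St G a b) (h1 : ∃ v ∈ V, v ≠ 1) {x : G} (hx : x ∈ Xs U a b ⊓ centralizer V) {c : Ω}
    (hc : c ∈ Fx Ω V) : x • c = c := by
  have := h.t2.finite
  have ha : a ∈ Fx Ω V := fun v hv => (hs hv).1
  have hb : b ∈ Fx Ω V := fun v hv => (hs hv).2
  by_cases hca : c = a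
  · exact hca ▸ h.fix a x hx.1.1
  by_cases hcb : c = b
  · exact hcb ▸ hx.1.2
  obtain ⟨Y, _, _, _, π, hπ, hr⟩ := h.loc V hV h1
    ((Set.two_lt_ncard_iff (Set.toFinite _)).2 ⟨a, b, c, ha, hb, hc, hab, Ne.symm hca, Ne.symm hcb⟩)
  refine hπ.eq_one_iff.1 (hr.reg (a := ⟨a, ha⟩) (b := ⟨b, hb⟩)
    (fun e => hab (congrArg Subtype.val e).symm) (π ⟨x, hx.2⟩) ⟨_, hx.1.1, rfl⟩
    (hπ.smul_eq_iff.2 hx.1.2)) c hc

omit [Finite G] in
theorem two_closure {V : Set G} (h2 : ∀ v ∈ V, v * v = 1) (hc : ∀ v ∈ V, ∀ w ∈ V, v * w = w * v) :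
    IsPGroup 2 (closure V) := fun ⟨x, hx⟩ => ⟨1, Subtype.ext (by
  show x ^ 2 ^ 1 = 1
  rw [pow_one, pow_two]
  have c : ∀ x ∈ closure V, ∀ y ∈ closure V, x * y = y * x := fun x hx y hy =>
    congrArg Subtype.val ((isMulCommutative_closure hc).is_comm.comm (⟨x, hx⟩ : closure V) ⟨y, hy⟩)
  induction hx using closure_induction with
  | mem x hx => exact h2 x hx
  | one => simp
  | mul x y hx hy e1 e2 =>
    calc x * y * (x * y) = x * (y * x) * y := by group
      _ = x * x * (y * y) := by rw [c y hy x hx]; group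
      _ = 1 := by rw [e1, e2, one_mul]
  | inv x _ e => rw [← mul_inv_rev, e, inv_one])⟩

omit [Finite G] in
theorem two_single {t : G} (ht : t * t = 1) : IsPGroup 2 (closure {t}) :=
  two_closure (by rintro _ rfl; exact ht) (by rintro _ rfl _ rfl; rfl)

theorem norm_U (h : Sp U) {g : G} {a : Ω} (hg : g • a = a) : g ∈ normalizer (U a : Set G) :=
  mem_normalizer_fintype fun _ hu => conj_U h hg hu

theorem norm_X (h : Sp U) {g : G} {a b : Ω} (hg : g ∈ St G a b) :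
    g ∈ normalizer (Xs U a b : Set G) :=
  mem_normalizer_fintype fun u hu => ⟨conj_U h hg.1 hu.1, by
    have := (conj_smul_eq (g := g)).2 (show u • b = b from hu.2)
    rwa [show g • b = b from hg.2] at this⟩

theorem wie (k1 : Kit1.{u}) (h : Pre U) {a b : Ω} (t v : G) (hab : a ≠ b) (ht : t ∈ St G a b)
    (hv : v ∈ St G a b) (t2 : t * t = 1) (v2 : v * v = 1) (hc : t * v = v * t) :
    (Nat.card Ω - 1) * ((Fx Ω {t, v}).ncard - 1) ^ 2 =
      ((Fx Ω {t}).ncard - 1) * ((Fx Ω {v}).ncard - 1) * ((Fx Ω {t * v}).ncard - 1) := by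
  have w1 := (k1.wie (U a) t v (h.odd a) (norm_U h.toSp ht.1) (norm_U h.toSp hv.1) t2 v2 hc).1
  have w2 := (k1.wie (Xs U a b) t v ((h.odd a).of_dvd_nat (card_dvd_of_le inf_le_left))
    (norm_X h.toSp ht) (norm_X h.toSp hv) t2 v2 hc).1
  obtain ⟨m₀, a₀, b₀⟩ := fx_card h (V := ∅) (two_closure (by simp) (by simp)) hab (by simp)
  obtain ⟨m₁, a₁, b₁⟩ := fx_card h (V := {t, v}) (two_closure (by simp [t2, v2]) (by simp [hc])) hab
    (by rintro _ (rfl | rfl) <;> assumption)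
  obtain ⟨m₂, a₂, b₂⟩ := fx_card h (two_single t2) hab (by simpa using ht)
  obtain ⟨m₃, a₃, b₃⟩ := fx_card h (two_single v2) hab (by simpa using hv)
  obtain ⟨m₄, a₄, b₄⟩ := fx_card h (V := {t * v}) (two_single (by
    calc t * v * (t * v) = t * (v * t) * v := by group
      _ = t * t * (v * v) := by rw [← hc]; group
      _ = 1 := by rw [t2, v2, one_mul])) hab (by simpa using mul_mem ht hv)
  have e0 : Fx Ω (∅ : Set G) = Set.univ := Set.eq_univ_of_forall fun _ _ h => h.elim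
  have e1 : centralizer (∅ : Set G) = ⊤ := eq_top_iff.2 fun _ _ _ h => h.elim
  rw [e0, Set.ncard_univ] at a₀
  rw [CU, e1, inf_top_eq, inf_top_eq] at b₀
  rw [a₀, a₁, a₂, a₃, a₄]
  simp only [Nat.add_sub_cancel]
  simp only [CU] at b₁ b₂ b₃ b₄
  rw [← b₀, ← b₁, ← b₂, ← b₃, ← b₄] at w1
  refine Nat.eq_of_mul_eq_mul_right (m := Nat.card (Xs U a b) *
    Nat.card ↥(Xs U a b ⊓ centralizer {t, v}) ^ 2) (Nat.mul_pos Nat.card_pos (pow_pos Nat.card_pos 2)) ?_
  calc _ = _ := by ring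
    _ = _ := w1
    _ = _ := by rw [w2]; ring

omit [Finite G] in
theorem mem_Ln (h : Sp U) (a b : Ω) : a ∈ Ln U a b ∧ b ∈ Ln U a b :=
  ⟨fun x hx => h.fix a x hx.1, fun _ hx => hx.2⟩

theorem eq_one_of_sq {W : Subgroup G} (ho : Odd (Nat.card W)) {u : G} (hu : u ∈ W) (h : u * u = 1) :
    u = 1 := by
  by_contra h1
  exact ho.not_two_dvd_nat (ord2 h1 h ▸ orderOf_dvd_natCard W hu)

theorem nr2 (h : NRa U p) {a b : Ω} (hab : a ≠ b) {t : G} (ht : t ∈ centralizer (Xs U a b : Set G))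
    (t2 : t * t = 1) (hF : ∀ c ∈ Ln U a b, t • c = c) : t = 1 := by
  by_contra t1
  obtain ⟨ha, hb⟩ := mem_Ln h.toSp a b
  have hs : ({t} : Set G) ⊆ St G a b := by
    rintro _ rfl
    exact ⟨hF a ha, hF b hb⟩
  have hX : Xs U a b ≤ centralizer {t} := fun x hx => mem_centralizer_singleton_iff.2 (ht x hx)
  have e : Fx Ω {t} = Ln U a b := Set.ext fun c =>
    ⟨fun hc x hx => fx_fix h (two_single t2) hab hs ⟨t, rfl, t1⟩ ⟨hx, hX hx⟩ hc,
      fun hc => by rintro _ rfl; exact hF c hc⟩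
  have key : ∀ u ∈ U a, u ∈ centralizer (Xs U a b : Set G) → u ∈ centralizer {t} := fun u hu hc => by
    obtain ⟨w, hw, e'⟩ := exists_cent h.toPre (two_single t2) hab (smul_ne h.toSp hab hu) hs
      (e ▸ cent_mem_Fx hc hb)
    have : w⁻¹ * u ∈ Xs U a b := ⟨(U a).mul_mem ((U a).inv_mem hw.1) hu,
      mem_stabilizer_iff.2 (by rw [mul_smul, inv_smul_eq_iff, e'])⟩
    simpa using mul_mem hw.2 (hX this)
  have hlt : (centralizer {t}).subgroupOf (U a) < ⊤ := lt_top_iff_ne_top.2 fun e' => by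
    refine t1 (h.t2.faith t fun c => ?_)
    by_cases hca : c = a
    · exact hca ▸ hF a ha
    · obtain ⟨u, hu, rfl⟩ := h.tr hab.symm hca
      have : (⟨u, hu⟩ : U a) ∈ (centralizer {t}).subgroupOf (U a) := e' ▸ mem_top _
      exact cent_mem_Fx (V := {t}) this (e ▸ hb) t rfl
  have := h.nil a
  obtain ⟨g, g1, g2⟩ := SetLike.exists_of_lt (Group.normalizerCondition_of_isNilpotent _ hlt)
  have ti : t⁻¹ = t := inv_eq_of_mul_eq_one_left t2
  have hu : (g : G)⁻¹ * (t * g * t⁻¹) ∈ U a := mul_mem (inv_mem g.2) (conj_U h.toSp (hF a ha) g.2)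
  have hc : (g : G)⁻¹ * (t * g * t⁻¹) ∈ centralizer (Xs U a b : Set G) := fun x hx => by
    have e1 : (g : G) * x * (g : G)⁻¹ * t = t * (g * x * (g : G)⁻¹) :=
      mem_centralizer_singleton_iff.1 ((mem_normalizer_iff.1 g1 ⟨x, hx.1⟩).1 (hX hx))
    have e2 : x * t⁻¹ = t⁻¹ * x := by rw [ti]; exact ht x hx
    calc x * ((g : G)⁻¹ * (t * g * t⁻¹)) = (g : G)⁻¹ * (g * x * (g : G)⁻¹ * t) * g * t⁻¹ := by group
      _ = (g : G)⁻¹ * t * g * (x * t⁻¹) := by rw [e1]; group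
      _ = _ := by rw [e2]; group
  have e3 := mem_centralizer_singleton_iff.1 (key _ hu hc)
  have e4 := eq_one_of_sq (h.odd a) hu (by
    calc _ = ((g : G)⁻¹ * (t * g * t⁻¹)) * (g : G)⁻¹ * (t * g * t⁻¹) := by group
      _ = ((g : G)⁻¹ * (t * g * t⁻¹)) * t * (t⁻¹ * (g : G)⁻¹ * t * g * t⁻¹) := by group
      _ = 1 := by
        rw [e3, ti]
        calc _ = t * (g : G)⁻¹ * t * g * (t * t) * (g : G)⁻¹ * t * g * t := by group
          _ = t * (g : G)⁻¹ * (t * t) * g * t := by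
            rw [t2, mul_one, mul_inv_cancel_right, mul_assoc (t * _) t t, t2]
          _ = 1 := by rw [t2, mul_one, inv_mul_cancel_right, t2])
  refine g2 (mem_centralizer_singleton_iff.2 ?_)
  rw [inv_mul_eq_one, eq_mul_inv_iff_mul_eq] at e4
  exact e4

theorem ls (h : NRa U p) {a b : Ω} (hab : a ≠ b) : LS U a b ≤ centralizer (Xs U a b : Set G) ∧
    normalizer (Xs U a b : Set G) ≤ normalizer (LS U a b : Set G) ∧
    (∀ k : G, (∀ c ∈ Ln U a b, k • c = c) → ∀ l ∈ LS U a b, k * l = l * k) ∧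
    (∀ c ∈ Ln U a b, ∀ d ∈ Ln U a b, ∃ l ∈ LS U a b, l • c = d) ∧
    ∀ l ∈ LS U a b, (∀ c ∈ Ln U a b, l • l • c = c) →
      ∃! t : G, t ∈ LS U a b ∧ t * t = 1 ∧ ∀ c ∈ Ln U a b, t • c = l • c := by
  obtain ⟨ha, hb⟩ := mem_Ln h.toSp a b
  have oth : ∀ c : Ω, ∃ d ∈ Ln U a b, d ≠ c := fun c => by
    by_cases e : a = c
    · exact ⟨b, hb, e ▸ hab.symm⟩
    · exact ⟨a, ha, e⟩
  have le : ∀ c ∈ Ln U a b, Zc U c ≤ LS U a b := fun c hc => le_iSup₂_of_le (f := fun c _ => Zc U c)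
    c hc le_rfl
  have h1 : LS U a b ≤ centralizer (Xs U a b : Set G) := iSup₂_le fun c hc z hz x hx => by
    obtain ⟨d, hd, e⟩ := oth c
    rw [← h.sym hab e.symm hc hd] at hx
    exact hz.2 x hx.1
  have h2 : normalizer (Xs U a b : Set G) ≤ normalizer (LS U a b : Set G) := fun g hg =>
    mem_normalizer_fintype fun l hl => by
      have : LS U a b ≤ (LS U a b).comap (MulAut.conj g).toMonoidHom := iSup₂_le fun c hc z hz =>
        le _ (norm_mem_Fx hg hc) (h.zsr.conj g c z hz)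
      exact this hl
  have h3 : ∀ k : G, (∀ c ∈ Ln U a b, k • c = c) → ∀ l ∈ LS U a b, k * l = l * k := fun k hk l hl => by
    have : LS U a b ≤ centralizer {k} := iSup₂_le fun c hc z hz => by
      obtain ⟨d, hd, e⟩ := oth c
      have e1 := h.zsr.conj k c z hz
      rw [hk c hc] at e1
      have e2 := h.zsr.reg e _ (mul_mem (inv_mem hz) e1) (by
        rw [mul_smul, mul_smul, mul_smul, inv_smul_eq_iff.2 (hk d hd).symm,
          hk _ (cent_mem_Fx (h1 (le c hc hz)) hd), inv_smul_smul])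
      rw [inv_mul_eq_one, eq_mul_inv_iff_mul_eq] at e2
      exact mem_centralizer_singleton_iff.2 e2
    exact (mem_centralizer_singleton_iff.1 (this hl)).symm
  refine ⟨h1, h2, h3, fun c hc d hd => ?_, fun l hl h4 => ?_⟩
  · obtain ⟨Y, _, _, _, π, hπ, hr⟩ := h.quo hab
    haveI : ((LS U a b).subgroupOf (normalizer (Xs U a b : Set G))).Normal :=
      ⟨fun n hn g => (mem_normalizer_iff.1 (h2 g.2) n).1 hn⟩
    haveI := Normal.map this π hπ.surj
    obtain ⟨z, hz, z1⟩ : ∃ z ∈ Zc U a, z ≠ 1 := by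
      by_contra! e
      have := h.zne a
      rw [(eq_bot_iff_forall _).2 e, card_bot] at this
      exact h.prime.one_lt.ne' (Nat.dvd_one.1 this)
    obtain ⟨_, ⟨l, hl, rfl⟩, e⟩ := hr.t2.normal_trans
      (((LS U a b).subgroupOf (normalizer (Xs U a b : Set G))).map π) (fun e => by
        have : π ⟨z, centralizer_le_normalizer _ (h1 (le a ha hz))⟩ ∈ (⊥ : Subgroup Y) :=
          e ▸ ⟨_, le a ha hz, rfl⟩
        exact z1 (h.zsr.reg hab.symm z hz (hπ.eq_one_iff.1 (mem_bot.1 this) b hb)))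
      ⟨c, hc⟩ ⟨d, hd⟩
    exact ⟨l, hl, hπ.smul_eq_iff.1 e⟩
  · have pw : ∀ n : ℕ, ∀ c ∈ Ln U a b, (l * l) ^ n • c = c := fun n c hc =>
      pow_mem (show l * l ∈ stabilizer G c by rw [mem_stabilizer_iff, mul_smul, h4 c hc]) n
    obtain ⟨j, hj⟩ : Odd (orderOf (l * l)) := Nat.not_even_iff_odd.1 fun ⟨j, hj⟩ => by
      have e := nr2 h hab (h1 (pow_mem (mul_mem hl hl) j))
        (by rw [← pow_add, ← hj, pow_orderOf_eq_one]) (pw j)
      have := Nat.le_of_dvd (by have := orderOf_pos (l * l); omega) (orderOf_dvd_of_pow_eq_one e)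
      have := orderOf_pos (l * l)
      omega
    have sq : l * (l * l) ^ j * (l * (l * l) ^ j) = 1 := by
      rw [← pow_orderOf_eq_one (l * l), hj]
      simp only [← pow_two, ← pow_mul, ← pow_succ', ← pow_add]
      congr 1
      ring
    refine ⟨l * (l * l) ^ j, ⟨mul_mem hl (pow_mem (mul_mem hl hl) j), sq, fun c hc => by
      rw [mul_smul, pw j c hc]⟩, ?_⟩
    · have uq : ∀ t s : G, t ∈ LS U a b → s ∈ LS U a b → t * t = 1 → s * s = 1 →
          (∀ c ∈ Ln U a b, t • c = s • c) → t = s := fun t s ht hs t2 s2 e => by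
        have f : ∀ c ∈ Ln U a b, (s⁻¹ * t) • c = c := fun c hc => by
          rw [mul_smul, e c hc, inv_smul_smul]
        have si : s⁻¹ = s := inv_eq_of_mul_eq_one_left s2
        refine (inv_mul_eq_one.1 (nr2 h hab (h1 (mul_mem (inv_mem hs) ht)) ?_ f)).symm
        have := h3 _ f s hs
        rw [si] at this ⊢
        calc s * t * (s * t) = s * t * s * t := by group
          _ = 1 := by rw [this, ← mul_assoc, s2, one_mul, t2]
      rintro t ⟨ht, t2, e⟩
      exact uq _ _ ht (mul_mem hl (pow_mem (mul_mem hl hl) j)) t2 sq fun c hc => by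
        rw [mul_smul, pw j c hc, e c hc]

theorem jobNRb (k1 : Kit1.{u}) : JobNRb.{u} := fun _ _ _ _ _ _ _ h =>
  { toNRa := h
    fx := fun _ hab hV hs => ⟨fx_iff h.toPre hV hab hs, (fx_card h.toPre hV hab hs).imp
      fun _ e => ⟨e.1, e.2, fun h1 _ hx _ hc => fx_fix h hV hab hs h1 hx hc⟩⟩
    wie := fun t v => wie k1 h.toPre t v
    nr2 := fun hab _ => nr2 h hab
    ls := ls h }

end H8.HK
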