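import Cfsg.Agent.H8.BCW

/-! A nonmetacyclic bicyclic 2-group with an essential subgroup has cyclic derived subgroup. -/

set_option autoImplicit false

universe u

namespace H8.BC

open Subgroup Cfsg H9 H92
open scoped commutatorElement

variable {G : Type u} [Group G] {Q : Subgroup G} {s : G} {σ : MulAut Q}

/-- The commutator `[Q, σ]`. -/
def cm (σ : MulAut Q) : Subgroup G := closure {x | ∃ y ∈ Q, x = y⁻¹ * af σ y}

theorem mem_cm {y : G} (hy : y ∈ Q) : y⁻¹ * af σ y ∈ cm σ := subset_closure ⟨y, hy, rfl⟩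

theorem cm_le_of {K : Subgroup G} (h : ∀ y ∈ Q, y⁻¹ * af σ y ∈ K) : cm σ ≤ K :=
  (closure_le _).2 (by rintro _ ⟨y, hy, rfl⟩; exact h y hy)

theorem cm_le : cm σ ≤ Q := cm_le_of fun _ hy => mul_mem (inv_mem hy) (af_mem σ hy)

theorem cm_conj {q r : G} (hq : q ∈ Q) (hr : r ∈ cm σ) : q * r * q⁻¹ ∈ cm σ :=
  cm_le_of (K := (cm σ).comap (MulAut.conj q).toMonoidHom) (fun y hy => by
    have h1 := mul_mem (mem_cm (σ := σ) (mul_mem hy (inv_mem hq))) (inv_mem (mem_cm (inv_mem hq)))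
    rw [(mulOn_af σ).map_mul hy (inv_mem hq)] at h1
    simpa [mul_assoc] using h1) hr

theorem cm_sig {r : G} (hr : r ∈ cm σ) : af σ r ∈ cm σ := by
  induction hr using closure_induction with
  | mem x hx =>
    obtain ⟨y, hy, rfl⟩ := hx
    rw [(mulOn_af σ).map_mul (inv_mem hy) (af_mem σ hy), (mulOn_af σ).map_inv hy]
    exact mem_cm (af_mem σ hy)
  | one => rw [(mulOn_af σ).map_one]; exact one_mem _
  | mul x y hx hy h1 h2 => rw [(mulOn_af σ).map_mul (cm_le hx) (cm_le hy)]; exact mul_mem h1 h2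
  | inv x hx h1 => rw [(mulOn_af σ).map_inv (cm_le hx)]; exact inv_mem h1

namespace LD

variable (h : LD Q s σ)
include h

theorem t3 {B : Subgroup G} (hc : ∀ y ∈ cm σ, ∀ z ∈ cm σ, ⁅y, z⁆ ∈ B) {r : G} (hr : r ∈ cm σ) :
    r * af σ r * af σ (af σ r) ∈ B := by
  have m := mulOn_af σ
  have h1 : ∀ b ∈ cm σ, b ∈ B → ∀ y ∈ cm σ, y * b * y⁻¹ ∈ B := fun b hb hb' y hy => by
    simpa [commutatorElement_def] using mul_mem (hc y hy b hb) hb'
  have h2 : ∀ a ∈ cm σ, ∀ x ∈ cm σ, ∀ y ∈ cm σ, ∀ c ∈ cm σ, a * (x * y) * c ∈ B → a * (y * x) * c ∈ B :=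
    fun a ha x hx y hy c hc' e => by
      simpa [commutatorElement_def, mul_assoc] using mul_mem (h1 _ (mul_mem (mul_mem (mul_mem hy hx)
        (inv_mem hy)) (inv_mem hx)) (hc y hy x hx) a ha) e
  induction hr using closure_induction with
  | mem x hx =>
    obtain ⟨y, hy, rfl⟩ := hx
    have h3 := af_mem σ hy
    rw [m.map_mul (inv_mem hy) h3, m.map_inv hy, m.map_mul (inv_mem h3) (af_mem σ h3), m.map_inv h3, h.af3]
    simp
  | one => simp [m.map_one]
  | mul x y hx hy h3 h4 =>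
    have x1 := cm_sig hx
    have y1 := cm_sig hy
    have x2 := cm_sig x1
    have h5 := h2 x hx _ (mul_mem x1 x2) y hy _ (mul_mem y1 (cm_sig y1)) (by
      simpa only [mul_assoc] using mul_mem h3 h4)
    have h6 := h2 _ (mul_mem (mul_mem hx hy) x1) _ x2 _ y1 _ (cm_sig y1) (by
      simpa only [mul_assoc] using h5)
    rw [m.map_mul (cm_le hx) (cm_le hy), m.map_mul (cm_le x1) (cm_le y1)]
    simpa only [mul_assoc] using h6
  | inv x hx h3 =>
    have x1 := cm_sig hx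
    have x2 := cm_sig x1
    have h5 := h2 1 (one_mem _) _ (inv_mem x2) _ (inv_mem (mul_mem hx x1)) 1 (one_mem _) (by
      simpa [mul_assoc] using inv_mem h3)
    have h6 := h2 1 (one_mem _) _ (inv_mem x1) _ (inv_mem hx) _ (inv_mem x2) (by
      simpa [mul_assoc] using h5)
    rw [m.map_inv (cm_le hx), m.map_inv (cm_le x1)]
    simpa using h6

variable [Finite G] (hG : IsPGroup 2 G)
include hG

theorem cm_inv : Inv Q s σ (cm σ) := by
  refine ⟨cm_le, fun _ => cm_sig, fun r hr => cm_le_of (K := (cm σ).comap (MulAut.conj s).toMonoidHom)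
    (fun y hy => ?_) hr, by_contra fun e => h.ne (MulEquiv.ext fun x =>
      mulAut_fixes_of_fixes_commutator (hG.to_subgroup Q) σ h.cop (Subtype.ext ?_))⟩
  · have h1 := inv_mem (mem_cm (σ := σ) (h.sn _ (af_mem σ hy)))
    rw [h.inv y hy] at h1
    simpa [mul_assoc] using h1
  · rw [← af_coe, Subgroup.coe_mul, Subgroup.coe_inv, ← af_coe]
    exact by_contra fun e' => e ⟨_, mem_cm x.2, e'⟩

theorem cm_d2 (hi : (frattini (cm σ)).index ≤ 2 ^ 3) : (frattini (cm σ)).index ≤ 2 ^ 2 := by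
  have hR := hG.to_subgroup (cm σ)
  have hc := fun y hy z hz => commutator_mem_phi hR (y := y) (z := z) hy hz
  obtain ⟨d, π, hπ, hd⟩ := exists_coord 2 hc fun y hy => pow_mem_phi hR hy
  rw [relIndex_phi] at hd
  rw [hd, Nat.pow_le_pow_iff_right (by decide)] at hi ⊢
  by_contra h1
  obtain rfl : d = 3 := by omega
  obtain ⟨L, hL⟩ := hπ.exists_lin (p := 2) ((mulOn_af σ).mono cm_le) (fun _ => cm_sig)
    fun y _ hy => af_mem_phi cm_le (fun _ => cm_sig) hy
  haveI : Fact (Nat.Prime 3) := ⟨Nat.prime_three⟩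
  have h2 := Equiv.Perm.card_fixedPoints_modEq (α := Fin 3 → ZMod 2) (f := ⇑L) (p := 3) (n := 1)
    (funext fun v => by
      obtain ⟨y, hy, rfl⟩ := hπ.surj v
      change L (L (L (π y))) = π y
      rw [hL y hy, hL _ (cm_sig hy), hL _ (cm_sig (cm_sig hy)), h.af3])
  rw [(Fintype.card_eq_one_iff (α := Function.fixedPoints L)).2
    ⟨⟨0, map_zero L⟩, fun ⟨v, hv⟩ => Subtype.ext ?_⟩] at h2
  · simp [Nat.ModEq] at h2
  obtain ⟨y, hy, rfl⟩ := hπ.surj v
  have h3 := mul_mem hy (cm_sig hy)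
  have h4 := (hπ.ker _ (mul_mem h3 (cm_sig (cm_sig hy)))).2 (h.t3 hc hy)
  rw [hπ.add _ h3 _ (cm_sig (cm_sig hy)), hπ.add _ hy _ (cm_sig hy), ← hL _ (cm_sig hy), ← hL y hy,
    show L (π y) = π y from hv, show L (π y) = π y from hv, CharTwo.add_self_eq_zero, zero_add] at h4
  exact h4

theorem exists_fix (hn : ¬ Q ≤ cm σ) : ∃ t ∈ Q, t ≠ 1 ∧ af σ t = t := by
  classical
  obtain ⟨y, hy, hy'⟩ := SetLike.not_le_iff_exists.1 hn
  let f : Function.End (cm σ) := fun r => ⟨y⁻¹ * af σ (y * r), by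
    rw [(mulOn_af σ).map_mul hy (cm_le r.2), ← mul_assoc]; exact mul_mem (mem_cm hy) (cm_sig r.2)⟩
  haveI := Fintype.ofFinite (cm σ)
  haveI : Fact (Nat.Prime 3) := ⟨Nat.prime_three⟩
  have h2 := Equiv.Perm.card_fixedPoints_modEq (f := f) (p := 3) (n := 1) (funext fun r => Subtype.ext (by
    change y⁻¹ * af σ (y * (y⁻¹ * af σ (y * (y⁻¹ * af σ (y * r))))) = r
    rw [mul_inv_cancel_left, mul_inv_cancel_left, h.af3, inv_mul_cancel_left]))
  obtain ⟨n, e⟩ := IsPGroup.iff_card.1 (hG.to_subgroup (cm σ))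
  by_cases h3 : Nonempty (Function.fixedPoints f)
  · obtain ⟨r, hr⟩ := h3
    exact ⟨y * r, mul_mem hy (cm_le r.2), fun e => hy' (eq_inv_of_mul_eq_one_left e ▸ inv_mem r.2),
      (inv_mul_eq_iff_eq_mul.1 (congrArg Subtype.val hr))⟩
  · rw [Fintype.card_eq_zero_iff.2 (not_nonempty_iff.1 h3), Fintype.card_eq_nat_card, e,
      Nat.modEq_zero_iff_dvd] at h2
    exact absurd (Nat.prime_three.dvd_of_dvd_pow h2) (by decide)

variable {M₁ M₂ M₃ : Subgroup G} (B : BD M₁ M₂ M₃)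
include B

theorem cm_mc : IsMetacyclic (cm σ) := by
  have I := h.cm_inv hG
  have hR := hG.to_subgroup (cm σ)
  have hi := h.cm_d2 hG (B.d3 hG _)
  obtain ⟨y, hy, hu⟩ := h.exists_y hG I
  have huR := mul_mem (inv_mem hy) (I.sn y hy)
  have hu1 : y⁻¹ * (s * y * s⁻¹) ∈ M₁ := B.A1 hG (by
    simpa [commutatorElement_def, mul_assoc] using commutatorElement_mem_commutator y⁻¹ s)
  generalize y⁻¹ * (s * y * s⁻¹) = c at hu huR hu1
  refine H3.isMetacyclic_of_sectionalPRankLE_two _ _ rfl hR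
    (H3.sectionalPRankLE_iff.2 fun A C h1 h2 => ?_)
  rcases eq_top_or_exists_le_coatom A with rfl | ⟨M, hM, hAM⟩
  · rw [relIndex_top_right]
    exact (index_antitone (frattini_le_of_forall (p := 2) (fun x y => h1 x trivial y trivial)
      fun x => h2 x trivial)).trans hi
  suffices IsMetacyclic M by
    rw [← inf_relIndex_right]
    exact relIndex_le_of_isMetacyclic this hAM (B := C ⊓ A) (fun t ht b hb => ⟨by
      simpa [commutatorElement_def] using mul_mem (h1 t ht b hb.2) hb.1,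
      A.mul_mem (A.mul_mem ht hb.2) (A.inv_mem ht)⟩) two_pos fun t ht => ⟨h2 t ht, pow_mem ht 2⟩
  obtain ⟨β, hβ⟩ : ∃ β : MulAut (cm σ), β ⟨c, huR⟩ ∈ M := by
    let α := res I.le ⟨σ, mem_stab_of_maps I.le I.sig⟩
    have hα : ∀ x : cm σ, (α x : G) = af σ x := fun x => by rw [← af_coe, af_res _ _ x.2]
    have h3 : ⟨c, huR⟩ * α ⟨c, huR⟩ * (α * α) ⟨c, huR⟩ ∈ M := frattini_le_coatom hM
      (by
        rw [← phi_subgroupOf, mem_subgroupOf]
        simpa only [Subgroup.coe_mul, MulAut.mul_apply, hα] using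
          h.t3 (fun y hy z hz => commutator_mem_phi hR hy hz) huR)
    by_contra! h4
    rw [mul_mem_iff_of_index_two (index_of_isCoatom hR hM),
      mul_mem_iff_of_index_two (index_of_isCoatom hR hM)] at h3
    exact h4 _ (h3.1 (iff_of_false (h4 1) (h4 α)))
  have h3 : ∀ m : cm σ, m ∈ frattini (cm σ) → (m : G) ∈ M₁ := fun m hm =>
    (B.mem_phi.1 (phi_le_frattini hG _ ((mem_phi m.2).2 hm))).1
  refine H19.isMetacyclic_of_injective B.mc1 ((((cm σ).subtype.comp β.symm.toMonoidHom).comp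
    M.subtype).codRestrict M₁ fun m => by_contra fun e => hM.1 ?_) fun a b e =>
      Subtype.ext (β.symm.injective (Subtype.ext (Subtype.ext_iff.1 e :)))
  have h4 := top_of_two hR hi (mt (mem_phi huR).2 hu) (mt (h3 (β.symm m)) e)
    (fun e' => e ((mul_mem_cancel_left hu1).1 (h3 _ e'))) (K := M.comap β.toMonoidHom) hβ (by simp)
  exact (eq_top_iff' _).2 fun g => by simpa using (h4.ge (mem_top (β.symm g)))

variable (hA : ¬ IsCyclic (commutator G)) (hQ3 : Q ≤ M₃)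
include hA hQ3

theorem caseX (hm : ¬ IsMetacyclic Q) (hc : ∀ y ∈ cm σ, ∀ w ∈ cm σ, y * w = w * y)
    (hΩ : ∀ t ∈ cm σ, t ^ 2 = 1 → t ∈ M₁) : False := by
  have m := mulOn_af σ
  have h3 : ∀ r ∈ cm σ, r * af σ r * af σ (af σ r) = 1 := fun r hr => h.t3 (B := ⊥)
    (fun y hy z hz => commutatorElement_eq_one_iff_mul_comm.2 (hc y hy z hz)) hr
  have h1 : ∀ t ∈ cm σ, t ^ 2 = 1 → af σ t = t → t = 1 := fun t ht e e' => by
    simpa [e', ← pow_two, e] using h3 t ht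
  have h2 : ∀ t ∈ cm σ, t ^ 2 = 1 → af σ t ^ 2 = 1 := fun t ht e => by
    rw [← m.map_pow (cm_le ht), e, m.map_one]
  have h4 : ∀ t : G, t ≠ 1 → ∃ k : ℕ, t ^ k ≠ 1 ∧ (t ^ k) ^ 2 = 1 := fun t ht =>
    (exists_pow_not_mem_pow_mem hG (N := ⊥) ht).elim fun k hk => ⟨_, hk⟩
  have h0 : ∀ t ∈ Q, af σ t = 1 → t = 1 := fun t _ e => by rw [← h.af3 t, e, m.map_one, m.map_one]
  have hW : B.W ≤ cm σ := by
    obtain ⟨y, hy, e⟩ := (h.cm_inv hG).ne
    obtain ⟨k, h5, h6⟩ := h4 y fun e' => e (by rw [e', m.map_one])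
    have h7 := pow_mem hy k
    by_contra e'
    exact h5 (h1 _ h7 h6 (B.W_uniq hG e' (B.mem_W hG hA (hΩ _ h7 h6) h6) h7 h5
      (B.mem_W hG hA (hΩ _ (cm_sig h7) (h2 _ h7 h6)) (h2 _ h7 h6)) (cm_sig h7) (mt (h0 _ (cm_le h7)) h5)))
  obtain ⟨z, hz, hzc, ho⟩ := exists_mem_center_orderOf_eq hG (K := B.W) fun e => by
    have := B.W_ge hG hA
    rw [e, card_bot] at this
    omega
  have hzR := hW hz
  obtain ⟨b, hb, hb1⟩ := SetLike.not_le_iff_exists.1 fun e => hm (mc_of_le B.mc1 e)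
  have hs : s ∉ M₃ := fun e => by
    have h5 := af_mem σ (af_mem σ hb)
    have h6 := B.W_comm3 hG (hQ3 hb) hb1 (B.mem_W hG hA (hΩ _ (cm_sig hzR) (h2 _ hzR hz.2))
      (h2 _ hzR hz.2)) (by
        rw [← h.af3 b, Commute, SemiconjBy, ← m.map_mul h5 (cm_le hzR), ← m.map_mul (cm_le hzR) h5,
          mem_center_iff.1 hzc]) e
    have h7 := h.inv z (cm_le hzR)
    rw [h6.eq, mem_center_iff.1 hzc, mul_inv_cancel_right, mul_inv_cancel_right] at h7
    have h8 := h3 z hzR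
    rw [h7, ← mem_center_iff.1 hzc, mul_assoc, ← pow_two, hz.2, mul_one] at h8
    rw [h0 z (cm_le hzR) h8, orderOf_one] at ho
    omega
  have h5 : ∀ t ∈ Q, af σ t = t → t ∈ M₁ → t = 1 := fun t ht e e' => by_contra fun e'' => by
    obtain ⟨k, h5, h6⟩ := h4 t e''
    exact h5 (h1 _ (hW (B.mem_W hG hA (pow_mem e' k) h6)) h6 (by rw [m.map_pow ht, e]))
  obtain ⟨t, ht, h6, h7⟩ := h.exists_fix hG fun e => hm (mc_of_le (h.cm_mc hG B) e)
  have h8 : ⁅t⁻¹, s⁆ = t⁻¹ * (s * t * s⁻¹) := by rw [commutatorElement_def]; group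
  have h9 := comm_le (B.top_of hG (inv_mem (hQ3 ht)) (fun e => h6 (h5 t ht h7 (inv_mem_iff.1 e))) hs)
    (K := ⊥) (h5 _ (h8 ▸ mul_mem (inv_mem ht) (h.sn t ht)) (by
      have := h.inv t ht
      rw [h7] at this
      rw [h8, m.map_mul (inv_mem ht) (h.sn t ht), m.map_inv ht, h7, this])
      (B.A1 hG (commutatorElement_mem_commutator _ _)))
  exact hA (isCyclic_of_le h9)

theorem caseY {b u : G} (hb : b ∈ cm σ) (hb1 : b ∉ M₁) (hu : u = b⁻¹ * (s * b * s⁻¹))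
    (hu' : u ∉ phi (cm σ)) (e1 : u ^ 2 = b ^ 2) (e2 : b * u * b⁻¹ = u⁻¹)
    (hφ : ∀ t ∈ phi (cm σ), t = 1 ∨ t = b ^ 2) (hW : ¬ B.W ≤ cm σ) : False := by
  have m := mulOn_af σ
  have I := h.cm_inv hG
  have hi := h.cm_d2 hG (B.d3 hG _)
  have huR : u ∈ cm σ := hu ▸ mul_mem (inv_mem hb) (I.sn b hb)
  have huA : u ∈ commutator G := by
    simpa [hu, commutatorElement_def, mul_assoc] using commutatorElement_mem_commutator b⁻¹ s
  have hN : ∀ q ∈ Q, q ∈ normalizer (cm σ : Set G) := fun q hq =>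
    mem_normalizer_of_finite fun _ => cm_conj hq
  have hsN : s ∈ normalizer (cm σ : Set G) := mem_normalizer_of_finite I.sn
  have hbφ : b ∉ phi (cm σ) := fun e => hb1 (B.mem_phi.1 (phi_le_frattini hG _ e)).1
  have hg : ∀ K : Subgroup G, b ∈ K → u ∈ K → cm σ ≤ K := fun K => le_of_two hG hi hb huR hbφ hu'
    fun e => hbφ (by simpa [hu, mul_assoc] using conj_mem_phi (inv_mem hsN) e)
  have h1 : ∀ q ∈ Q, u⁻¹ * (q * u * q⁻¹) ∈ phi (cm σ) := fun q hq => by_contra fun e => hb1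
    (le_of_two hG hi (inv_mem huR) (cm_conj hq huR) (mt inv_mem_iff.1 hu') (fun e => hu' (by
      simpa [mul_assoc] using conj_mem_phi (inv_mem (hN q hq)) e)) e (B.A1 hG (inv_mem huA))
      (B.A1 hG ((inferInstance : (commutator G).Normal).conj_mem u huA q)) hb)
  have h2 : ∀ q ∈ Q, b⁻¹ * (q * b * q⁻¹) ∈ phi (cm σ) := fun q hq => by
    let K : Subgroup G :=
      { carrier := {r | r ∈ cm σ ∧ r⁻¹ * (q * r * q⁻¹) ∈ phi (cm σ)}
        one_mem' := ⟨one_mem _, by simp⟩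
        mul_mem' := fun {a c} ha hc => ⟨mul_mem ha.1 hc.1, by
          simpa [mul_assoc] using mul_mem (conj_mem_phi (le_normalizer (inv_mem hc.1)) ha.2) hc.2⟩
        inv_mem' := fun {a} ha => ⟨inv_mem ha.1, by
          simpa [mul_assoc] using conj_mem_phi (le_normalizer ha.1) (inv_mem ha.2)⟩ }
    refine (h.gen hG I hi huR hu' (K := K) ⟨huR, h1 q hq⟩ ⟨cm_sig huR, ?_⟩ hb).2
    have h3 := af_mem σ (af_mem σ hq)
    have h4 := af_mem_phi cm_le (fun _ => cm_sig) (h1 _ h3) (α := σ)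
    rwa [m.map_mul (inv_mem (cm_le huR)) (cm_le (cm_conj h3 huR)), m.map_inv (cm_le huR),
      m.map_conj h3 (cm_le huR), h.af3] at h4
  have hD : ∀ c, Commute c b → Commute c u → c ∈ centralizer (cm σ : Set G) := fun c h3 h4 r hr =>
    mem_centralizer_singleton_iff.1 (hg _ (mem_centralizer_singleton_iff.2 h3.eq.symm)
      (mem_centralizer_singleton_iff.2 h4.eq.symm) hr)
  have hDQ : centralizer (cm σ : Set G) ≤ Q := h.le_of_normalized hG (fun q hq c hc r hr => by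
    calc r * (q * c * q⁻¹) = q * (q⁻¹ * r * q⁻¹⁻¹ * c) * q⁻¹ := by group
      _ = _ := by rw [hc _ (cm_conj (inv_mem hq) hr)]; group) fun q hq e => hu' (by
    have h3 := conj_mem_phi hsN (inv_mem (h2 q hq))
    rwa [show s * (b⁻¹ * (q * b * q⁻¹))⁻¹ * s⁻¹ = (s * q * b * (s * q)⁻¹)⁻¹ * (s * b * s⁻¹) by group,
      ← e b hb, mul_inv_cancel_right, ← hu] at h3)
  have h3 : ∀ q ∈ Q, ∃ r ∈ cm σ, r⁻¹ * q ∈ centralizer (cm σ : Set G) := fun q hq => by
    have h0 : ∀ r c, r * c * r⁻¹ = q * c * q⁻¹ → Commute (r⁻¹ * q) c := fun r c e => by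
      calc r⁻¹ * q * c = r⁻¹ * (q * c * q⁻¹) * q := by group
        _ = _ := by rw [← e]; group
    have h3 : ∀ r, r * b * r⁻¹ = q * b * q⁻¹ → r * u * r⁻¹ = q * u * q⁻¹ →
        r⁻¹ * q ∈ centralizer (cm σ : Set G) := fun r h4 h5 => hD _ (h0 r b h4) (h0 r u h5)
    have h4 : u * b * u⁻¹ = b * b ^ 2 := by
      calc _ = u * (b * u * b⁻¹)⁻¹ * b := by group
        _ = _ := by rw [e2, inv_inv, ← pow_two, e1]; group
    have h5 : u⁻¹ = u * b ^ 2 := by
      have : b * u ^ 2 * b⁻¹ = (u ^ 2)⁻¹ := by rw [← conj_pow, e2, inv_pow]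
      calc _ = u * (b * u ^ 2 * b⁻¹) := by rw [this]; group
        _ = _ := by rw [e1]; group
    rcases hφ _ (h2 q hq) with a | a <;> rcases hφ _ (h1 q hq) with c | c <;>
      rw [inv_mul_eq_iff_eq_mul] at a c
    · exact ⟨1, one_mem _, h3 1 (by simp [a]) (by simp [c])⟩
    · exact ⟨b, hb, h3 b (by simp [a]) (by rw [c, e2, h5])⟩
    · exact ⟨u, huR, h3 u (by rw [a, h4]) (by simp [c])⟩
    · refine ⟨u * b, mul_mem huR hb, h3 _ (by rw [a, ← h4]; group) ?_⟩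
      calc _ = u * (b * u * b⁻¹) * u⁻¹ := by group
        _ = _ := by rw [e2, c, ← h5]; group
  obtain ⟨h4, g, h5, h6, h7⟩ := B.exists_g hG hA (hQ3 (cm_le hb)) hb1 huA huR e1 e2 hW
  have h8 : ∀ w ∈ B.W, w ∈ Q := fun w hw => hDQ (hD w (h4 w hw).symm (B.ab _ hw.1 _ huA))
  have h9 : ∀ r, g * r * g⁻¹ = ⁅g, r⁆ * r := fun r => by rw [commutatorElement_def]; group
  have h10 : g⁻¹ ∈ normalizer (centralizer (cm σ : Set G) : Set G) := mem_normalizer_of_finite
    fun c hc => by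
      have : ∀ r ∈ cm σ, ⁅g, r⁆ ∈ B.W → Commute (g⁻¹ * c * g⁻¹⁻¹) r := fun r hr e => by
        have h11 := (B.W_comm3 hG (hQ3 (cm_le hb)) hb1 e (h4 _ e) (hQ3 (hDQ hc))).mul_right
          (show Commute c r from (hc r hr).symm)
        calc g⁻¹ * c * g⁻¹⁻¹ * r = g⁻¹ * (c * (g * r * g⁻¹)) * g := by group
          _ = _ := by rw [h9, h11.eq, ← h9]; group
      exact hD _ (this b hb h5) (this u huR h7)
  have h11 : ∀ q ∈ Q, g * q * g⁻¹ ∈ Q := fun q hq => by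
    obtain ⟨r, hr, e⟩ := h3 q hq
    simpa [mul_assoc] using mul_mem (hg (Q.comap (MulAut.conj g).toMonoidHom)
      (h9 b ▸ mul_mem (h8 _ h5) (cm_le hb) : g * b * g⁻¹ ∈ Q)
      (h9 u ▸ mul_mem (h8 _ h7) (cm_le huR) : g * u * g⁻¹ ∈ Q) hr : g * r * g⁻¹ ∈ Q)
      (hDQ ((mem_normalizer_iff.1 (inv_mem_iff.1 h10) _).1 e))
  refine h6 (mul_mem ?_ (inv_mem hb))
  rcases h.nor g h11 with e | e
  · exact cm_conj e hb
  · simpa [mul_assoc] using I.sn _ (cm_conj e hb)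

omit hA hQ3 in
theorem cyclic : IsCyclic (commutator G) := by
  by_contra hA
  have hm : ¬ IsMetacyclic Q := fun e => (h.caseA hG e).elim B.nm fun e => hA e.2
  have hQ3 := B.le3 hG (fun e : Q = ⊤ => h.s_not (e ▸ mem_top s)) hm
  have I := h.cm_inv hG
  have hi := h.cm_d2 hG (B.d3 hG _)
  have hmc := h.cm_mc hG B
  obtain ⟨y, hy, hu⟩ := h.exists_y hG I
  have huR := mul_mem (inv_mem hy) (I.sn y hy)
  have hsN : s ∈ normalizer (cm σ : Set G) := mem_normalizer_of_finite I.sn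
  have hyφ : y ∉ phi (cm σ) := fun e => hu (mul_mem (inv_mem e) (conj_mem_phi hsN e))
  have hg : ∀ K : Subgroup G, y ∈ K → y⁻¹ * (s * y * s⁻¹) ∈ K → cm σ ≤ K := fun K =>
    le_of_two hG hi hy huR hyφ hu fun e => hyφ (by simpa [mul_assoc] using conj_mem_phi (inv_mem hsN) e)
  have h1 : y ∈ M₁ → cm σ ≤ M₁ := fun e => hg _ e (B.A1 hG (by
    simpa [commutatorElement_def, mul_assoc] using commutatorElement_mem_commutator y⁻¹ s))
  have hφ : ∀ z : G, (∀ a ∈ cm σ, ∀ c ∈ cm σ, ⁅a, c⁆ ∈ zpowers z) → (∀ a ∈ cm σ, a ^ 2 ∈ zpowers z) →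
      z ^ 2 = 1 → ∀ t ∈ phi (cm σ), t = 1 ∨ t = z := fun z h1 h2 h3 t ht =>
    eq_of_mem_zpowers h3 (map_le_iff_le_comap.2 (frattini_le_of_forall (p := 2)
      (fun a c => h1 _ a.2 _ c.2) fun a => h2 _ a.2) ht)
  have hW4 := B.W_ge hG hA
  rcases h.hq hG I hmc with hc | ⟨h8, z, hz, z1, z2, h2, h3, hna⟩
  · by_cases hΩ : ∀ t ∈ cm σ, t ^ 2 = 1 → t ∈ M₁
    · exact h.caseX hG B hA hQ3 hm hc hΩ
    push Not at hΩ
    obtain ⟨t, ht, t2, t1⟩ := hΩ
    have h2 : ∀ w ∈ cm σ, w ^ 2 = 1 := fun w => h.pow_eq_one hG I hi hc ht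
      (fun e => t1 (B.mem_phi.1 (phi_le_frattini hG _ e)).1) t2
    refine h.caseY hG B hA hQ3 hy (fun e => t1 (h1 e ht)) rfl hu (by rw [h2 _ hy, h2 _ huR])
      (by rw [hc _ hy _ huR, mul_inv_cancel_right, eq_inv_iff_mul_eq_one, ← pow_two, h2 _ huR])
      (hφ _ (fun a ha c hc' => ?_) (fun a ha => ?_) (h2 _ (pow_mem hy 2))) fun e => ?_
    · rw [commutatorElement_eq_one_iff_mul_comm.2 (hc a ha c hc')]; exact one_mem _
    · rw [h2 a ha]; exact one_mem _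
    · have h3 := mul_card_le_of_lt hG (lt_of_le_not_ge e fun e' => t1 (B.A1 hG (e' ht).1))
      have h4 := relIndex_le_of_isMetacyclic hmc le_rfl (B := ⊥) (by simp) two_pos h2
      rw [relIndex_bot_left] at h4
      omega
  have ho : Nat.card (zpowers z) = 2 := by rw [Nat.card_zpowers, orderOf_eq_prime z2 z1]
  have hW : ¬ B.W ≤ cm σ := fun e => by
    have := card_le_of_le (show B.W ≤ zpowers z from fun w hw => by
      rcases h2 w (e hw) with e | e | e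
      exacts [e ▸ one_mem _, e ▸ mem_zpowers _, absurd (e.symm.trans hw.2) z1])
    omega
  have h4 : ∀ a ∈ cm σ, a ∉ phi (cm σ) → a ^ 2 = z := fun a ha e =>
    ((h2 a ha).resolve_left fun e' => e (e' ▸ one_mem _)).resolve_left fun e' => e (e' ▸ hz)
  have h5 : ∀ a ∈ cm σ, a ^ 2 ∈ zpowers z := fun a ha => by
    rcases h2 a ha with e | e | e <;> rw [e]
    exacts [pow_mem (one_mem _) 2, pow_mem (mem_zpowers z) 2, mem_zpowers z]
  refine h.caseY hG B hA hQ3 hy (fun e => ?_) rfl hu (by rw [h4 _ hy hyφ, h4 _ huR hu]) ?_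
    (h4 _ hy hyφ ▸ hφ z (fun a ha c hc => ?_) h5 z2) hW
  · obtain ⟨w, hw, hw'⟩ := SetLike.not_le_iff_exists.1 hW
    have h6 : ∀ r ∈ cm σ, Commute r w := fun r hr => B.W_comm hG (B.mem_phi.2 ⟨h1 e hr, hQ3 (cm_le hr)⟩) hw
    have h7 : w ∈ normalizer (cm σ : Set G) := mem_normalizer_of_finite fun r hr => by
      rwa [← (h6 r hr).eq, mul_inv_cancel_right]
    have h9 : cm σ ⊔ zpowers w ≤ frattini G := sup_le (fun r hr => B.mem_phi.2 ⟨h1 e hr, hQ3 (cm_le hr)⟩)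
      (zpowers_le.2 (commutator_le_frattini hG hw.1))
    have h10 := relIndex_le_of_isMetacyclic B.mc1 (h9.trans fun _ e => (B.mem_phi.1 e).1)
      (B := zpowers z) (fun t ht c hc => by
        rwa [(B.W_comm hG (h9 ht) (zpowers_le.2 (B.mem_W hG hA (h1 e (phi_le _ hz)) z2) hc)).eq,
          mul_inv_cancel_right]) two_pos fun t ht => by
        obtain ⟨r, hr, k, rfl⟩ := (mem_sup_zpowers_of_normalizes h7).1 ht
        rw [((h6 r hr).zpow_right k).mul_pow, (zpow_mem hw k).2, mul_one]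
        exact h5 r hr
    have h11 := relIndex_mul_card_le ((zpowers_le.2 (phi_le _ hz)).trans
      (le_sup_left : cm σ ≤ cm σ ⊔ zpowers w))
    rw [card_sup_zpowers_of_normalizes (p := 2) h7 hw' (hw.2 ▸ one_mem _), h8, ho] at h11
    omega
  · have h6 := (h3 _ hy _ huR).resolve_left fun e => hna fun a ha c hc => by
      have h7 : ∀ v ∈ cm σ, Commute y v → Commute (y⁻¹ * (s * y * s⁻¹)) v → cm σ ≤ centralizer {v} :=
        fun v _ h1 h2 => hg _ (mem_centralizer_singleton_iff.2 h1) (mem_centralizer_singleton_iff.2 h2)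
      have h9 := commutatorElement_eq_one_iff_commute.1 e
      exact mem_centralizer_singleton_iff.1 (h7 c hc
        (mem_centralizer_singleton_iff.1 (h7 y hy (.refl _) h9.symm hc)).symm
        (mem_centralizer_singleton_iff.1 (h7 _ huR h9 (.refl _) hc)).symm ha)
    have h7 := h4 _ huR hu
    generalize y⁻¹ * (s * y * s⁻¹) = u at h6 h7
    rw [commutatorElement_def, mul_inv_eq_iff_eq_mul] at h6
    rw [h6, eq_inv_iff_mul_eq_one, mul_assoc, ← pow_two, h7, ← pow_two, z2]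
  · rcases h3 a ha c hc with e | e <;> rw [e]
    exacts [one_mem _, mem_zpowers z]

end LD

end H8.BC
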