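import Cfsg.Agent.H86.SPODef
import Cfsg.Agent.H46.SOG2

/-! STD-SP (row S3129), endgame, orthogonal model: slot O-RA (irreducibility of `Q / Z`). -/

set_option autoImplicit false
set_option linter.unusedSectionVars false

namespace H8.SPORA

open H64.SG (O2 Syl Cz Cs Ns cjs Is2 Inv2 IsO2 fx)
open H64.YE (RA PO)
open H67.SA (St cm)
open H59.SO H46.SOG H86.SPO
open H56 H58 QuadraticMap Module Subgroup

variable {F V : Type} [Field F] [Finite F] [CharP F 2] [AddCommGroup V] [Module F V]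
  [FiniteDimensional F V] {Q : QuadraticForm F V}

theorem cm_E {B : Subgroup (Om Q)} {u m : V} {x : Om Q} (hu : Q u = 0) (hm : polar Q u m = 0)
    (hx : x ∈ B) (h1 : x.1 u = u) (hp : E Q u m ∈ Ns B) : E Q u (x.1 m + m) ∈ B := by
  have := cm_mem_left hx hp
  rw [H67.SA.cm, E_conj, h1, E_inv, ← E_add hu (by rw [← h1, O.map_polar, hm]) hm] at this
  exact this

theorem strip {B : Subgroup (Om Q)} {u v y : V} (h : TS Q u v) (hz : ∀ c : F, E Q u (c • v) ∈ B)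
    (hy : polar Q u y = 0) {s t : F} (hB : E Q u (y + s • v + t • u) ∈ B) : E Q u y ∈ B := by
  rw [E_add_smul_self t h.qu (by simp [hy, h.uv]), E_add h.qu hy (by simp [h.uv])] at hB
  exact (mul_mem_cancel_right (hz s)).1 hB

variable (r : Fr Q)

/-- The two families of elements that exchange `E e₀` and `E e₁`. -/
theorem key {B : Subgroup (Om Q)} (hz : ∀ c, r.z c ∈ B) {a : V} (ha : a ∈ r.W) (s : F)
    (p0 : E Q (r.e 0) (s • r.f 1 + a) ∈ Ns B) (p1 : E Q (r.e 1) (s • r.f 0 + a) ∈ Ns B)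
    {a0 a1 : V} (h0 : a0 ∈ LP r) (h1 : a1 ∈ LP r) (hx : E Q (r.e 0) a0 * E Q (r.e 1) a1 ∈ B) :
    E Q (r.e 0) (s • a1) ∈ B ∧ E Q (r.e 1) (s • a0) ∈ B := by
  have hf := (mem_Fx r).1 (mul_mem (E_mem_Fx r (e_LP r 0) h0) (E_mem_Fx r (e_LP r 1) h1))
  rw [mem_LP] at h0 h1
  have m0 : polar Q (r.e 0) (s • r.f 1 + a) = 0 := by simp [r.ef, W_e r ha]
  have m1 : polar Q (r.e 1) (s • r.f 1 + a) = s := by simp [r.ef, W_e r ha]
  have n0 : polar Q (r.e 0) (s • r.f 0 + a) = s := by simp [r.ef, W_e r ha]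
  have n1 : polar Q (r.e 1) (s • r.f 0 + a) = 0 := by simp [r.ef, W_e r ha]
  constructor
  · have := cm_E (r.qe 0) m0 hx hf.1 p0
    generalize s • r.f 1 + a = m at this m0 m1
    rw [mul_ap, E_apply (r.qe 1) h1.2, m1, E_apply_orth (r.qe 0) h0.1 (by simp [m0, h1.1, r.ee])]
      at this
    generalize polar Q a0 _ = t at this
    refine strip r.ts hz (by simp [h1.1]) (s := polar Q a1 m + Q a1 * s) (t := t) ?_
    convert this using 2
    have := add_self2 F m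
    linear_combination (norm := module) -this
  · have := cm_E (r.qe 1) n1 hx hf.2 p1
    generalize s • r.f 0 + a = m at this n0 n1
    rw [mul_ap, E_apply_orth (r.qe 1) h1.2 n1, E_apply (r.qe 0) h0.1] at this
    rw [show polar Q (r.e 0) (m + polar Q a1 m • r.e 1) = s by simp [n0, r.ee]] at this
    generalize polar Q a0 _ = t at this
    refine strip r.ts.symm (fun c => by rw [r.ts.swap]; exact hz c) (by simp [h0.2])
      (s := t + Q a0 * s) (t := polar Q a1 m) ?_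
    convert this using 2
    have := add_self2 F m
    linear_combination (norm := module) -this

theorem e2_mem (p : Par0 Q) {A : AddSubgroup V} (h0 : ∀ c : F, c • r.e 0 ∈ A)
    (h1 : ∀ c : F, c • r.e 1 ∈ A) (hs : ∀ (c : F), ∀ x ∈ A, c • x ∈ A)
    (h : ∀ g ∈ Fx r, ∀ x ∈ A, g.1 x ∈ A) {y : V} (hy : y ∈ A) (hl : y ∈ LP r)
    (hn : ∀ s t : F, y ≠ s • r.e 0 + t • r.e 1) : r.e 2 ∈ A := by
  have sc : ∀ c : F, c ≠ 0 → c • r.e 2 ∈ A → r.e 2 ∈ A := fun c hc h => by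
    simpa [hc] using hs c⁻¹ _ h
  by_cases h2 : polar Q (r.e 2) y = 0
  · by_cases h3 : ∀ b ∈ r.W, polar Q b y = 0
    · have e := mem_pi r p (x := y) (fun i => by
        fin_cases i
        exacts [((mem_LP r).1 hl).1, ((mem_LP r).1 hl).2, h2]) h3
      refine sc (polar Q (r.f 2) y) (fun h4 => hn _ _ (by rwa [h4, cb, zero_smul, add_zero] at e)) ?_
      have := A.sub_mem hy (A.add_mem (h0 (polar Q (r.f 0) y)) (h1 (polar Q (r.f 1) y)))
      rw [cb] at e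
      rwa [sub_eq_iff_eq_add'.2 e] at this
    · push Not at h3
      obtain ⟨b, hb, h4⟩ := h3
      refine sc _ h4 ?_
      have := A.sub_mem (h _ (E_mem_Fx r (e_LP r 2) (W_LP r hb)) y hy) hy
      rwa [E_apply_orth (r.qe 2) (W_e r hb 2) h2, add_sub_cancel_left] at this
  · obtain ⟨a, ha, b, hb, -, hab⟩ := exists_pair r p
    have k := hs (polar Q (r.e 2) y)⁻¹ y hy
    obtain ⟨k4, -⟩ := inv_sub (r.qe 2) (fun w hw => W_e r hw 2) ha hb hab k (by simp [h2])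
      fun w hw => h _ (E_mem_Fx r (e_LP r 2) (W_LP r hw)) _ k
    simpa using k4 1

theorem irr (p : Par0 Q) {B : Subgroup (Om Q)} (hZ : r.Z ≤ B) (hQ : B ≤ r.QQ) (hF : Fx r ≤ Ns B)
    {a : V} (ha : a ∈ r.W) (p0 : ∀ s : F, E Q (r.e 0) (s • r.f 1 + a) ∈ Ns B)
    (p1 : ∀ s : F, E Q (r.e 1) (s • r.f 0 + a) ∈ Ns B) : B ≤ r.Z ∨ r.QQ ≤ B := by
  have hz : ∀ c, r.z c ∈ B := fun c => hZ (r.z_mem c)
  refine or_iff_not_imp_left.2 fun hn => ?_
  obtain ⟨x, hx, hx'⟩ := SetLike.not_le_iff_exists.1 hn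
  obtain ⟨a0, a1, u0, v0, u1, v1, rfl⟩ := r.ts.mem_Ql.1 (hQ hx)
  have l0 := (mem_LP r).2 ⟨u0, v0⟩
  have l1 := (mem_LP r).2 ⟨u1, v1⟩
  have k01 : ∀ (s : F), ∀ y ∈ LP r, E Q (r.e 0) y ∈ B → E Q (r.e 1) (s • y) ∈ B := fun s y hy h =>
    (key r hz ha s (p0 s) (p1 s) hy (zero_mem _) (by simpa using h)).2
  have k10 : ∀ (s : F), ∀ y ∈ LP r, E Q (r.e 1) y ∈ B → E Q (r.e 0) (s • y) ∈ B := fun s y hy h =>
    (key r hz ha s (p0 s) (p1 s) (zero_mem _) hy (by simpa using h)).1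
  obtain ⟨b1, b0⟩ := key r hz ha 1 (p0 1) (p1 1) l0 l1 hx
  rw [one_smul] at b0 b1
  have b0' : E Q (r.e 0) a0 ∈ B := by simpa using k10 1 _ l0 b0
  have e2 : ∀ y ∈ LP r, E Q (r.e 0) y ∈ B → (∀ s t : F, y ≠ s • r.e 0 + t • r.e 1) →
      E Q (r.e 0) (r.e 2) ∈ B := fun y hy hb hn =>
    (e2_mem r p (A := ES B (r.qe 0) (LP r) fun _ h => ((mem_LP r).1 h).1)
      (fun c => ⟨(LP r).smul_mem c (e_LP r 0), by rw [E_smul_self c (r.qe 0)]; exact one_mem _⟩)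
      (fun c => ⟨(LP r).smul_mem c (e_LP r 1), hz c⟩)
      (fun c x hx => ⟨(LP r).smul_mem c hx.1, k10 c x hx.1 (by simpa using k01 1 x hx.1 hx.2)⟩)
      (fun g hg x hx => ⟨Fx_LP r hg hx.1, by
        have := cj_mem (hF hg) hx.2
        rwa [E_conj, ((mem_Fx r).1 hg).1] at this⟩) ⟨hy, hb⟩ hy hn).2
  have e3 : E Q (r.e 0) (r.e 2) ∈ B := by
    by_contra h
    have c0 := mt (e2 a0 l0 b0') h
    have c1 := mt (e2 a1 l1 b1) h
    push Not at c0 c1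
    obtain ⟨s, t, rfl⟩ := c0
    obtain ⟨s', t', rfl⟩ := c1
    refine hx' (mul_mem ?_ ?_)
    · rw [add_comm, E_add_smul_self s (r.qe 0) (by simp [r.ee])]; exact r.z_mem t
    · rw [E_add_smul_self t' (r.qe 1) (by simp [r.ee]), r.ts.swap]; exact r.z_mem s'
  exact QQ_le r p hF hz e3 (by simpa using k01 1 _ (e_LP r 2) e3)

theorem sqs (p : Par0 Q) : ∃ x ∈ r.QQ, ∃ y ∈ r.QQ, x ∉ r.Z ∧ y ∉ r.Z ∧ x * x ≠ y * y := by
  have m0 := (E_mem_Ql (Q := Q) (r.ee 0 2) (r.ee 1 2)).1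
  have m1 := (E_mem_Ql (Q := Q) (u := r.e 0) (v := r.e 1) (w := r.f 2) (by simp [r.ef])
    (by simp [r.ef])).2
  have yy : E Q (r.e 0) (r.e 2) * E Q (r.e 1) (r.f 2) * (E Q (r.e 0) (r.e 2) * E Q (r.e 1) (r.f 2)) ≠
      1 := by
    have := E_cm (r.qe 0) (r.qe 1) (r.ee ..) (r.ee 0 2) (r.ee 1 2) (b := r.f 2) (by simp [r.ef])
      (by simp [r.ef])
    rw [H67.SA.cm, E_inv, E_inv, r.ef, if_pos rfl] at this
    rw [← mul_assoc, this]
    exact fun h => one_ne_zero ((r.z_eq_one p).1 h)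
  refine ⟨_, m0, _, mul_mem m0 m1, fun h => ?_, fun h => ?_, by rw [E_sq]; exact yy.symm⟩
  · obtain ⟨c, hc⟩ := r.mem_Z.1 h
    obtain ⟨d, hd⟩ := (E_inj p.nd (r.ne 0) (r.qe 0) (r.ee ..) (by simp [r.ee])).1 hc
    simpa [r.fe] using congrArg (polar Q (r.f 2)) hd
  · obtain ⟨c, hc⟩ := r.mem_Z.1 h
    exact yy (hc ▸ E_sq ..)

theorem jobRA : JobRA := by
  intro n F _ _ _ _ _ _ b c o V _ _ _ Q ι r w d k kd
  have p := d.par.toPar0
  have mem : ∀ u a, u ≠ 0 → Q u = 0 → polar Q u a = 0 → Q a ≠ 0 → E Q u a ∈ r.P0 →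
      E Q u a ∈ PO (cc r w) r.Z := fun u a h0 h1 h2 h3 h4 =>
    subset_closure ⟨h4, (kd.ec _).2 ⟨u, a, h0, h1, h2, h3, rfl⟩⟩
  refine ⟨fun z hz => ?_, fun B hZ hQ hP => ?_, sqs r p⟩
  · obtain ⟨s, rfl⟩ := r.mem_Z.1 hz
    exact (k.fx w _ (by simp [d.qw])).2 (E_fix (d.we 0) (by simp [d.we]))
  · obtain ⟨a, ha, hq⟩ := r.exists_Q_ne p
    have hq' : ∀ (s : F) i, Q (s • r.f i + a) ≠ 0 := fun s i => by
      simpa [H56.Q_add, H56.Q_smul, r.qf, W_f r ha] using hq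
    refine irr r p hZ hQ (fun g hg => hP ?_) ha (fun s => hP ?_) fun s => hP ?_
    · refine (closure_le _).2 ?_ (k.g2 g ((mem_Fx r).1 hg).1 ((mem_Fx r).1 hg).2)
      rintro _ ⟨u, a, h0, h1, h2, h3, h4, h5, h6, h7, rfl⟩
      exact mem u a h0 h1 h2 h3
        (Fx_le_P0 r (E_mem_Fx r ((mem_LP r).2 ⟨h4, h6⟩) ((mem_LP r).2 ⟨h5, h7⟩)))
    · exact mem _ _ (r.ne 0) (r.qe 0) (by simp [r.ef, W_e r ha]) (hq' s 1)
        (Ru_le_P0 r.ts (E_mem_Ru _ _))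
    · exact mem _ _ (r.ne 1) (r.qe 1) (by simp [r.ef, W_e r ha]) (hq' s 0)
        (r.ts.P0_swap.le (Ru_le_P0 r.ts.symm (E_mem_Ru _ _)))

end H8.SPORA
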