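import Cfsg.Agent.H57.U2CSpec

/-!
# Slot DPV-CO: the central case is impossible
-/

set_option autoImplicit false

namespace H8.U2CO

open Subgroup H98 H48.DP H57.U2C
open scoped commutatorElement

universe u

theorem eq_of_mem_zpowers {G : Type u} [Group G] {z w : G} (h2 : z ^ 2 = 1) (hw : w ∈ zpowers z)
    (w1 : w ≠ 1) : w = z := by
  obtain ⟨k, rfl⟩ := mem_zpowers_iff.1 hw
  have h2' : z ^ (2 : ℤ) = 1 := by exact_mod_cast h2
  rcases Int.even_or_odd' k with ⟨j, rfl | rfl⟩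
  · exact absurd (by rw [zpow_mul, h2', one_zpow]) w1
  · rw [zpow_add, zpow_mul, h2', one_zpow, one_mul, zpow_one]

theorem jobCO : JobCO.{u} := by
  intro wk tp ca cb ce G _ _ M Q T R Q₀ F y t z cd
  have a := ca G M Q T R Q₀ F y t z cd
  obtain ⟨cp, QS, KS, nw⟩ := cb G M Q T R Q₀ F y t z cd a
  have hv : y * z * y⁻¹ ∈ ncl (T ⊔ F) (Dz y z) := le_ncl _ _ (mem_sup_right (mem_zpowers _))
  have UUs : ncl (T ⊔ F) (Dz y z) ≤ ncl (C1 z) (Dz y z) := ncl_mono cp.Kz le_rfl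
  generalize ncl (T ⊔ F) (Dz y z) = U at cp QS KS nw hv UUs
  rcases wk G (T ⊔ F) (T ⊔ zpowers y) R U (cd.RT.trans le_sup_left)
    (sup_le cd.TR (zpowers_le.2 cd.yR)) cp.KU nw with h | ⟨S, Sinv, SK, -, g, gS, gR, -⟩
  · exact h (UUs.trans a.UR)
  have claim : ∀ g ∈ S, U ≤ cj g (St U z) := by
    intro g hg
    obtain ⟨-, t2, t3⟩ := tp G M Q (T ⊔ F) F U z g
    by_cases gM : g ∈ M
    · refine (UUs.trans a.UQ).trans ?_
      rw [← cj_eq_self (cd.MQ gM)]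
      exact cj_mono g QS
    · rw [← t3]
      refine ce G M (T ⊔ F) F U _ _ _ _ z _ cp (t2 cp) (fun e he he' o => gM ?_) (SK g hg)
        (cj_le_iff.2 (SK _ (Sinv g hg))) trivial
      exact inv_mem_iff.1 (cd.ti e g⁻¹ o he (by rw [inv_inv]; exact mem_cj.1 he'))
  have UT : U ≤ cj g T := by
    refine le_trans ?_ (cj_mono g KS)
    rw [cj_inf]
    exact le_inf (SK g gS) (claim g gS)
  obtain ⟨b, hb, nb⟩ := SetLike.not_le_iff_exists.1 gR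
  have h1 := a.vq _ (mem_cj.1 (UT hb)) (fun h => nb (mem_cj.2 h))
  have h2 : ⁅b, g * (y * z * y⁻¹) * g⁻¹⁆ = g * z * g⁻¹ := by
    rw [← h1]
    simp only [commutatorElement_def]
    rw [show g⁻¹ * b * g * (y * z * y⁻¹) * (g⁻¹ * b * g)⁻¹ * (y * z * y⁻¹)⁻¹ = z from h1]
    calc _ = g * (g⁻¹ * b * g * (y * z * y⁻¹) * (g⁻¹ * b * g)⁻¹ * (y * z * y⁻¹)⁻¹) * g⁻¹ := by group
      _ = g * z * g⁻¹ := by
        rw [show g⁻¹ * b * g * (y * z * y⁻¹) * (g⁻¹ * b * g)⁻¹ * (y * z * y⁻¹)⁻¹ = z from h1]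
  have h3 : g * (y * z * y⁻¹) * g⁻¹ ∈ St U z :=
    cj_le_iff.2 (claim _ (Sinv g gS)) (conj_mem_cj hv)
  have h4 : g * z * g⁻¹ ∈ zpowers z := h2 ▸ h3.2 b hb
  have h5 : g * z * g⁻¹ = z := eq_of_mem_zpowers (cp.ea.2 z cp.zU) h4 fun e => cd.z1 (by
    calc z = g⁻¹ * (g * z * g⁻¹) * g := by group
      _ = 1 := by rw [e]; group)
  have gC : g ∈ C1 z := mem_centralizer_singleton_iff.2 (mul_inv_eq_iff_eq_mul.1 h5)
  refine gR (UUs.trans ?_)
  rw [← cj_eq_self (le_normalizer_ncl (C1 z) (Dz y z) gC)]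
  exact cj_mono g a.UR

end H8.U2CO
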