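/- Tower A8S (S3152), slot TT: case A (c). -/
import Cfsg.Agent.H63.A8Def

set_option autoImplicit false

namespace H8.A8TT

open H64.SG (Cz Cs Inv2)
open H63.A8 Equiv

universe u

variable {G : Type u} [Group G]

theorem conj_sq {t s : G} (ht : t * t = 1) (h : IsConj t s) : s * s = 1 := by
  obtain ⟨g, rfl⟩ := isConj_iff.1 h
  calc g * t * g⁻¹ * (g * t * g⁻¹) = g * (t * t) * g⁻¹ := by group
    _ = 1 := by rw [ht]; group

/-- An element of `T ∩ C(t)` other than `t` acts as an involution of type `2` or `6`. -/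
theorem ty26 (P : KP) {f : A8 →* G} {t : G} (h : PA f t) (k : KA f t) (x : NX f t) (y : NT f t)
    {s : G} (hs : s ∈ Cz t) (hc : IsConj t s) (hn : s ≠ t) {σ : S8} (ha : Act f s σ) :
    Ty 2 σ ∨ Ty 6 σ := by
  have s2 := conj_sq h.inv.1 hc
  obtain ⟨π, -, -, hu⟩ := k.pi
  have e : π ⟨s, hs⟩ = σ := hu _ _ ha
  have σ2 : σ * σ = 1 := by
    rw [← e, ← map_mul]
    have : (⟨s, hs⟩ * ⟨s, hs⟩ : Cz t) = 1 := Subtype.ext s2
    rw [this, map_one]
  rcases P.cls σ σ2 with h1 | h2 | h4 | h6 | h8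
  · subst h1
    rcases k.dec s hs s2 1 ha with e | e
    · rw [map_one] at e
      subst e
      exact absurd (isConj_one_left.1 hc) h.inv.2
    · rw [map_one, mul_one] at e
      exact absurd e hn
  · exact Or.inl h2
  · rcases k.dec s hs s2 ⟨σ, P.ev σ (Or.inl h4)⟩ ha with e | e
    · exact absurd (e ▸ hc) (x _ h4)
    · exact absurd (e ▸ hc) (y _ h4)
  · exact Or.inr h6
  · rcases k.dec s hs s2 ⟨σ, P.ev σ (Or.inr h8)⟩ ha with e | e
    · exact absurd (e ▸ hc) (h.nz _ h8)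
    · exact absurd (e ▸ hc) (h.ntz _ h8)

/-- Odd is not odd times odd. -/
theorem noprod (P : KP) {f : A8 →* G} {t : G} (h : PA f t) (k : KA f t) (x : NX f t) (y : NT f t)
    {a b c : G} (ha : a ∈ Cz t) (hb : b ∈ Cz t) (hc : c ∈ Cz t) (ca : IsConj t a) (cb : IsConj t b)
    (cc : IsConj t c) (na : a ≠ t) (nb : b ≠ t) (nc : c ≠ t) (e : c = t * (a * b)) : False := by
  obtain ⟨π, hact, hker, -⟩ := k.pi
  have od : ∀ (s : G) (hs : s ∈ Cz t), IsConj t s → s ≠ t → Perm.sign (π ⟨s, hs⟩) = -1 := by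
    intro s hs c1 n1
    have := P.od _ (ty26 P h k x y hs c1 n1 (hact ⟨s, hs⟩))
    rw [Perm.mem_alternatingGroup] at this
    exact (Int.units_eq_one_or _).resolve_left this
  have ht : t ∈ Cz t := Subgroup.mem_centralizer_singleton_iff.2 rfl
  have e' : (⟨c, hc⟩ : Cz t) = ⟨t, ht⟩ * (⟨a, ha⟩ * ⟨b, hb⟩) := Subtype.ext e
  have h1 := od c hc cc nc
  rw [e', map_mul π, map_mul π, (hker ⟨t, ht⟩).2 h.cen, one_mul, map_mul, od a ha ca na,
    od b hb cb nb] at h1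
  exact absurd h1 (by decide)

theorem act_conj {f : A8 →* G} {s : G} {σ : S8} (h : Act f s σ) (a : A8) :
    Act f (f a * s * (f a)⁻¹) ((a : S8) * σ * (a : S8)⁻¹) := by
  intro z
  have h1 := h (a⁻¹ * z * a)
  have h2 : MulAut.conjNormal ((a : S8) * σ * (a : S8)⁻¹) z =
      a * MulAut.conjNormal σ (a⁻¹ * z * a) * a⁻¹ := by
    apply Subtype.ext
    simp [mul_assoc]
  rw [h2, map_mul, map_mul, ← h1]
  simp [mul_assoc]

theorem step (P : KP) {f : A8 →* G} {s : G} {σ σ' : S8} (h : Act f s σ) (s2 : s * s = 1)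
    (h6 : Ty 6 σ) (h6' : Ty 6 σ') : ∃ m : A8, (m : S8) = σ * σ' ∧ IsConj s (s * f m) := by
  obtain ⟨a, ha⟩ := P.cj 6 σ σ' (by norm_num) h6 h6'
  refine ⟨MulAut.conjNormal σ a * a⁻¹, ?_, isConj_iff.2 ⟨f a, ?_⟩⟩
  · have : σ⁻¹ = σ := inv_eq_of_mul_eq_one_left h6.1
    rw [← ha]
    simp [mul_assoc, this]
  · have si : s⁻¹ = s := inv_eq_of_mul_eq_one_left s2
    rw [map_mul, ← h a, map_inv, si]
    calc f a * s * (f a)⁻¹ = s * s * (f a * s * (f a)⁻¹) := by rw [s2, one_mul]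
      _ = _ := by group

theorem comm_of {f : A8 →* G} {s : G} {σ : S8} (h : Act f s σ) {m : A8}
    (hm : σ * (m : S8) = m * σ) : s * f m = f m * s := by
  have h1 := h m
  have h2 : MulAut.conjNormal σ m = m := by
    apply Subtype.ext
    rw [MulAut.conjNormal_apply, hm, mul_inv_cancel_right]
  rw [h2] at h1
  exact mul_inv_eq_iff_eq_mul.1 h1

/-- `(0 1)(2 3)(4 5)` and three of its conjugates -/
def p1 : S8 := swap 0 1 * swap 2 3 * swap 4 5
def p2 : S8 := swap 0 1 * swap 2 3 * swap 6 7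
def p3 : S8 := swap 0 2 * swap 1 3 * swap 4 5
def p4 : S8 := swap 0 2 * swap 1 3 * swap 6 7

theorem ty1 : Ty 6 p1 := ⟨by decide, by decide⟩
theorem ty2 : Ty 6 p2 := ⟨by decide, by decide⟩
theorem ty3 : Ty 6 p3 := ⟨by decide, by decide⟩
theorem ty4 : Ty 6 p4 := ⟨by decide, by decide⟩

theorem jobTT (P : KP) (K : JKA.{u}) (X : JNX.{u}) (T : JNT.{u}) : JTT.{u} := by
  intro G _ _ f t h s0 hs0 hc0 hn0 σ ha0
  refine (ty26 P h (K G f t h) (X G f t h) (T G f t h) hs0 hc0 hn0 ha0).resolve_right fun h6 => ?_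
  obtain ⟨a, ha⟩ := P.cj 6 σ p1 (by norm_num) h6 ty1
  have hact := act_conj ha0 a
  rw [ha] at hact
  have hc : IsConj t (f a * s0 * (f a)⁻¹) := hc0.trans (isConj_iff.2 ⟨f a, rfl⟩)
  generalize f a * s0 * (f a)⁻¹ = s at hact hc
  have s2 := conj_sq h.inv.1 hc
  obtain ⟨m2, e2, c2⟩ := step P hact s2 ty1 ty2
  obtain ⟨m3, e3, c3⟩ := step P hact s2 ty1 ty3
  obtain ⟨m4, e4, c4⟩ := step P hact s2 ty1 ty4
  have k2 := comm_of hact (m := m2) (by rw [e2]; decide)
  have k3 := comm_of hact (m := m3) (by rw [e3]; decide)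
  have k4 := comm_of hact (m := m4) (by rw [e4]; decide)
  have hm : m4 = m2 * m3 := by
    apply Subtype.ext
    rw [Subgroup.coe_mul, e2, e3, e4]
    decide
  have ne : ∀ m : A8, (m : S8) ≠ 1 → s * f m ≠ s := by
    intro m hm e
    have : f m = f 1 := by rw [map_one]; exact mul_eq_left.1 e
    exact hm (by rw [h.inj this]; rfl)
  have cz : ∀ m : A8, s * f m = f m * s → s * f m ∈ Cz s := by
    intro m hm
    rw [Subgroup.mem_centralizer_singleton_iff, mul_assoc, ← hm]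
  obtain ⟨g, rfl⟩ := isConj_iff.1 hc
  have h' := (K G f t h).cj g
  refine noprod P h' (K G _ _ h') (X G _ _ h') (T G _ _ h') (cz m2 k2) (cz m3 k3) (cz m4 k4) c2 c3 c4
    (ne m2 (by rw [e2]; decide)) (ne m3 (by rw [e3]; decide)) (ne m4 (by rw [e4]; decide)) ?_
  generalize g * t * g⁻¹ = s at *
  rw [hm, map_mul]
  congr 1
  calc f m2 * f m3 = s * s * (f m2 * f m3) := by rw [s2, one_mul]
    _ = s * (s * f m2) * f m3 := by simp only [mul_assoc]
    _ = s * (f m2 * s) * f m3 := by rw [k2]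
    _ = _ := by simp only [mul_assoc]

end H8.A8TT
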