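import Cfsg.Agent.H78.YUDef
import Cfsg.Agent.H67.UAK0

/-! STD-SP (row S3129), endgame, unitary models: slot YU-RA (irreducibility of `Q / Z`). -/

set_option autoImplicit false
set_option linter.unusedSectionVars false

namespace H8.YURA

open H64.SG (O2 Syl Cz Cs Ns cjs Is2 Inv2 IsO2 fx)
open H67 H67.UA H64.YE Subgroup Matrix H78.YU
open H67.SA (cm St la)

section G

variable {Y : Type} [Group Y] (τ : MulAut Y) (Z : Subgroup Y)

theorem conj_PU {q : Y} (hq : q ∈ Cs Z) {y : Y} (hy : y ∈ PU τ Z) : q * y * q⁻¹ ∈ PU τ Z := by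
  induction hy using closure_induction with
  | mem y h =>
    obtain ⟨p, hp, rfl⟩ := h
    have e : q * (p * (τ p)⁻¹) * q⁻¹ = (q * p) * (τ (q * p))⁻¹ * (q * (τ q)⁻¹)⁻¹ := by
      rw [map_mul]; group
    rw [e]
    exact mul_mem (subset_closure ⟨_, mul_mem hq hp, rfl⟩) (inv_mem (subset_closure ⟨_, hq, rfl⟩))
  | one => simp
  | mul a b _ _ ha hb =>
    have e : q * (a * b) * q⁻¹ = q * a * q⁻¹ * (q * b * q⁻¹) := by group
    rw [e]; exact mul_mem ha hb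
  | inv a _ ha =>
    have e : q * a⁻¹ * q⁻¹ = (q * a * q⁻¹)⁻¹ := by group
    rw [e]; exact inv_mem ha

theorem Cs_le_Ns_PU : Cs Z ≤ Ns (PU τ Z) := fun q hq => by
  rw [mem_normalizer_iff]
  refine fun y => ⟨conj_PU τ Z hq, fun h => ?_⟩
  have := conj_PU τ Z (inv_mem hq) h
  have e : q⁻¹ * (q * y * q⁻¹) * q⁻¹⁻¹ = y := by group
  rwa [e] at this

end G

variable {m : ℕ} {K : Type} [Field K] [StarRing K] [CharP K 2] [Finite K] [Par m K]

theorem qq_tw {u v : Vn m K} (h : Pp u v) (hu : br u = u) (hv : br v = v) {η : K} (hη : tr η = 1) :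
    qq v u = qq (η • v) u * (ta m K (qq (η • v) u))⁻¹ := by
  have h1 : Ok u (η • v) 0 := by simpa using (h.smul 1 η).ok
  have h2 : Ok u (star η • v) 0 := by simpa using (h.smul 1 (star η)).ok
  rw [qq, qq, ta_EE h1, hu, br_smul, hv, star_zero, EE_inv h2, star_zero, EE_mul h1 h2, ← add_smul,
    show η + star η = 1 from hη, one_smul, hf_smul_left, hf_smul_right, h.r]
  simp

theorem P_le_Cs (h0 : R0 m K) : P0 m K ≤ Cs (Z0 m K) := fun g hg =>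
  (h0.cz g).2 ⟨1, by simp, by rw [one_smul]; exact hg⟩

theorem P_le_PU (h0 : R0 m K) (h1 : NP m K) : P0 m K ≤ PU (ta m K) (Z0 m K) := by
  obtain ⟨η, hη⟩ := (jobFQ m K).eta
  refine h1.np _ ((P_le_Cs h0).trans (Cs_le_Ns_PU _ _)) ?_ ?_
  · refine subset_closure ⟨_, P_le_Cs h0 ?_, qq_tw pp01 (br_ev _) (br_ev _) hη⟩
    have : Ok (ev 0 : Vn m K) (η • ev 1) 0 := by simpa using (pp01.smul 1 η).ok
    exact ac_EE_self this
  · refine subset_closure ⟨_, P_le_Cs h0 ?_, qq_tw pp12 (br_ev _) (br_ev _) hη⟩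
    have : Ok (ev 1 : Vn m K) (η • ev 2) 0 := by simpa using (pp12.smul 1 η).ok
    exact ac_EE_fix this pp01.p (by rw [hf_smul_right, pp02.p, mul_zero])

theorem Tc_mem {c : K} (hc : star c = c) : Tc c (ev 0) ∈ Z0 m K := (FV.mem_Z _).2 ⟨c, hc, rfl⟩

theorem adj {B : Subgroup (XU m K)} (hZ : Z0 m K ≤ B) {y : Vn m K} {c d : K} (h : Ok (ev 0) y c)
    (h' : Ok (ev 0) y d) (hB : EE (ev 0) y c ∈ B) : EE (ev 0) y d ∈ B := by
  have hs : star (c + d) = c + d := tr_eq_zero.1 (by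
    have e1 := h.tr
    have e2 := h'.tr
    simp only [tr, star_add] at e1 e2 ⊢
    linear_combination e1 + e2 + hf y y * two0 K)
  have := mul_mem hB (hZ (Tc_mem hs))
  rw [EE_mul h (ok_zero h.iso hs), add_zero, hf_zero_left, add_zero, ← add_assoc,
    CharTwo.add_self_eq_zero, zero_add] at this
  exact this

theorem irr (h2 : QN m K) {B : Subgroup (XU m K)} (hZ : Z0 m K ≤ B) (hQ : B ≤ Q0 m K)
    (hP : P0 m K ≤ Ns B) : B ≤ Z0 m K ∨ Q0 m K ≤ B := by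
  have cj : ∀ g ∈ P0 m K, ∀ x ∈ B, g * x * g⁻¹ ∈ B := fun g hg x hx =>
    (mem_normalizer_iff.1 (hP hg) x).1 hx
  refine or_iff_not_imp_left.2 fun hn => ?_
  obtain ⟨x, hx, hx'⟩ := SetLike.not_le_iff_exists.1 hn
  obtain ⟨z, a, hz, hl, ha, e⟩ := h2 x (hQ hx) hx'
  have t1 : TT z ∈ P0 m K := by
    change ac _ _ = _
    rw [ac_Tc hz.r (star_one K), hz.p]; simp
  have pa : Pp (ev 0) (a • z) := by simpa using hz.smul 1 a
  have la' : Li (ev 0) (a • z) := fun s t h => by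
    obtain ⟨e1, e2⟩ := hl s (t * a) (by rwa [mul_smul])
    exact ⟨e1, (mul_eq_zero.1 e2).resolve_right ha⟩
  have b1 : EE (ev 0) (a • z) (nm a) ∈ B := e ▸ mul_mem (cj _ t1 x hx) (inv_mem hx)
  have b2 : qq (a • z) (ev 0) ∈ B :=
    adj hZ ⟨pa.l, pa.symm.p, by rw [tr_eq_zero.2 (star_nm a), pa.r]⟩ pa.ok b1
  obtain ⟨g, g0, g1⟩ := (base m K).toFW.w2 _ _ pa la'
  have b3 : qq (ev 1) (ev 0) ∈ B := by
    have := cj g⁻¹ ((P0 m K).inv_mem g0) _ b2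
    rwa [qq, EE_conj pa.ok, ← g1, ac_inv_ac, show ac g⁻¹ (ev 0) = ev 0 from (P0 m K).inv_mem g0]
      at this
  have b4 : ∀ y : Vn m K, hf y (ev 0) = 0 → ∃ c, Ok (ev 0) y c ∧ EE (ev 0) y c ∈ B := by
    refine (base m K).toFW.span (ev 0) iso0 _ (fun y hy => ⟨0, hy.ok, ?_⟩) ?_
    · by_cases hl' : Li (ev 0) y
      · obtain ⟨k, k0, k1⟩ := (base m K).toFW.w2 _ _ hy hl'
        have := cj k k0 _ b3
        rwa [qq, EE_conj pp01.ok, k0, k1] at this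
      · obtain ⟨c, rfl⟩ := exists_smul_of_not_li (ev_ne 0) hl'
        have := qq_self c (ev 0 : Vn m K)
        rw [qq] at this
        rw [this]
        exact hZ (Tc_mem (star_tr c))
    · rintro y y' - - ⟨c, hc, hb⟩ ⟨d, hd, hb'⟩
      exact ⟨_, hc.add hd, EE_mul hc hd ▸ mul_mem hb hb'⟩
  intro q hq
  obtain ⟨y, c, hc, rfl⟩ := (FV.mem_Q q).1 hq
  obtain ⟨d, hd, hb⟩ := b4 y hc.perp
  exact adj hZ hd hc hb

theorem sqs : ∃ x ∈ Q0 m K, ∃ y ∈ Q0 m K, x ∉ Z0 m K ∧ y ∉ Z0 m K ∧ x * x ≠ y * y := by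
  obtain ⟨p, hp, hp'⟩ := H59.UM.exists_p (n := m) (K := K)
  have h5 := Par.five (n := m) (K := K)
  have p0 : hf p (ev 0) = 0 := hp' 0 (by simp) (by simp; omega)
  obtain ⟨c, hc⟩ := (jobFQ m K).trs (hf p p) (star_hf p p)
  have ok : Ok (ev 0) p c := ⟨iso0, p0, hc⟩
  have yy : EE (ev 0) p c * EE (ev 0) p c ≠ 1 := by
    rw [EE_mul ok ok, v_add_self, CharTwo.add_self_eq_zero, zero_add]
    exact fun e => hp (Tc_eq_one (ev_ne 0) iso0 (star_hf p p) e)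
  refine ⟨qq (ev 1) (ev 0), (FV.mem_Q _).2 ⟨_, _, pp01.ok, rfl⟩, EE (ev 0) p c,
    (FV.mem_Q _).2 ⟨_, _, ok, rfl⟩, fun h => ?_, fun h => ?_, ?_⟩
  · obtain ⟨d, hd, e⟩ := (FV.mem_Z _).1 h
    obtain ⟨a, e1, -⟩ := EE_inj (ev_ne 0) pp01.ok (ok_zero iso0 hd) e
    exact one_ne_zero (li_ev (n := m) (K := K) a 1 (by rw [one_smul, add_comm, ← e1])).2
  · obtain ⟨d, hd, e⟩ := (FV.mem_Z _).1 h
    exact yy (e ▸ Tc_mul_self iso0 hd)
  · rw [qq, EE_mul pp01.ok pp01.ok, v_add_self, pp01.r, add_zero, add_zero, EE_zero]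
    exact yy.symm

theorem jobRA : JobRA := fun m K _ _ _ _ _ h0 h1 h2 =>
  { tz := fun z hz => by
      obtain ⟨c, hc, rfl⟩ := (FV.mem_Z z).1 hz
      rw [Tc, ta_EE (ok_zero iso0 hc), br_ev, br_zero, hc]
    irr := fun _ hZ hQ hP => irr h2 hZ hQ ((P_le_PU h0 h1).trans hP)
    sqs := sqs }

end H8.YURA
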