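import Cfsg.Agent.H8.JSAut

/-! Tower JS: the centralizer of the standard involution. -/

set_option autoImplicit false
set_option maxRecDepth 100000
set_option linter.unusedSectionVars false

namespace H8.JS

open Cfsg Subgroup H98 H1.Gold H49 H4
open H4.M2 (X g y p q r s t z a h)
open H4.QJ (tau tau_tau dec)

universe u

variable {G : Type u} [Group G] [Finite G] {j : X →* G} {e : G} {O : Subgroup G}

theorem eq_one_of_cen {w : X} (hw : ∀ u, w * u = u * w) : w = 1 :=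
  mem_bot.1 (QJ.hz ▸ mem_center_iff.2 fun u => (hw u).symm)

namespace St

variable (S : St j e O)
include S

theorem pow_odd {o : G} (ho : o ∈ O) : ∃ m, Odd m ∧ o ^ m = 1 :=
  ⟨_, S.odd, congrArg Subtype.val (pow_card_eq_one' (x := (⟨o, ho⟩ : O)))⟩

/-- a `2`-element of `O` is trivial -/
theorem o0 {o : G} (ho : o ∈ O) {k : ℕ} (hk : o ^ 2 ^ k = 1) : o = 1 := by
  obtain ⟨m, h1, h2⟩ := S.pow_odd ho
  exact orderOf_eq_one_iff.1 (Nat.eq_one_of_dvd_coprimes ((Nat.coprime_two_right.2 h1).pow_right k)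
    (orderOf_dvd_of_pow_eq_one h2) (orderOf_dvd_of_pow_eq_one hk))

theorem o2 {o : G} (ho : o ∈ O) (hk : o * o = 1) : o = 1 := S.o0 ho (k := 1) (by simpa [pow_two])

theorem jc {w : X} (hw : ∀ u, j w * j u = j u * j w) : w = 1 :=
  eq_one_of_cen fun u => S.inj (by simpa using hw u)

theorem o1 {o : G} (ho : o ∈ O) {w : X} {k : ℕ} (hk : (o * j w) ^ 2 ^ k = 1) : o = 1 := by
  rw [Commute.mul_pow (S.oj o ho w), ← map_pow] at hk
  have h1 : w ^ 2 ^ k = 1 := S.jc fun u => by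
    rw [eq_inv_of_mul_eq_one_right hk]
    exact (Commute.inv_left (S.oj _ (pow_mem ho _) u)).eq
  rw [h1, map_one, mul_one] at hk
  exact S.o0 ho hk

theorem ne {o : G} (ho : o ∈ O) (w : X) : o * j w ≠ e := fun h1 => by
  have h2 : w = 1 := S.jc fun u => by
    rw [eq_inv_mul_of_mul_eq h1]
    exact (Commute.mul_left (Commute.inv_left (S.oj _ ho u)) (S.ec u)).eq
  rw [h2, map_one, mul_one] at h1
  exact S.e1 (h1 ▸ S.o2 ho (h1 ▸ S.e2))

theorem ne' (w : X) : j w ≠ e := by simpa using S.ne O.one_mem w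

theorem einv : e⁻¹ = e := inv_eq_of_mul_eq_one_right S.e2

theorem nO {b : G} (hb : b * e = e * b) {o : G} (ho : o ∈ O) : b * o * b⁻¹ ∈ O := by
  have c : Commute b e := hb
  obtain ⟨θ, hθ⟩ := S.act b⁻¹ c.inv_left
  rcases S.ker (b * o * b⁻¹) ((c.mul_left (S.oe o ho)).mul_left c.inv_left) (fun w => by
    have := S.oj o ho (θ w)
    rw [← hθ] at this
    calc _ = b * (o * (b⁻¹ * j w * b⁻¹⁻¹)) * b⁻¹ := by group
      _ = _ := by rw [this]; group) with h1 | h1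
  · exact h1
  · obtain ⟨m, ⟨k, rfl⟩, h2⟩ := S.pow_odd (mul_mem h1 O.one_mem)
    obtain ⟨n, h3, h4⟩ := S.pow_odd ho
    have c2 : Commute e (b * o * b⁻¹) := ((c.mul_left (S.oe o ho)).mul_left c.inv_left).symm
    have h5 : (e * (b * o * b⁻¹)) ^ n = e := by
      obtain ⟨l, rfl⟩ := h3
      rw [c2.mul_pow, conj_pow, h4, pow_succ, pow_mul, pow_two, S.e2]; simp
    exact absurd (by simpa using h5) (S.ne (pow_mem h1 n) 1)

/-- an element of `C(e)` that induces an inner automorphism -/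
theorem inner {b : G} (hb : b * e = e * b) {w : X} (hw : ∀ u, b * j u * b⁻¹ = j (MulAut.conj w u)) :
    ∃ o ∈ O, b = o * j w ∨ b = o * (e * j w) := by
  rcases S.ker (b * (j w)⁻¹) (Commute.mul_left hb (Commute.inv_left (S.ec w).symm)) (fun u => by
    have := hw (w⁻¹ * u * w)
    simp only [MulAut.conj_apply, map_mul, map_inv] at this
    calc _ = b * ((j w)⁻¹ * j u * j w) * b⁻¹ * (b * (j w)⁻¹) := by group
      _ = _ := by rw [this]; group) with h1 | h1
  · exact ⟨_, h1, .inl (by group)⟩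
  · refine ⟨_, h1, .inr ?_⟩
    rw [← mul_assoc, S.oe _ h1, ← mul_assoc, ← mul_assoc, S.e2]; group

theorem fix {b : G} {θ : MulAut X} (hθ : ∀ w, b * j w * b⁻¹ = j (θ w)) {w : X}
    (hw : b * j w = j w * b) : θ w = w := S.inj (by rw [← hθ, hw, mul_inv_cancel_right])

theorem cm {b b' : G} (hb : b * e = e * b) (hb' : b' * e = e * b') :
    ∃ o ∈ O, ∃ w, b * b' * b⁻¹ * b'⁻¹ = o * j w := by
  have nm : ∀ c, c * e = e * c → ∀ o ∈ O, ∀ w, ∃ o' ∈ O, ∃ w', c * (o * j w) * c⁻¹ = o' * j w' :=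
    fun c hc o ho w => by
      obtain ⟨θ, hθ⟩ := S.act c hc
      exact ⟨_, S.nO hc ho, θ w, by rw [← hθ]; group⟩
  have k1 : ∀ c c', c * e = e * c → c' * e = e * c' → ∀ w,
      (∀ u, c' * j u * c'⁻¹ = j (MulAut.conj w u)) →
      ∃ o ∈ O, ∃ w, c * c' * c⁻¹ * c'⁻¹ = o * j w := fun c c' hc hc' w hw => by
    obtain ⟨o, ho, h1⟩ := S.inner hc' hw
    obtain ⟨o', ho', w', h2⟩ := nm c hc o ho w
    refine ⟨o' * o⁻¹, mul_mem ho' (inv_mem ho), w' * w⁻¹, ?_⟩
    have h3 : o' * o⁻¹ * j (w' * w⁻¹) = o' * j w' * (o * j w)⁻¹ := by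
      rw [mul_assoc, S.oj _ (inv_mem ho), map_mul, map_inv]; group
    rw [h3, ← h2]
    rcases h1 with rfl | rfl
    · rfl
    · have c1 : Commute e (o * j w) := Commute.mul_right (S.oe o ho).symm (S.ec w)
      rw [← mul_assoc o, S.oe o ho, mul_assoc e, c1.eq, ← mul_assoc c, mul_assoc _ e,
        (Commute.inv_left hc).symm.eq]
      group
  obtain ⟨θ, hθ⟩ := S.act b hb
  obtain ⟨θ', hθ'⟩ := S.act b' hb'
  obtain ⟨w', rfl | rfl⟩ := dec θ'
  · exact k1 b b' hb hb' w' hθ'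
  obtain ⟨w, rfl | rfl⟩ := dec θ
  · obtain ⟨o, ho, u, h1⟩ := k1 b' b hb' hb w hθ
    refine ⟨o⁻¹, inv_mem ho, u⁻¹, ?_⟩
    rw [S.oj _ (inv_mem ho), map_inv, ← mul_inv_rev, ← h1]; group
  · obtain ⟨o, ho, u, h1⟩ := k1 b (b⁻¹ * b') hb (Commute.mul_left (Commute.inv_left hb) hb')
      (tau (w⁻¹ * w')) fun u => by
        have := hθ (MulAut.conj (tau (w⁻¹ * w')) u)
        rw [show (MulAut.conj w * tau) (MulAut.conj (tau (w⁻¹ * w')) u) =
          (MulAut.conj w' * tau) u by simp [tau_tau, mul_assoc], ← hθ'] at this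
        calc _ = b⁻¹ * (b' * j u * b'⁻¹) * b := by group
          _ = _ := by rw [← this]; group
    obtain ⟨o', ho', u', h2⟩ := nm b hb o ho u
    exact ⟨o', ho', u', by rw [← h2, ← h1]; group⟩

theorem nz : ¬ IsConj e (j z) := fun hc => by
  obtain ⟨c, hc⟩ := isConj_iff.1 hc
  have k : ∀ w, w * z = z * w → c⁻¹ * j w * c * e = e * (c⁻¹ * j w * c) := fun w hw => by
    have := congrArg j hw
    rw [map_mul, map_mul, ← hc] at this
    calc _ = c⁻¹ * (j w * (c * e * c⁻¹)) * c := by group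
      _ = _ := by rw [this]; group
  obtain ⟨o, ho, w, h1⟩ := S.cm (k p (by decide +kernel)) (k q (by decide +kernel))
  refine S.ne ho w (h1 ▸ ?_)
  have : j z = j p * j q * (j p)⁻¹ * (j q)⁻¹ := by
    rw [show z = p * q * p⁻¹ * q⁻¹ by decide +kernel]; simp
  calc _ = c⁻¹ * (j p * j q * (j p)⁻¹ * (j q)⁻¹) * c := by group
    _ = e := by rw [← this, ← hc]; group

theorem kQ {b : G} (hb : b * e = e * b) (h1 : b * j p = j p * b) (h2 : b * j q = j q * b)
    (h3 : b * j r = j r * b) (h4 : b * j s = j s * b) :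
    ∃ o ∈ O, ∃ d ∈ [1, e, j z, e * j z], b = o * d := by
  obtain ⟨θ, hθ⟩ := S.act b hb
  rcases cQ θ (S.fix hθ h1) (S.fix hθ h2) (S.fix hθ h3) (S.fix hθ h4) with rfl | rfl
  · obtain ⟨o, ho, f | f⟩ := S.inner hb (w := 1) (by simpa using hθ)
    · exact ⟨o, ho, 1, by simp, by simpa using f⟩
    · exact ⟨o, ho, e, by simp, by simpa using f⟩
  · obtain ⟨o, ho, f | f⟩ := S.inner hb hθ
    · exact ⟨o, ho, _, by simp, f⟩
    · exact ⟨o, ho, _, by simp, f⟩

theorem kP {b : G} (hb : b * e = e * b) (h1 : b * j a = j a * b) (h2 : b * j c2 = j c2 * b)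
    (h3 : b * j d1 = j d1 * b) (h4 : b * j d2 = j d2 * b) :
    ∃ o ∈ O, ∃ w, InV w ∧ (b = o * j w ∨ b = o * (e * j w)) := by
  obtain ⟨θ, hθ⟩ := S.act b hb
  obtain ⟨w, hw, rfl⟩ := cP θ (S.fix hθ h1) (S.fix hθ h2) (S.fix hθ h3) (S.fix hθ h4)
  obtain ⟨o, ho, f⟩ := S.inner hb hθ
  exact ⟨o, ho, w, hw, f⟩

theorem kE {b : G} (hb : b * e = e * b) (h1 : b * j z = j z * b) (h2 : b * j p = j p * b)
    (h3 : b * j a = j a * b) (h4 : b * j c2 = j c2 * b) :
    ∃ o ∈ O, ∃ w ∈ E1, b = o * j w ∨ b = o * (e * j w) := by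
  obtain ⟨θ, hθ⟩ := S.act b hb
  obtain ⟨w, hw, rfl⟩ := cE θ (S.fix hθ h1) (S.fix hθ h2) (S.fix hθ h3) (S.fix hθ h4)
  obtain ⟨o, ho, f⟩ := S.inner hb hθ
  exact ⟨o, ho, w, hw, f⟩

theorem tau_of {b : G} (hb : b * e = e * b) (h1 : b * j z = j z * b) (h2 : b * j p = j p * b)
    {l : X} (hl : l ∈ P0) (h3 : b * j y * b⁻¹ = j (y⁻¹ * l)) :
    ∃ b', b' * e = e * b' ∧ ∀ w, b' * j w * b'⁻¹ = j (tau w) := by
  obtain ⟨θ, hθ⟩ := S.act b hb
  obtain ⟨w, hw, rfl | rfl⟩ := dec0 θ (S.fix hθ h1)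
  · refine absurd ?_ (ny w hw (mul_inv_eq_iff_eq_mul.1 (S.fix hθ h2)))
    rw [show w * y * w⁻¹ = y⁻¹ * l from S.inj ((hθ y).symm.trans h3)]
    simpa using hl
  · refine ⟨(j w)⁻¹ * b, Commute.mul_left (Commute.inv_left (S.ec w).symm) hb, fun u => ?_⟩
    calc _ = (j w)⁻¹ * (b * j u * b⁻¹) * j w := by group
      _ = _ := by rw [hθ]; simp [mul_assoc]

theorem nrm0 {n : G} (hz : n * j z = j z * n)
    (hn : ∀ w, w * z = z * w → n * j w * n⁻¹ * e = e * (n * j w * n⁻¹)) :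
    ∃ θ : MulAut X, θ z = z ∧ ∀ w, w * z = z * w → n * j w * n⁻¹ = j (θ w) := by
  have cz : ∀ l, wd [y, a, h, p] l * z = z * wd [y, a, h, p] l := fun l =>
    mem_centralizer_singleton_iff.1 (wd_mem (K := (cen1 z).toSubmonoid) (fun u hu =>
      mem_centralizer_singleton_iff.2
        ((by decide +kernel : ∀ u ∈ [y, a, h, p], u * z = z * u) u hu)) l)
  have cc : ∀ f ∈ [a, h, y * p * h * p], f * f = 1 ∧ ∃ l ∈ [([0], [0, 1]), ([0, 1], [0, 1, 2]),
      ([1, 0], [1, 3, 2, 0])], f = wd [y, a, h, p] l.1 * wd [y, a, h, p] l.2 *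
        (wd [y, a, h, p] l.1)⁻¹ * (wd [y, a, h, p] l.2)⁻¹ := by decide +kernel
  have r0 : ∀ f ∈ [a, h, y * p * h * p],
      f ∈ (j.range.comap (MulAut.conj n).toMonoidHom).comap j := fun f hf => by
    obtain ⟨h1, l, -, h2⟩ := cc f hf
    obtain ⟨o, ho, w, h3⟩ := S.cm (hn _ (cz l.1)) (hn _ (cz l.2))
    have h4 : n * j f * n⁻¹ = o * j w := by rw [← h3, h2]; simp only [map_mul, map_inv]; group
    have h5 := S.o1 ho (w := w) (k := 1) (by
      rw [← h4, pow_one, pow_two, conj_mul, ← map_mul, h1]; simp)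
    exact ⟨w, by simpa [h5] using h4.symm⟩
  have r1 : ∀ w : cen1 z, ∃ u : cen1 z, j u = n * j w * n⁻¹ := fun w => by
    have hw := mem_centralizer_singleton_iff.1 w.2
    obtain ⟨u, hu⟩ := gen0' (r0 _ (by simp)) (r0 _ (by simp)) (r0 _ (by simp)) w hw
    refine ⟨⟨u, mem_centralizer_singleton_iff.2 (S.inj ?_)⟩, hu⟩
    have c1 : Commute n (j z) := hz
    have c2 : Commute (j w) (j z) := Commute.map (x := (w : X)) hw j
    rw [map_mul, map_mul, show j u = n * j w * n⁻¹ from hu]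
    exact ((c1.mul_left c2).mul_left c1.inv_left).eq
  choose f hf using r1
  let φ : cen1 z →* cen1 z := MonoidHom.mk' f fun b c => Subtype.ext (S.inj (by
    simp only [coe_mul, map_mul, hf]; group))
  have hi : Function.Injective φ := fun b c e' => Subtype.ext (S.inj (by
    have := (hf b).symm.trans ((congrArg (fun u : cen1 z => j u) e').trans (hf c))
    simpa using this))
  have hs := Finite.surjective_of_injective hi
  let mk : (w : X) → w * z = z * w → cen1 z := fun w hw => ⟨w, mem_centralizer_singleton_iff.2 hw⟩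
  have fz : φ (mk z rfl) = mk z rfl := Subtype.ext (S.inj (by
    rw [show φ (mk z rfl) = f (mk z rfl) from rfl, hf, hz, mul_inv_cancel_right]))
  have m4 : ∀ u ∈ [p, q, r, s], u * z = z * u := by decide +kernel
  have inL : ∀ u (hu : u ∈ [p, q, r, s]), (φ (mk u (m4 u hu)) : X) ∈ L10 := fun u hu => by
    obtain ⟨w, hw⟩ := hs (mk (a * h) (by decide +kernel))
    have h1 : (mk u (m4 u hu) * (w * mk u (m4 u hu) * w⁻¹)) ^ 4 = 1 := Subtype.ext
      ((by decide +kernel : ∀ u ∈ [p, q, r, s], ∀ v ∈ L10, (u * v) ^ 4 = 1) u hu _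
        (conj_L10 w (mem_centralizer_singleton_iff.1 w.2) u hu))
    have h2 : mk u (m4 u hu) * mk u (m4 u hu) = 1 := Subtype.ext
      ((by decide +kernel : ∀ u ∈ [p, q, r, s], u * u = 1) u hu)
    have h3 : u ≠ 1 ∧ u ≠ z := (by decide +kernel : ∀ u ∈ [p, q, r, s], u ≠ 1 ∧ u ≠ z) u hu
    have h4 := congrArg (fun b => (φ b : X)) h1
    simp only [map_pow, map_mul, map_inv, map_one, hw] at h4
    rcases mem_L10 _ (mem_centralizer_singleton_iff.1 (φ (mk u (m4 u hu))).2)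
      (by rw [← coe_mul, ← map_mul, h2, map_one, coe_one]) h4 with h5 | h5 | h5
    · exact absurd (congrArg Subtype.val (hi ((Subtype.ext h5).trans φ.map_one.symm))) h3.1
    · exact absurd (congrArg Subtype.val (hi ((Subtype.ext h5).trans fz.symm))) h3.2
    · exact h5
  have nc : ∀ b c : cen1 z, (b : X) * c ≠ c * b → (φ b : X) * φ c ≠ φ c * φ b := fun b c h1 h2 =>
    h1 (congrArg Subtype.val (hi (a₁ := b * c) (a₂ := c * b) (by
      rw [map_mul, map_mul]; exact Subtype.ext h2)))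
  obtain ⟨θ, t0, t1, t2, t3, t4⟩ := aut0 (inL p (by simp)) (inL q (by simp)) (inL r (by simp))
    (inL s (by simp)) (nc _ _ (by decide +kernel : q * p ≠ p * q))
    (nc _ _ (by decide +kernel : r * p ≠ p * r)) (nc _ _ (by decide +kernel : r * q ≠ q * r))
    (nc _ _ (by decide +kernel : s * p ≠ p * s)) (nc _ _ (by decide +kernel : s * q ≠ q * s))
    (nc _ _ (by decide +kernel : s * r ≠ r * s))
  let ψ : cen1 z →* X := (θ⁻¹ : MulAut X).toMonoidHom.comp ((cen1 z).subtype.comp φ)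
  have hψ : ∀ w, θ (ψ w) = φ w := fun w => by simp [ψ]
  have p4 : ∀ u (hu : u ∈ [p, q, r, s]), ψ (mk u (m4 u hu)) = u := fun u hu => θ.injective (by
    rw [hψ]
    simp only [List.mem_cons, List.not_mem_nil, or_false] at hu
    rcases hu with rfl | rfl | rfl | rfl
    exacts [t1.symm, t2.symm, t3.symm, t4.symm])
  let K : Subgroup X := (ψ.eqLocus (cen1 z).subtype).map (cen1 z).subtype
  have hK : ∀ w : cen1 z, (w : X) ∈ K ↔ ψ w = w := fun w =>
    ⟨fun ⟨u, h1, h2⟩ => Subtype.ext h2 ▸ h1, fun h1 => ⟨w, h1, rfl⟩⟩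
  have k4 : ∀ u ∈ [p, q, r, s], u ∈ K.toSubmonoid := fun u hu => (hK (mk u (m4 u hu))).2 (p4 u hu)
  have k10 : ∀ u ∈ L10, u ∈ K := fun u hu => by
    obtain ⟨l, -, rfl⟩ := (by decide +kernel : ∀ u ∈ L10, ∃ l ∈ [[0], [1], [2], [3], [1, 0, 1],
      [0, 1, 0], [0, 2, 0], [0, 3, 0], [0, 1, 2, 3], [1, 0, 2, 3]], u = wd [p, q, r, s] l) u hu
    exact wd_mem k4 l
  have zK : ψ (mk z rfl) = z := θ.injective (by rw [hψ, fz, t0])
  have k2 : ∀ w : cen1 z, ψ w = w ∨ ψ w = w * z := fun w => by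
    have hw := mem_centralizer_singleton_iff.1 w.2
    have h1 : ∀ u : cen1 z, ψ u = u → (w : X) * u * (w : X)⁻¹ ∈ K →
        (w : X)⁻¹ * ψ w * u = u * ((w : X)⁻¹ * ψ w) := fun u h1 h2 => by
      have := (hK (w * u * w⁻¹)).1 h2
      simp only [map_mul, map_inv, h1, coe_mul, coe_inv] at this
      calc _ = (w : X)⁻¹ * (ψ w * u * (ψ w)⁻¹) * ψ w := by group
        _ = _ := by rw [this]; group
    have h2 : ∀ u (hu : u ∈ [p, q, r, s]), (w : X)⁻¹ * ψ w * u = u * ((w : X)⁻¹ * ψ w) :=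
      fun u hu => h1 (mk u (m4 u hu)) (p4 u hu) (k10 _ (conj_L10 w hw u hu))
    rcases cQ1 _ (h1 (mk z rfl) zK (by
        rw [show (w : X) * (mk z rfl : X) = z * w from hw, mul_inv_cancel_right]
        exact (hK (mk z rfl)).2 zK)) (h2 p (by simp)) (h2 q (by simp)) (h2 r (by simp))
      (h2 s (by simp)) with h3 | h3
    · exact .inl (inv_mul_eq_one.1 h3).symm
    · exact .inr (eq_mul_of_inv_mul_eq h3)
  have k3 : ∀ f ∈ [a, h, y * p * h * p], f ∈ K := fun f hf => by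
    obtain ⟨-, l, -, rfl⟩ := cc f hf
    refine (hK (mk _ (cz l.1) * mk _ (cz l.2) * (mk _ (cz l.1))⁻¹ * (mk _ (cz l.2))⁻¹)).2 ?_
    have c1 : Commute z (wd [y, a, h, p] l.1) := (cz l.1).symm
    have c2 : Commute z (wd [y, a, h, p] l.2) := (cz l.2).symm
    simp only [map_mul, map_inv, coe_mul, coe_inv]
    rcases k2 (mk _ (cz l.1)) with h1 | h1 <;> rcases k2 (mk _ (cz l.2)) with h2 | h2 <;>
      rw [h1, h2] <;> simp only [mk, mul_inv_rev, mul_assoc, c2.left_comm,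
        c1.inv_right.left_comm, mul_inv_cancel_left]
  refine ⟨θ, t0, fun w hw => ?_⟩
  have := (hK (mk w hw)).1 (gen0' (k3 _ (by simp)) (k3 _ (by simp)) (k3 _ (by simp)) w hw)
  rw [← hf (mk w hw), show (f (mk w hw) : X) = φ (mk w hw) from rfl, ← hψ, this]

end St

end H8.JS
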