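import Cfsg.Agent.H8.JSKit

/-! Tower JS, job `JobQ1`: coordinates on the extraspecial group. -/

set_option autoImplicit false
set_option maxRecDepth 100000
set_option linter.unusedSectionVars false

namespace H8.JS

open Cfsg Subgroup H98 H1.Gold H49 H4
open H4.M2 (X g y p q r s t z a h)

universe u

variable {G : Type u} [Group G] [Finite G] {j : X →* G} {e v x : G} {O : Subgroup G}

theorem bt_lt (c : Fin 128) (i : ℕ) : bt c i < 2 := Nat.mod_lt _ two_pos

theorem two_law {U W Z : G} {α β : ℕ} (wz : Commute Z W)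
    (uu : U * U = Z ^ α) (ww : W * W = Z ^ β) (wu : W * U = U * W * Z) {b c d f : ℕ}
    (hb : b < 2) (hc : c < 2) (hd : d < 2) (hf : f < 2) :
    U ^ b * W ^ c * (U ^ d * W ^ f) =
      U ^ ((b + d) % 2) * W ^ ((c + f) % 2) * Z ^ (α * (b * d) + β * (c * f) + c * d) := by
  have k1 : ∀ u, W * (U * u) = U * (W * (Z * u)) := fun u => by rw [← mul_assoc, wu]; group
  have k2 : ∀ u, U * (U * u) = Z ^ α * u := fun u => by rw [← mul_assoc, uu]
  have k3 : ∀ u, W * (W * u) = Z ^ β * u := fun u => by rw [← mul_assoc, ww]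
  have k4 : Z * W = W * Z := wz
  have k5 : ∀ u n, Z ^ n * (W * u) = W * (Z ^ n * u) := fun u n => (wz.pow_left n).left_comm u
  have k6 : ∀ n, Z ^ n * W = W * Z ^ n := fun n => wz.pow_left n
  have k7 : Z ^ β * Z = Z * Z ^ β := by group
  interval_cases b <;> interval_cases c <;> interval_cases d <;> interval_cases f <;>
    simp [mul_assoc, k1, k2, k3, k4, k5, k6, uu, ww, wu, pow_add]

theorem bt_qm : ∀ b c : Fin 128, (∀ i ∈ [0, 1, 2, 3, 4, 5], bt (qm b c) i = (bt b i + bt c i) % 2) ∧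
    bt (qm b c) 6 = ((0 * (bt b 0 * bt c 0) + 0 * (bt b 1 * bt c 1) + bt b 1 * bt c 0) +
      (1 * (bt b 2 * bt c 2) + 1 * (bt b 3 * bt c 3) + bt b 3 * bt c 2) +
      (0 * (bt b 4 * bt c 4) + 1 * (bt b 5 * bt c 5) + bt b 5 * bt c 4) +
      (bt b 6 + bt c 6)) % 2 := by decide +kernel

theorem jz2 (j : X →* G) : j z * j z = 1 := by
  rw [← map_mul, show z * z = 1 by decide +kernel, map_one]

theorem jm (j : X →* G) {b c d : X} (k : b * c = d) : j b * j c = j d := by rw [← map_mul, k]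

theorem jcm (j : X →* G) {b c : X} (k : b * c = c * b) : Commute (j b) (j c) := Commute.map k j

namespace SD

variable (D : SD j e O v x)
include D

theorem cv {w : X} (hw : w * z = z * w) : Commute v (j w) := D.vc w hw
theorem cx {w : X} (hw : w * z = z * w) : Commute x (j w) := D.xc w hw
theorem vinv : v⁻¹ = v * j z := inv_eq_of_mul_eq_one_right (by rw [← mul_assoc, D.v2, jz2])
theorem xinv : x⁻¹ = x := inv_eq_of_mul_eq_one_right D.x2

theorem xvx (S : St j e O) : x * v * x = v⁻¹ := by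
  rw [← D.xe]; simp only [mul_inv_rev, D.xinv, S.einv, ← mul_assoc, D.x2, one_mul]

theorem vx (S : St j e O) : v * x = x * v * j z := by
  rw [mul_assoc, ← D.vinv, ← D.xvx S]; simp only [← mul_assoc, D.x2, one_mul]

theorem qq_mul (S : St j e O) (b c : Fin 128) :
    qq j v x b * qq j v x c = qq j v x (qm b c) := by
  have c0 : ∀ u ∈ [p, q, k1, k2], u * z = z * u := by decide +kernel
  have zp := (jcm j (c0 p (by simp))).symm
  have zq := (jcm j (c0 q (by simp))).symm
  have zk := (jcm j (c0 k1 (by simp))).symm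
  have zl := (jcm j (c0 k2 (by simp))).symm
  have zx := (D.cx rfl).symm
  have zv := (D.cv rfl).symm
  have A := two_law (α := 0) (β := 0) zq
    ((jm j (by decide +kernel : p * p = 1)).trans (by simp))
    ((jm j (by decide +kernel : q * q = 1)).trans (by simp))
    ((jm j (by decide +kernel : q * p = p * q * z)).trans (by simp))
    (bt_lt b 0) (bt_lt b 1) (bt_lt c 0) (bt_lt c 1)
  have B := two_law (α := 1) (β := 1) zl
    ((jm j (by decide +kernel : k1 * k1 = z)).trans (by simp))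
    ((jm j (by decide +kernel : k2 * k2 = z)).trans (by simp))
    ((jm j (by decide +kernel : k2 * k1 = k1 * k2 * z)).trans (by simp))
    (bt_lt b 2) (bt_lt b 3) (bt_lt c 2) (bt_lt c 3)
  have C := two_law (α := 0) (β := 1) zv (by simpa using D.x2) (by simpa using D.v2)
    (D.vx S) (bt_lt b 4) (bt_lt b 5) (bt_lt c 4) (bt_lt c 5)
  have cm : ∀ {U W U' W' : G}, Commute U U' → Commute U W' → Commute W U' → Commute W W' →
      ∀ i k l m : ℕ, Commute (U ^ i * W ^ k) (U' ^ l * W' ^ m) := fun h1 h2 h3 h4 i k l m =>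
    ((h1.pow_pow i l).mul_right (h2.pow_pow i m)).mul_left
      ((h3.pow_pow k l).mul_right (h4.pow_pow k m))
  have ba := cm (jcm j (by decide +kernel : k1 * p = p * k1))
    (jcm j (by decide +kernel : k1 * q = q * k1)) (jcm j (by decide +kernel : k2 * p = p * k2))
    (jcm j (by decide +kernel : k2 * q = q * k2))
  have ca := cm (D.cx (c0 p (by simp))) (D.cx (c0 q (by simp))) (D.cv (c0 p (by simp)))
    (D.cv (c0 q (by simp)))
  have cb := cm (D.cx (c0 k1 (by simp))) (D.cx (c0 k2 (by simp))) (D.cv (c0 k1 (by simp)))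
    (D.cv (c0 k2 (by simp)))
  have zc : ∀ {U W : G}, Commute (j z) U → Commute (j z) W → ∀ n l m : ℕ,
      Commute (j z ^ n) (U ^ l * W ^ m) := fun h1 h2 n l m =>
    (h1.pow_pow n l).mul_right (h2.pow_pow n m)
  have key : ∀ A1 B1 C1 Z1 A2 B2 C2 Z2 : G, Commute B1 A2 → Commute C1 A2 → Commute C1 B2 →
      Commute Z1 A2 → Commute Z1 B2 → Commute Z1 C2 →
      A1 * B1 * C1 * Z1 * (A2 * B2 * C2 * Z2) = A1 * A2 * (B1 * B2) * (C1 * C2) * (Z1 * Z2) :=
    fun A1 B1 C1 Z1 A2 B2 C2 Z2 h1 h2 h3 h4 h5 h6 => by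
      simp only [mul_assoc, h1.left_comm, h2.left_comm, h3.left_comm, h4.left_comm, h5.left_comm,
        h6.left_comm]
  have key2 : ∀ (A1 B1 C1 : G) (i k l m : ℕ), (∀ n, Commute (j z ^ n) B1) →
      (∀ n, Commute (j z ^ n) C1) → A1 * j z ^ i * (B1 * j z ^ k) * (C1 * j z ^ l) * j z ^ m =
        A1 * B1 * C1 * j z ^ ((i + k + l + m) % 2) := fun A1 B1 C1 i k l m h1 h2 => by
    rw [← pow_eq_pow_mod _ ((pow_two _).trans (jz2 j))]
    simp only [mul_assoc, pow_add, (h1 _).left_comm, (h2 _).left_comm]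
  have sh : ∀ c, qq j v x c = j p ^ bt c 0 * j q ^ bt c 1 * (j k1 ^ bt c 2 * j k2 ^ bt c 3) *
      (x ^ bt c 4 * v ^ bt c 5) * j z ^ bt c 6 := fun c => by simp only [qq, mul_assoc]
  obtain ⟨h1, h2⟩ := bt_qm b c
  rw [sh, sh, sh, key _ _ _ _ _ _ _ _ (ba ..) (ca ..) (cb ..) (zc zp zq ..) (zc zk zl ..)
    (zc zx zv ..), A, B, C, ← pow_add, key2 _ _ _ _ _ _ _ (fun _ => zc zk zl ..)
    (fun _ => zc zx zv ..), h2, h1 0 (by simp), h1 1 (by simp), h1 2 (by simp), h1 3 (by simp),
    h1 4 (by simp), h1 5 (by simp)]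

end SD

theorem qq0 : qq j v x 0 = 1 := by simp [qq, bt]
theorem qq1 : qq j v x 1 = j p := by simp [qq, bt]
theorem qq2 : qq j v x 2 = j q := by simp [qq, bt]
theorem qq4 : qq j v x 4 = j k1 := by simp [qq, bt]
theorem qq8 : qq j v x 8 = j k2 := by simp [qq, bt]
theorem qq16 : qq j v x 16 = x := by simp [qq, bt]
theorem qq32 : qq j v x 32 = v := by simp [qq, bt]
theorem qq64 : qq j v x 64 = j z := by simp [qq, bt]

theorem act_of (mul : ∀ b c, qq j v x b * qq j v x c = qq j v x (qm b c)) {n : G}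
    {l0 l1 l2 l3 l4 l5 : Fin 128} (hz : n * j z * n⁻¹ = j z) (h0 : n * j p * n⁻¹ = qq j v x l0)
    (h1 : n * j q * n⁻¹ = qq j v x l1) (h2 : n * j k1 * n⁻¹ = qq j v x l2)
    (h3 : n * j k2 * n⁻¹ = qq j v x l3) (h4 : n * x * n⁻¹ = qq j v x l4)
    (h5 : n * v * n⁻¹ = qq j v x l5) : Act j v x n (lin l0 l1 l2 l3 l4 l5) := fun c => by
  have k : ∀ i l, qq j v x l ^ bt c i = qq j v x (pk c i l) := fun i l => by
    have := bt_lt c i
    unfold pk
    split_ifs with e
    · rw [e, pow_one]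
    · rw [show bt c i = 0 by omega, pow_zero, qq0]
  rw [← qq64 (v := v) (x := x)] at hz
  rw [lin, ← mul, ← mul, ← mul, ← mul, ← mul, ← mul, ← k, ← k, ← k, ← k, ← k, ← k, ← k, ← h0, ← h1,
    ← h2, ← h3, ← h4, ← h5, ← hz, qq64]
  simp only [conj_pow, conj_mul, qq]

theorem up_comm {u : G} (hu : ∀ w, w * z = z * w → u * j w = j w * u) {w : X}
    (hw : g⁻¹ * w * g * z = z * (g⁻¹ * w * g)) : up j u * j w * (up j u)⁻¹ = j w := by
  have := hu _ hw
  simp only [map_mul, map_inv] at this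
  unfold up
  calc _ = j g * (u * ((j g)⁻¹ * j w * j g)) * u⁻¹ * (j g)⁻¹ := by group
    _ = _ := by rw [this]; group

theorem q_up {u : G} (hu : u * j q = j q * u) : j q * up j u * j q = uz j u := by
  have h1 : j q * j g = (j g)⁻¹ * j q := by
    rw [← map_inv, jm j (by decide +kernel : q * g = g⁻¹ * q), map_mul]
  have h2 : j q * ((j g)⁻¹ * j q) = j g := by
    rw [← h1, ← mul_assoc, jm j (by decide +kernel : q * q = 1), map_one, one_mul]
  unfold up uz
  calc _ = j q * j g * u * ((j g)⁻¹ * j q) := by group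
    _ = _ := by rw [h1, mul_assoc _ (j q), ← hu, mul_assoc, mul_assoc, h2, mul_assoc]

theorem up_uz (u : G) : up j (uz j u) = u := by unfold up uz; group

theorem up_up (u : G) : up j (up j u) = uz j u := by
  have h1 : j g * j g = (j g)⁻¹ := by rw [← map_inv, jm j (by decide +kernel : g * g = g⁻¹)]
  unfold up uz
  calc _ = j g * j g * u * (j g * j g)⁻¹ := by group
    _ = _ := by rw [h1, inv_inv]

theorem up_mul (b c : G) : up j (b * c) = up j b * up j c := (conj_mul ..).symm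
theorem up_inv (b : G) : up j b⁻¹ = (up j b)⁻¹ := by unfold up; group
theorem up_z : up j (j z) = j p := by
  rw [up, ← map_inv, ← map_mul, ← map_mul, show g * z * g⁻¹ = p by decide +kernel]
theorem up_p : up j (j p) = j p * j z := by
  rw [up, ← map_inv, ← map_mul, ← map_mul, ← map_mul, show g * p * g⁻¹ = p * z by decide +kernel]

namespace SD

variable (D : SD j e O v x)
include D

theorem vp2 : up j v * up j v = j p := by rw [← up_mul, D.v2, up_z]
theorem xp2 : up j x * up j x = 1 := by rw [← up_mul, D.x2]; simp [up]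
theorem uzv : uz j v = (v * up j v)⁻¹ := eq_inv_of_mul_eq_one_right D.vv
theorem uzx : uz j x = x * up j x := by
  have h1 := eq_inv_of_mul_eq_one_right D.xx
  have h2 : uz j x * uz j x = 1 := by rw [← up_up, ← up_mul, D.xp2]; simp [up]
  rw [← inv_eq_of_mul_eq_one_right h2, h1, inv_inv]

theorem v_vp : Commute v (up j v) := by
  have h1 : uz j v * uz j v = j p * j z := by rw [← up_up, ← up_mul, D.vp2, up_p]
  rw [D.uzv, ← mul_inv_rev, inv_eq_iff_eq_inv, mul_inv_rev,
    inv_eq_of_mul_eq_one_right (jz2 j), inv_eq_of_mul_eq_one_right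
      ((jm j (by decide +kernel : p * p = 1)).trans j.map_one), ← D.v2, ← D.vp2] at h1
  have : up j v * v = v * up j v := by
    apply mul_left_cancel (a := v); apply mul_right_cancel (b := up j v)
    simpa [mul_assoc] using h1
  exact this.symm

theorem vp_q : up j v * j q * (up j v)⁻¹ = j q * v⁻¹ * j p := by
  have h1 := q_up (D.vc q (by decide +kernel))
  have q2 : j q * j q = 1 := (jm j (by decide +kernel : q * q = 1)).trans j.map_one
  have p2 : (j p)⁻¹ = j p := inv_eq_of_mul_eq_one_right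
    ((jm j (by decide +kernel : p * p = 1)).trans j.map_one)
  calc _ = j q * j q * up j v * j q * (up j v)⁻¹ := by rw [q2, one_mul]
    _ = j q * (j q * up j v * j q) * (up j v)⁻¹ := by group
    _ = j q * v⁻¹ * (up j v * up j v)⁻¹ := by rw [h1, D.uzv, D.v_vp.eq]; group
    _ = _ := by rw [D.vp2, p2]

theorem vp_x : up j v * x * (up j v)⁻¹ = x * j p * j z := by
  have c1 := up_comm D.vc (w := p * z) (by decide +kernel)
  calc _ = x * (x * up j v * x) * (up j v)⁻¹ := by simp only [← mul_assoc, D.x2, one_mul]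
    _ = x * (up j v * j (p * z) * (up j v)⁻¹) := by rw [D.xv, map_mul]; group
    _ = _ := by rw [c1, map_mul, mul_assoc]

theorem xp_q : up j x * j q * (up j x)⁻¹ = j q * x := by
  have h1 := q_up (D.xc q (by decide +kernel))
  have q2 : j q * j q = 1 := (jm j (by decide +kernel : q * q = 1)).trans j.map_one
  calc _ = j q * j q * up j x * j q * (up j x)⁻¹ := by rw [q2, one_mul]
    _ = j q * (j q * up j x * j q) * (up j x)⁻¹ := by group
    _ = _ := by rw [h1, D.uzx]; group

theorem xp_x : Commute x (up j x) := by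
  have h2 : uz j x * uz j x = 1 := by rw [← up_up, ← up_mul, D.xp2]; simp [up]
  rw [D.uzx] at h2
  have := eq_inv_of_mul_eq_one_left h2
  rwa [mul_inv_rev, D.xinv, inv_eq_of_mul_eq_one_right D.xp2] at this

theorem xp_v (S : St j e O) : up j x * v * (up j x)⁻¹ = v * j p * j z := by
  have h1 : x * uz j v * x⁻¹ = uz j v * j p := by
    have c1 : Commute v (j p) := D.cv (by decide +kernel)
    have c2 : Commute v (j z) := D.cv rfl
    have c3 : Commute (up j v) (j p) := by rw [← D.vp2]; exact (Commute.refl _).mul_right rfl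
    have c4 : Commute (up j v) (j z) :=
      mul_inv_eq_iff_eq_mul.1 (up_comm D.vc (w := z) (by decide +kernel))
    have c5 : Commute (j p) (j z) := jcm j (by decide +kernel)
    have p2 : j p * j p = 1 := (jm j (by decide +kernel : p * p = 1)).trans j.map_one
    rw [D.uzv, ← conj_inv, ← conj_mul, D.xinv, D.xvx S, D.xv, D.vinv, inv_eq_iff_eq_inv,
      mul_inv_rev, inv_inv, inv_eq_of_mul_eq_one_right p2]
    simp only [mul_assoc, c4.symm.left_comm, c5.symm.left_comm, jz2, mul_one, c1.symm.left_comm,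
      c3.eq]
  have := congrArg (up j) h1
  rwa [up_mul, up_mul, up_mul, up_inv, up_uz, up_p, ← mul_assoc] at this

theorem e_x (S : St j e O) : e * x * e⁻¹ = x * v := by
  rw [← D.xe, S.einv]; simp only [← mul_assoc, D.x2, one_mul]

theorem e_v (S : St j e O) : e * v * e⁻¹ = v⁻¹ := by
  rw [← D.xe]; simp only [mul_inv_rev, D.xinv, S.einv, mul_assoc, S.e2, mul_one]

end SD

theorem mem_nor_of {Q : Subgroup G} (mem : ∀ u, u ∈ Q ↔ ∃ c, qq j v x c = u) {n : G}
    {f : Fin 128 → Fin 128} (A : Act j v x n f) : n ∈ nor Q :=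
  mem_normalizer_fintype fun u hu => by
    obtain ⟨c, rfl⟩ := (mem u).1 hu
    exact (mem _).2 ⟨_, (A c).symm⟩

theorem jobQ1 : JobQ1.{u} := fun G _ _ j e O v x S D => by
  have mul := D.qq_mul S
  have z1 : j z ≠ 1 := fun e => (by decide +kernel : z ≠ 1) (S.inj (e.trans j.map_one.symm))
  have one : ∀ c, qq j v x c = 1 → c = 0 := fun c hc => by
    rcases (by decide +kernel : ∀ c : Fin 128, c = 0 ∨ c = 64 ∨
      ∃ d ∈ [1, 2, 4, 8, 16, 32], qm d c = qm (qm c d) 64) c with e | rfl | ⟨d, -, e⟩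
    · exact e
    · exact absurd (qq64.symm.trans hc) z1
    · have := congrArg (qq j v x) e
      rw [← mul, ← mul, ← mul, hc, qq64] at this
      exact absurd (by simpa using this) z1
  have inj : Function.Injective (qq j v x) := fun b c e =>
    (by decide +kernel : ∀ b c : Fin 128, qm b (qm b (qm b b)) = 0 ∧
      (qm c (qm b (qm b b)) = 0 → b = c)) b c |> fun k =>
      k.2 (one _ (by rw [← mul, ← e, mul, k.1, qq0]))
  have gn : ∀ u ∈ [j p, j q, j k1, j k2, x, v], u ∈ QQ j v x := fun u hu => subset_closure hu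
  have zQ : j z ∈ QQ j v x := D.v2 ▸ mul_mem (gn _ (by simp)) (gn _ (by simp))
  have mem : ∀ u, u ∈ QQ j v x ↔ ∃ c, qq j v x c = u := fun u => ⟨fun hu => by
    rw [QQ, ← mem_toSubmonoid, closure_toSubmonoid_of_finite] at hu
    refine Submonoid.closure_induction (fun u hu => ?_) ⟨0, qq0⟩ ?_ hu
    · simp only [List.mem_cons, List.not_mem_nil, or_false, Set.mem_ofPred_eq] at hu
      rcases hu with rfl | rfl | rfl | rfl | rfl | rfl
      exacts [⟨1, qq1⟩, ⟨2, qq2⟩, ⟨4, qq4⟩, ⟨8, qq8⟩, ⟨16, qq16⟩, ⟨32, qq32⟩]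
    · rintro _ _ - - ⟨b, rfl⟩ ⟨c, rfl⟩
      exact ⟨_, (mul b c).symm⟩, by
    rintro ⟨c, rfl⟩
    refine mul_mem (mul_mem (mul_mem (mul_mem (mul_mem (mul_mem ?_ ?_) ?_) ?_) ?_) ?_)
      (pow_mem zQ _) <;> exact pow_mem (gn _ (by simp)) _⟩
  have xs : H78.XS (QQ j v x) (j z) := by
    refine ⟨zQ, z1, jz2 j, fun u hu => ?_, fun u hu hc => ?_, fun u hu => ?_, fun u hu w hw => ?_,
      j p, gn _ (by simp), j q, gn _ (by simp), fun e => (by decide +kernel : p * q ≠ q * p)
        (S.inj (by simpa using e))⟩ <;> obtain ⟨c, rfl⟩ := (mem u).1 hu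
    · rw [← qq64 (v := v) (x := x), mul, mul, (by decide +kernel : ∀ c, qm 64 c = qm c 64) c]
    · rw [← qq64 (v := v) (x := x), ← qq0 (j := j) (v := v) (x := x)]
      exact ((by decide +kernel : ∀ c : Fin 128, (∀ d, qm c d = qm d c) → c = 0 ∨ c = 64) c
        fun d => inj (by rw [← mul, ← mul, hc _ ((mem _).2 ⟨d, rfl⟩)])).imp (congrArg _) (congrArg _)
    · rw [← qq64 (v := v) (x := x), ← qq0 (j := j) (v := v) (x := x), mul]
      exact ((by decide +kernel : ∀ c : Fin 128, qm c c = 0 ∨ qm c c = 64) c).imp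
        (congrArg _) (congrArg _)
    · obtain ⟨d, rfl⟩ := (mem w).1 hw
      rw [← qq64 (v := v) (x := x), mul, mul, mul]
      exact ((by decide +kernel : ∀ c d : Fin 128, qm c d = qm d c ∨ qm c d = qm (qm d c) 64) c d).imp
        (congrArg _) (congrArg _)
  have a0 : ∀ w, w * z = z * w → ∀ l0 l1 l2 l3 : Fin 128, (∀ l ∈ [l0, l1, l2, l3], bt l 4 = 0 ∧ bt l 5 = 0) →
      (∀ u ∈ [(p, l0), (q, l1), (k1, l2), (k2, l3)], w * u.1 * w⁻¹ = p ^ bt u.2 0 * q ^ bt u.2 1 *
        k1 ^ bt u.2 2 * k2 ^ bt u.2 3 * z ^ bt u.2 6) →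
      Act j v x (j w) (lin l0 l1 l2 l3 16 32) := fun w hw l0 l1 l2 l3 h1 h2 => by
    have k : ∀ u ∈ [(p, l0), (q, l1), (k1, l2), (k2, l3)], u.2 ∈ [l0, l1, l2, l3] →
        j w * j u.1 * (j w)⁻¹ = qq j v x u.2 := fun u hu hu' => by
      have := congrArg j (h2 u hu)
      simpa [qq, h1 _ hu'] using this
    exact act_of mul (mul_inv_eq_iff_eq_mul.2 (jcm j hw)) (k (p, l0) (by simp) (by simp))
      (k (q, l1) (by simp) (by simp)) (k (k1, l2) (by simp) (by simp)) (k (k2, l3) (by simp) (by simp))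
      (by rw [← D.xc w hw, qq16]; simp) (by rw [← D.vc w hw, qq32]; simp)
  have ay := a0 y (by decide +kernel) 1 2 8 76 (by decide +kernel) (by decide +kernel)
  have aa := a0 a (by decide +kernel) 1 11 69 72 (by decide +kernel) (by decide +kernel)
  have ah := a0 h (by decide +kernel) 2 1 68 12 (by decide +kernel) (by decide +kernel)
  have ec : ∀ w, e * j w * e⁻¹ = j w := fun w => by rw [S.ec, mul_inv_cancel_right]
  have ae : Act j v x e (lin 1 2 4 8 48 96) := act_of mul (ec _) ((ec _).trans qq1.symm) ((ec _).trans qq2.symm)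
    ((ec _).trans qq4.symm) ((ec _).trans qq8.symm) (by rw [D.e_x S, ← show qm 16 32 = 48 by decide, ← mul, qq16, qq32])
    (by rw [D.e_v S, D.vinv, ← show qm 32 64 = 96 by decide, ← mul, qq64, qq32])
  have av : Act j v x (up j v) (lin 1 35 4 8 81 32) := act_of mul
    (up_comm D.vc (by decide +kernel)) ((up_comm D.vc (by decide +kernel)).trans qq1.symm)
    (by rw [D.vp_q, D.vinv, ← show qm (qm 2 (qm 32 64)) 1 = 35 by decide, ← mul, ← mul, ← mul, qq1,
      qq2, qq32, qq64])
    ((up_comm D.vc (by decide +kernel)).trans qq4.symm) ((up_comm D.vc (by decide +kernel)).trans qq8.symm)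
    (by rw [D.vp_x, ← show qm (qm 16 1) 64 = 81 by decide, ← mul, ← mul, qq1, qq16, qq64])
    (by rw [← D.v_vp.eq, qq32]; simp)
  have ax : Act j v x (up j x) (lin 1 18 4 8 16 97) := act_of mul
    (up_comm D.xc (by decide +kernel)) ((up_comm D.xc (by decide +kernel)).trans qq1.symm)
    (by rw [D.xp_q, ← show qm 2 16 = 18 by decide, ← mul, qq2, qq16])
    ((up_comm D.xc (by decide +kernel)).trans qq4.symm) ((up_comm D.xc (by decide +kernel)).trans qq8.symm)
    (by rw [← D.xp_x.eq, qq16]; simp)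
    (by rw [D.xp_v S, ← show qm (qm 32 1) 64 = 97 by decide, ← mul, ← mul, qq1, qq32, qq64])
  refine ⟨mul, inj, mem, xs, ?_, ay, aa, ah, ae, av, ax, fun n hn => ?_, mem_nor_of mem ae,
    fun w hw => gen0 (K := (nor (QQ j v x)).comap j) (mem_nor_of mem ay) (mem_nor_of mem aa)
      (mem_nor_of mem ah) (le_normalizer (gn _ (by simp))) w hw,
    sup_le ((closure_le _).2 fun u hu => ?_) le_normalizer⟩
  · rw [show 2 ^ 7 = Nat.card (Fin 128) by simp]
    exact (Nat.card_congr (Equiv.ofBijective (fun c => (⟨_, (mem _).2 ⟨c, rfl⟩⟩ : QQ j v x))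
      ⟨fun b c e => inj (congrArg Subtype.val e), fun u =>
        ((mem _).1 u.2).imp fun _ e => Subtype.ext e⟩)).symm
  · have cj : ∀ u ∈ QQ j v x, n * u * n⁻¹ ∈ QQ j v x := fun u hu => (mem_normalizer_iff.1 hn u).1 hu
    have hz : n * j z * n⁻¹ = j z := (xs.center _ (cj _ zQ) fun u hu => by
      have := xs.z_comm _ ((mem_normalizer_iff.1 (inv_mem hn) u).1 hu)
      calc _ = n * (j z * (n⁻¹ * u * n⁻¹⁻¹)) * n⁻¹ := by group
        _ = _ := by rw [this]; group).resolve_left (by simpa using z1)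
    have k : ∀ u ∈ [j p, j q, j k1, j k2, x, v], ∃ l, n * u * n⁻¹ = qq j v x l := fun u hu =>
      ((mem _).1 (cj u (gn u hu))).imp fun _ e => e.symm
    obtain ⟨l0, h0⟩ := k (j p) (by simp)
    obtain ⟨l1, h1⟩ := k (j q) (by simp)
    obtain ⟨l2, h2⟩ := k (j k1) (by simp)
    obtain ⟨l3, h3⟩ := k (j k2) (by simp)
    obtain ⟨l4, h4⟩ := k x (by simp)
    obtain ⟨l5, h5⟩ := k v (by simp)
    exact ⟨mul_inv_eq_iff_eq_mul.1 hz, _, _, _, _, _, _, act_of mul hz h0 h1 h2 h3 h4 h5⟩
  · simp only [List.mem_cons, List.not_mem_nil, or_false, Set.mem_ofPred_eq] at hu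
    rcases hu with rfl | rfl | rfl | rfl | rfl
    exacts [mem_nor_of mem ay, mem_nor_of mem aa, mem_nor_of mem ah, mem_nor_of mem av,
      mem_nor_of mem ax]

end H8.JS
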