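import Cfsg.Agent.H8.JSQ1
import Cfsg.Agent.H21.JSS

/-! Tower JS, job `JobW1`: the halves in the wreath configuration. -/

set_option autoImplicit false
set_option maxRecDepth 100000
set_option linter.unusedSectionVars false

namespace H8.JS.W1

open Cfsg Subgroup H98 H1.Gold H49 H4
open H4.M2 (X g y p q r s t z a h)
open H21.JSS (cg cg_l cg_r cg_i)

universe u

variable {G : Type u} [Group G] [Finite G] {j : X →* G} {e u b b' m m' : G} {f f' l l' : X}

structure WD (j : X →* G) (e u : G) : Prop where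
  st : St j e ⊥
  u2 : u * u = 1
  uc : ∀ w, w * z = z * w → u * j w = j w * u
  ue : u * e * u = e * j z
  tri : Tri j u

/-- `b` is the half of `f` -/
def H (j : X →* G) (u : G) (f : X) (b : G) : Prop := ∃ c, c * z * c⁻¹ = f ∧ b = j c * u * (j c)⁻¹

/-- `b` is the half of `f`, a point collinear with `z` -/
structure Hf (j : X →* G) (u : G) (f : X) (b : G) : Prop where
  h1 : H j u f b
  h2 : H j u (f * z) (u * b)
  cm : Commute u b

theorem H.conj (k : H j u f b) (w : X) : H j u (w * f * w⁻¹) (j w * b * (j w)⁻¹) := by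
  obtain ⟨c, rfl, rfl⟩ := k
  exact ⟨w * c, by group, by rw [map_mul]; group⟩

theorem InV.mul {w w' : X} (h1 : InV w) (h2 : InV w') : InV (w * w') := by
  rcases h1 with rfl | rfl | rfl | rfl <;> rcases h2 with rfl | rfl | rfl | rfl <;> decide +kernel

theorem cmi {A : Type*} [Group A] {b c : A} (k : Commute b c) : b * c * b⁻¹ = c := by
  rw [k.eq, mul_inv_cancel_right]

namespace WD

variable (W : WD j e u)
include W

theorem uniq (k : H j u f b) (k' : H j u f b') : b = b' := by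
  obtain ⟨c, rfl, rfl⟩ := k
  obtain ⟨c', h1, rfl⟩ := k'
  have := W.uc (c⁻¹ * c') (by
    calc _ = c⁻¹ * (c' * z * c'⁻¹) * c' := by group
      _ = _ := by rw [h1]; group)
  rw [map_mul, map_inv] at this
  calc _ = j c * (u * ((j c)⁻¹ * j c')) * (j c')⁻¹ := by group
    _ = _ := by rw [this]; group

theorem sq (k : H j u f b) : b * b = 1 := by
  obtain ⟨c, -, rfl⟩ := k
  rw [conj_mul, W.u2]; simp

theorem inv (k : H j u f b) : b⁻¹ = b := inv_eq_of_mul_eq_one_right (W.sq k)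

theorem uinv : u⁻¹ = u := inv_eq_of_mul_eq_one_right W.u2

theorem onE (k : H j u f b) : b * e * b⁻¹ = e * j f := by
  obtain ⟨c, rfl, rfl⟩ := k
  have c1 : Commute e (j c) := W.st.ec c
  calc _ = j c * (u * ((j c)⁻¹ * e * (j c)⁻¹⁻¹) * u⁻¹) * (j c)⁻¹ := by group
    _ = _ := by rw [cmi c1.symm.inv_left, W.uinv, W.ue, ← mul_assoc, ← c1.eq]; simp [mul_assoc]

theorem fix (k : H j u f b) {w : X} (hw : w * f = f * w) : b * j w * b⁻¹ = j w :=
  cmi (mul_inv_eq_iff_eq_mul.1 (W.uniq (k.conj w) (by rwa [cmi hw]))).symm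

theorem conjf (k : Hf j u f b) {w : X} (hw : w * z = z * w) :
    Hf j u (w * f * w⁻¹) (j w * b * (j w)⁻¹) := by
  have c1 : Commute u (j w) := W.uc w hw
  refine ⟨k.h1.conj w, ?_, (c1.mul_right k.cm).mul_right c1.inv_right⟩
  have := k.h2.conj w
  rwa [← conj_mul, ← conj_mul, cmi (show Commute w z from hw), cmi c1.symm] at this

theorem hp : Hf j u p (up j u) := by
  have h1 : H j u p (up j u) := ⟨g, by decide +kernel, rfl⟩
  have h2 : H j u (p * z) (uz j u) := ⟨g⁻¹, by decide +kernel, by simp [uz]⟩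
  have h3 : uz j u = u * up j u := by
    rw [← W.inv h2, eq_inv_of_mul_eq_one_right W.tri, inv_inv]
  refine ⟨h1, h3 ▸ h2, ?_⟩
  have := W.inv h2
  rwa [h3, mul_inv_rev, W.inv h1, W.uinv, eq_comm] at this

theorem uzu : uz j u = u * up j u := W.uniq ⟨g⁻¹, by decide +kernel, by simp [uz]⟩ W.hp.h2

theorem move (k : Hf j u f b) {w : X} (hz : w * z = z * w) (hw : w * f * w⁻¹ = f * z) :
    b * j w * b⁻¹ = j w * u := by
  have h3 : j w * b * (j w)⁻¹ = u * b := W.uniq (k.h1.conj w) (hw ▸ k.h2)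
  have h4 : b * j w = u * (j w * b) := by
    rw [eq_mul_of_mul_inv_eq h3, ← mul_assoc, ← mul_assoc, W.u2, one_mul]
  rw [h4, ← W.uc w hz]; group

theorem jz (k : Hf j u f b) (hf : z * f = f * z) : b * j z * b⁻¹ = j z := W.fix k.h1 hf

/-- elements of `C(e, Q₀, u)` -/
theorem small (h0 : cg b e = e) (h1 : ∀ w ∈ [p, q, r, s], cg b (j w) = j w)
    (h2 : Commute u b) : b = 1 ∨ b = j z := by
  obtain ⟨o, ho, d, hd, rfl⟩ := W.st.kQ (mul_inv_eq_iff_eq_mul.1 h0)
    (mul_inv_eq_iff_eq_mul.1 (h1 p (by simp))) (mul_inv_eq_iff_eq_mul.1 (h1 q (by simp)))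
    (mul_inv_eq_iff_eq_mul.1 (h1 r (by simp))) (mul_inv_eq_iff_eq_mul.1 (h1 s (by simp)))
  obtain rfl := mem_bot.1 ho
  have k : ¬ Commute u e := fun c => by
    have := W.ue
    rw [c.eq, mul_assoc, W.u2, mul_one] at this
    exact (by decide +kernel : z ≠ 1) (W.st.inj (by simpa using this))
  have c1 : Commute u (j z) := W.uc z rfl
  simp only [List.mem_cons, List.not_mem_nil, or_false, one_mul] at hd h2 ⊢
  rcases hd with rfl | rfl | rfl | rfl
  exacts [.inl rfl, absurd h2 k, .inr rfl,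
    absurd (by simpa using h2.mul_right c1.inv_right) k]

end WD

/-- the elementary abelian group generated by the halves over `V` -/
def UU (j : X →* G) (u m : G) : Prop := ∃ w, InV w ∧ ∃ m₀ ∈ [1, u, up j u, u * up j u], m = m₀ * j w

/-- `b` centralizes `U` and `P U / U` -/
def NN (j : X →* G) (u b : G) : Prop :=
  (∀ m, UU j u m → Commute b m) ∧ ∀ l ∈ P0, ∃ m, UU j u m ∧ b * j l * b⁻¹ = j l * m

def EE (j : X →* G) (e u b : G) (l : X) : Prop := ∃ m, UU j u m ∧ b * e * b⁻¹ = e * j l * m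

theorem up_j (w : X) : up j (j w) = j (g * w * g⁻¹) := by simp [up]

namespace WD

variable (W : WD j e u)
include W

theorem cm0 (h1 : Commute b u) (h2 : Commute b (up j u)) (h3 : Commute b (j z))
    (h4 : Commute b (j p)) (k : UU j u m) : Commute b m := by
  obtain ⟨w, hw, m₀, h0, rfl⟩ := k
  simp only [List.mem_cons, List.not_mem_nil, or_false] at h0
  refine Commute.mul_right ?_ ?_
  · rcases h0 with rfl | rfl | rfl | rfl
    exacts [.one_right _, h1, h2, h1.mul_right h2]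
  · rcases hw with rfl | rfl | rfl | rfl
    exacts [by simp, h3, h4, map_mul j p z ▸ h4.mul_right h3]

theorem cmj {w : X} (hz : w * z = z * w) (hp : w * p = p * w) (k : UU j u m) : Commute (j w) m :=
  W.cm0 (W.uc w hz).symm (mul_inv_eq_iff_eq_mul.1 (W.fix W.hp.h1 hp)).symm (jcm j hz) (jcm j hp) k

theorem cmP (hl : l ∈ P0) (k : UU j u m) : Commute (j l) m :=
  have := (by decide +kernel : ∀ l ∈ LP0, l * z = z * l ∧ l * p = p * l) l (mem_P0.1 hl)
  W.cmj this.1 this.2 k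

theorem uj {w : X} (hw : InV w) : UU j u (j w) := ⟨w, hw, 1, by simp, by simp⟩
theorem uu : UU j u u := ⟨1, .inl rfl, u, by simp, by simp⟩
theorem up1 : UU j u (up j u) := ⟨1, .inl rfl, up j u, by simp, by simp⟩

theorem cmU (k : UU j u m) (k' : UU j u m') : Commute m m' := by
  have z0 := W.cmj (w := z) rfl (by decide +kernel) k
  have p0 := W.cmj (w := p) (by decide +kernel) rfl k
  refine W.cm0 (W.cm0 rfl W.hp.cm (W.uc z rfl) (W.uc p (by decide +kernel)) k).symm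
    (W.cm0 W.hp.cm.symm rfl (mul_inv_eq_iff_eq_mul.1 (W.fix W.hp.h1 (by decide +kernel)))
      (mul_inv_eq_iff_eq_mul.1 (W.fix W.hp.h1 rfl)) k).symm z0.symm p0.symm k'

theorem mulU (k : UU j u m) (k' : UU j u m') : UU j u (m * m') := by
  obtain ⟨w, hw, m₀, h0, rfl⟩ := k
  obtain ⟨w', hw', m₁, h1, rfl⟩ := k'
  have c := W.cmU (W.uj hw) ⟨1, .inl rfl, m₁, h1, rfl⟩
  rw [map_one, mul_one] at c
  refine ⟨w * w', InV.mul hw hw', m₀ * m₁, ?_, by rw [map_mul, mul_assoc, c.left_comm, mul_assoc]⟩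
  have k1 := W.sq W.hp.h1
  have k2 : ∀ c, u * (u * c) = c := fun c => by rw [← mul_assoc, W.u2, one_mul]
  simp only [List.mem_cons, List.not_mem_nil, or_false] at h0 h1 ⊢
  rcases h0 with rfl | rfl | rfl | rfl <;> rcases h1 with rfl | rfl | rfl | rfl <;>
    simp [mul_assoc, W.u2, k1, k2, W.hp.cm.symm.eq, W.hp.cm.symm.left_comm]

theorem sqU (k : UU j u m) : m * m = 1 := by
  obtain ⟨w, hw, m₀, h0, rfl⟩ := k
  have c := W.cmU (W.uj hw) ⟨1, .inl rfl, m₀, h0, rfl⟩
  rw [map_one, mul_one] at c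
  have h1 : w * w = 1 := by rcases hw with rfl | rfl | rfl | rfl <;> decide +kernel
  have h2 : m₀ * m₀ = 1 := by
    simp only [List.mem_cons, List.not_mem_nil, or_false] at h0
    rcases h0 with rfl | rfl | rfl | rfl
    exacts [one_mul _, W.u2, W.sq W.hp.h1, W.sq W.hp.h2]
  rw [mul_assoc, c.left_comm, ← map_mul, h1, map_one, mul_one, h2]

theorem upU (k : UU j u m) : UU j u (up j m) := by
  obtain ⟨w, hw, m₀, h0, rfl⟩ := k
  rw [up_mul, up_j]
  refine W.mulU ?_ (W.uj (by rcases hw with rfl | rfl | rfl | rfl <;> decide +kernel))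
  have h1 : UU j u (up j (up j u)) := by rw [up_up, W.uzu]; exact W.mulU W.uu W.up1
  simp only [List.mem_cons, List.not_mem_nil, or_false] at h0
  rcases h0 with rfl | rfl | rfl | rfl
  exacts [by simpa [up] using W.uj (.inl rfl), W.up1, h1, up_mul (j := j) _ _ ▸ W.mulU W.up1 h1]

theorem half {w : X} (hw : InV w) : ∃ m ∈ [1, u, up j u, u * up j u], m * e * m⁻¹ = e * j w := by
  rcases hw with rfl | rfl | rfl | rfl
  exacts [⟨1, by simp, by simp⟩, ⟨u, by simp, W.onE ⟨1, by simp, by simp⟩⟩,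
    ⟨_, by simp, W.onE W.hp.h1⟩, ⟨_, by simp, W.onE W.hp.h2⟩]

theorem inV (k : UU j u m) (c : Commute e m) : ∃ w, InV w ∧ m = j w := by
  obtain ⟨w, hw, m₀, h0, rfl⟩ := k
  have c1 : Commute e m₀ := by simpa using c.mul_right (Commute.inv_right (W.st.ec w))
  have k : ∀ f, f ≠ 1 → H j u f m₀ → False := fun f h1 h2 => h1 (W.st.inj (by
    have := W.onE h2
    rw [cmi c1.symm] at this
    simpa using this))
  simp only [List.mem_cons, List.not_mem_nil, or_false] at h0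
  rcases h0 with rfl | rfl | rfl | rfl
  exacts [⟨w, hw, one_mul _⟩, (k z (by decide +kernel) ⟨1, by simp, by simp⟩).elim,
    (k p (by decide +kernel) W.hp.h1).elim, (k _ (by decide +kernel) W.hp.h2).elim]

theorem inV' (k : UU j u m) (h1 : j l * m = j l') : InV (l⁻¹ * l') := by
  obtain ⟨w, hw, h2⟩ := W.inV k (by
    rw [eq_inv_mul_of_mul_eq h1]; exact (Commute.inv_right (W.st.ec l)).mul_right (W.st.ec l'))
  rwa [show l⁻¹ * l' = w from W.st.inj (by rw [map_mul, map_inv, ← h1, h2]; simp)]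

theorem mulN (k : NN j u b) (k' : NN j u b') : NN j u (b * b') := by
  refine ⟨fun m hm => (k.1 m hm).mul_left (k'.1 m hm), fun l hl => ?_⟩
  obtain ⟨m, h1, h2⟩ := k.2 l hl
  obtain ⟨m', h3, h4⟩ := k'.2 l hl
  refine ⟨_, W.mulU h1 h3, ?_⟩
  calc _ = b * (b' * j l * b'⁻¹) * b⁻¹ := by group
    _ = _ := by rw [h4, ← conj_mul, h2, cmi (k.1 _ h3), mul_assoc]

theorem upN (k : NN j u b) : NN j u (up j b) := by
  refine ⟨fun m hm => ?_, fun l hl => ?_⟩
  · have := congrArg (up j) (k.1 _ (W.upU (W.upU hm))).eq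
    rwa [up_mul, up_mul, up_up (up j m), show uz j (up j m) = m by unfold uz up; group] at this
  · obtain ⟨m, h1, h2⟩ := k.2 (g⁻¹ * l * g) (mem_P0.2
      ((by decide +kernel : ∀ l ∈ LP0, g⁻¹ * l * g ∈ LP0) l (mem_P0.1 hl)))
    refine ⟨_, W.upU h1, ?_⟩
    have := congrArg (up j) h2
    rwa [up_mul, up_mul, up_mul, up_inv, up_j, show g * (g⁻¹ * l * g) * g⁻¹ = l by group] at this

theorem uN (k : UU j u m) : NN j u m :=
  ⟨fun _ => W.cmU k, fun l hl => ⟨1, by simpa using W.uj (.inl rfl), by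
    rw [cmi (W.cmP hl k).symm, mul_one]⟩⟩

theorem mulE (n : NN j u b) (hl : l' ∈ P0) (k : EE j e u b l) (k' : EE j e u b' l') :
    EE j e u (b * b') (l * l') := by
  obtain ⟨m, h1, h2⟩ := k
  obtain ⟨m', h3, h4⟩ := k'
  obtain ⟨m₁, h5, h6⟩ := n.2 l' hl
  refine ⟨_, W.mulU h1 (W.mulU h5 h3), ?_⟩
  calc _ = b * (b' * e * b'⁻¹) * b⁻¹ := by group
    _ = _ := by
      rw [h4, ← conj_mul, ← conj_mul, h2, h6, cmi (n.1 _ h3), map_mul]
      simp only [mul_assoc, (W.cmP hl h1).left_comm]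

theorem upE (k : EE j e u b l) : EE j e u (up j b) (g * l * g⁻¹) := by
  obtain ⟨m, h1, h2⟩ := k
  refine ⟨_, W.upU h1, ?_⟩
  have := congrArg (up j) h2
  rwa [up_mul, up_mul, up_mul, up_mul, up_inv, up_j,
    show up j e = e from cmi (Commute.symm (W.st.ec g))] at this

/-- the product of `b` with its conjugates under `g` lies in `U` -/
theorem prodU (n : NN j u b) (hl : l ∈ P0) (k : EE j e u b l)
    (h1 : l * (g * l * g⁻¹ * (g * (g * l * g⁻¹) * g⁻¹)) = 1) :
    UU j u (b * (up j b * up j (up j b))) := by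
  have gP : ∀ l ∈ P0, g * l * g⁻¹ ∈ P0 := fun l hl => mem_P0.2
    ((by decide +kernel : ∀ l ∈ LP0, g * l * g⁻¹ ∈ LP0) l (mem_P0.1 hl))
  have N := W.mulN n (W.mulN (W.upN n) (W.upN (W.upN n)))
  obtain ⟨m, h2, h3⟩ := W.mulE n (mul_mem (gP _ hl) (gP _ (gP _ hl))) k
    (W.mulE (W.upN n) (gP _ (gP _ hl)) (W.upE k) (W.upE (W.upE k)))
  have gi : b * up j (b * (up j b * up j (up j b))) * b⁻¹ = b * (up j b * up j (up j b)) := by
    rw [up_mul, up_mul, up_up (up j b), show uz j (up j b) = b by unfold uz up; group]; group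
  generalize b * (up j b * up j (up j b)) = π at *
  rw [h1, map_one, mul_one] at h3
  obtain ⟨w, hw, rfl⟩ := W.inV h2 (by
    have h4 : e * m * (e * m) = 1 := by rw [← h3, conj_mul, W.st.e2]; simp
    have := eq_inv_of_mul_eq_one_left h4
    rwa [mul_inv_rev, W.st.einv, inv_eq_of_mul_eq_one_right (W.sqU h2)] at this)
  obtain ⟨m, h4, h5⟩ := W.half hw
  have h6 : UU j u m := ⟨1, .inl rfl, m, h4, by simp⟩
  have N' := W.mulN (W.uN h6) N
  have h7 : m * π * e = e * (m * π) := mul_inv_eq_iff_eq_mul.1 (by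
    calc _ = m * (π * e * π⁻¹) * m⁻¹ := by group
      _ = _ := by rw [h3, ← conj_mul, h5, cmi (W.cmU h6 h2), mul_assoc, W.sqU h2, mul_one])
  obtain ⟨θ, hθ⟩ := W.st.act _ h7
  obtain ⟨l₀, h8, rfl⟩ := tP θ (W.st.fix hθ (N'.1 _ (W.uj (.inr (.inl rfl)))))
    (W.st.fix hθ (N'.1 _ (W.uj (.inr (.inr (.inl rfl)))))) fun l hl => by
      have hl' : l ∈ P0 := subset_closure hl
      obtain ⟨m', h8, h9⟩ := N'.2 l hl'
      rw [hθ, (W.cmP hl' h8).eq] at h9
      have := W.inV' (l := 1) (l' := θ l * l⁻¹) h8 (by rw [map_mul, h9]; simp)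
      simpa using this
  obtain ⟨o, ho, h9⟩ := W.st.inner h7 hθ
  obtain rfl := mem_bot.1 ho
  rw [one_mul, one_mul] at h9
  have h10 : m * π = j l₀ := h9.resolve_right fun h9 => by
    have c1 := N'.1 _ W.uu
    rw [h9] at c1
    have c2 : Commute e u := by simpa using c1.mul_left (W.cmP h8 W.uu).inv_left
    have := W.ue
    rw [← c2.eq, mul_assoc, W.u2, mul_one] at this
    exact (by decide +kernel : z ≠ 1) (W.st.inj (by simpa using this))
  obtain rfl : π = m * j l₀ := by rw [← h10, ← mul_assoc, W.sqU h6, one_mul]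
  obtain ⟨m', h11, h12⟩ := n.2 _ (gP _ h8)
  rw [up_mul, up_j, ← conj_mul, h12, cmi (n.1 _ (W.upU h6))] at gi
  refine W.mulU h6 (W.uj ((by decide +kernel : ∀ l ∈ LP0, InV ((g * l * g⁻¹)⁻¹ * l) → InV l) l₀
    (mem_P0.1 h8) (W.inV' (W.mulU (W.mulU h6 (W.upU h6)) h11) ?_)))
  rw [← mul_assoc, (W.cmP (gP _ h8) (W.mulU h6 (W.upU h6))).eq, mul_assoc, mul_assoc, gi,
    ← mul_assoc, W.sqU h6, one_mul]

theorem wr : WR j u := by
  have P := W.hp
  have Q := W.conjf P (w := h) (by decide +kernel)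
  rw [show h * p * h⁻¹ = q by decide +kernel] at Q
  unfold WR
  set P1 := up j u
  generalize j h * P1 * (j h)⁻¹ = Q1 at Q ⊢
  have R := W.conjf Q (w := a) (by decide +kernel)
  rw [show a * q * a⁻¹ = r by decide +kernel] at R
  generalize j a * Q1 * (j a)⁻¹ = R1 at R
  have S := W.conjf R (w := y) (by decide +kernel)
  rw [show y * r * y⁻¹ = s by decide +kernel] at S
  generalize j y * R1 * (j y)⁻¹ = S1 at S
  have T := W.conjf S (w := y) (by decide +kernel)
  rw [show y * s * y⁻¹ = t by decide +kernel] at T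
  generalize j y * S1 * (j y)⁻¹ = T1 at T
  have ac : ∀ {f b}, Hf j u f b → f ∈ [p, q, r, s, t] → ∀ w ∈ [p, q, r, s, t],
      cg b (j w) = if w = f then j w else j w * u := fun {f b} k hf w hw => by
    have := (by decide +kernel : ∀ f ∈ [p, q, r, s, t], ∀ w ∈ [p, q, r, s, t],
      w * z = z * w ∧ (w ≠ f → w * f * w⁻¹ = f * z)) f hf w hw
    split_ifs with e
    · exact W.fix k.h1 (by rw [e])
    · exact W.move k this.1 (this.2 e)
  have nes : p ≠ q ∧ p ≠ r ∧ p ≠ s ∧ p ≠ t ∧ q ≠ p ∧ q ≠ r ∧ q ≠ s ∧ q ≠ t ∧ r ≠ p ∧ r ≠ q ∧ r ≠ s ∧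
      r ≠ t ∧ s ≠ p ∧ s ≠ q ∧ s ≠ r ∧ s ≠ t ∧ t ≠ p ∧ t ≠ q ∧ t ≠ r ∧ t ≠ s := by decide +kernel
  have k2 : ∀ c, u * (u * c) = c := fun c => by rw [← mul_assoc, W.u2, one_mul]
  have uj : ∀ w ∈ [p, q, r, s, t], ∀ c, u * (j w * c) = j w * (u * c) := fun w hw c =>
    Commute.left_comm (W.uc w ((by decide +kernel : ∀ w ∈ [p, q, r, s, t], w * z = z * w) w hw)) c
  have uj' : ∀ w ∈ [p, q, r, s, t], u * j w = j w * u := fun w hw => by simpa using uj w hw 1
  have aP := ac P (by simp)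
  have aQ := ac Q (by simp)
  have aR := ac R (by simp)
  have aS := ac S (by simp)
  have aT := ac T (by simp)
  simp only [List.mem_cons, List.not_mem_nil, or_false, forall_eq_or_imp, forall_eq, nes, if_true,
    if_false] at aP aQ aR aS aT uj uj'
  have ue : cg u e = e * j z := by rw [cg, W.uinv, W.ue]
  have oe : ∀ {f b}, Hf j u f b → cg b e = e * j f := fun k => W.onE k.h1
  have ou : ∀ {f b}, Hf j u f b → cg b u = u := fun k => cmi k.cm.symm
  have cu : ∀ w ∈ [p, q, r, s, z], cg u (j w) = j w := fun w hw =>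
    cmi (W.uc w ((by decide +kernel : ∀ w ∈ [p, q, r, s, z], w * z = z * w) w hw))
  simp only [List.mem_cons, List.not_mem_nil, or_false, forall_eq_or_imp, forall_eq] at cu
  have hd := W.small (b := u * (P1 * Q1 * (P1 * Q1))) (by
    simp only [cg_l, cg_r, oe P, oe Q, aP, aQ, ou P, ou Q, ue, cu, H21.JSS.cg_self]
    simp only [mul_assoc, uj, W.u2, mul_one, ← map_mul]
    rw [show z * (p * (q * (p * q))) = 1 by decide +kernel]; simp) (by
    simp only [List.mem_cons, List.not_mem_nil, or_false, forall_eq_or_imp, forall_eq, cg_l, cg_r,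
      aP, aQ, ou P, ou Q, cu, H21.JSS.cg_self]
    simp [mul_assoc, W.u2])
    ((Commute.refl u).mul_right ((P.cm.mul_right Q.cm).mul_right (P.cm.mul_right Q.cm)))
  have hϖ := W.small (b := P1 * (Q1 * (R1 * (S1 * T1)))) (by
    simp only [cg_l, cg_r, oe P, oe Q, oe R, oe S, oe T, aP, aQ, aR, aS, ou P, ou Q, ou R]
    simp only [mul_assoc, uj, uj', W.u2, mul_one, ← map_mul]
    rw [show p * (q * (r * (s * t))) = 1 by decide +kernel]; simp) (by
    simp only [List.mem_cons, List.not_mem_nil, or_false, forall_eq_or_imp, forall_eq, cg_l, cg_r,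
      aP, aQ, aR, aS, aT, ou P, ou Q, ou R, ou S]
    simp [mul_assoc, W.u2])
    (P.cm.mul_right (Q.cm.mul_right (R.cm.mul_right (S.cm.mul_right T.cm))))
  rcases hd with hd | hd
  · rw [eq_inv_of_mul_eq_one_right hd, W.uinv]
  exfalso
  have hω : P1 * Q1 * (P1 * Q1) = u * j z := by rw [← hd, k2]
  have zU := W.uj (.inr (.inl rfl))
  have ωU : UU j u (u * j z) := W.mulU W.uu zU
  have ω2 := W.sqU ωU
  have pr : ∀ {f f' b b'}, Hf j u f b → Hf j u f' b' → ∀ l,
      (wd [y, a, h, p] l * z = z * wd [y, a, h, p] l ∧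
        wd [y, a, h, p] l * p * (wd [y, a, h, p] l)⁻¹ = f ∧
        wd [y, a, h, p] l * q * (wd [y, a, h, p] l)⁻¹ = f') → b' * b = b * (b' * (u * j z)) :=
    fun {f f' b b'} k k' l ⟨h1, h2, h3⟩ => by
    have h4 : b * b' * (b * b') = u * j z := by
      rw [W.uniq k.h1 (h2 ▸ P.h1.conj _), W.uniq k'.h1 (h3 ▸ Q.h1.conj _), conj_mul, conj_mul, hω,
        ← conj_mul, cmi (W.uc _ h1).symm, cmi (jcm j h1)]
    have h5 : b' * b = (b * b')⁻¹ := by rw [mul_inv_rev, W.inv k.h1, W.inv k'.h1]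
    rw [h5, inv_eq_iff_mul_eq_one, ← mul_assoc b, ← mul_assoc, h4, ω2]
  have rs := pr R S [1, 0, 2, 1] (by decide +kernel)
  have rt := pr R T [1, 2, 1] (by decide +kernel)
  have st := pr S T [2, 1, 2, 1] (by decide +kernel)
  have qt := pr Q T [0, 2, 1] (by decide +kernel)
  have p_r := pr P R [1] (by decide +kernel)
  have p_s := pr P S [0, 1] (by decide +kernel)
  have cz : ∀ {f b}, Hf j u f b → z * f = f * z → Commute b (u * j z) := fun k hf =>
    k.cm.symm.mul_right (mul_inv_eq_iff_eq_mul.1 (W.jz k hf))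
  have cR := cz R (by decide +kernel)
  have cS := cz S (by decide +kernel)
  have cT := cz T (by decide +kernel)
  have κz : cg (R1 * S1) (j z) = j z := by
    rw [cg_l, show cg S1 _ = _ from W.jz S (by decide +kernel)]; exact W.jz R (by decide +kernel)
  have κs : S1 * R1 = R1 * S1 * (u * j z) := by rw [rs, mul_assoc]
  have κ2 : R1 * S1 * (R1 * S1 * (u * j z)) = 1 := by
    rw [← κs, mul_assoc, ← mul_assoc S1, W.sq S.h1, one_mul, W.sq R.h1]
  have κP : Commute (R1 * S1) P1 := by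
    rw [Commute, SemiconjBy, mul_assoc, p_s, ← mul_assoc, p_r]
    simp only [mul_assoc (G := G) P1, mul_assoc R1, cS.symm.left_comm, ω2, mul_one]
  have κT : Commute T1 (R1 * S1) := by
    rw [Commute, SemiconjBy, ← mul_assoc, rt, mul_assoc R1, mul_assoc T1, cS.symm.eq, ← mul_assoc T1,
      st, mul_assoc S1, mul_assoc T1, ω2, mul_one, mul_assoc]
  have κU : ∀ m, UU j u m → Commute (R1 * S1) m := fun m => W.cm0 (R.cm.mul_right S.cm).symm κP
    (mul_inv_eq_iff_eq_mul.1 κz) (mul_inv_eq_iff_eq_mul.1 (show cg (R1 * S1) (j p) = j p by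
      simp only [cg_l, cg_r, aR, aS, ou R]; simp [mul_assoc, W.u2]))
  obtain ⟨m, hm, QT⟩ : ∃ m, UU j u m ∧ Q1 * T1 = R1 * S1 * m := by
    obtain ⟨m, h1, h2⟩ : ∃ m, UU j u m ∧ P1 * (Q1 * (R1 * (S1 * T1))) = m :=
      hϖ.elim (fun e => ⟨_, W.uj (.inl rfl), by rw [e, map_one]⟩) fun e => ⟨_, zU, e⟩
    have h3 := W.mulU W.up1 h1
    refine ⟨_, W.mulU h3 ωU, ?_⟩
    rw [← mul_assoc (R1 * S1), (κU _ h3).eq, ← h2, ← mul_assoc (up j u), W.sq P.h1, one_mul,
      ← mul_assoc R1, ← κT.eq]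
    simp only [mul_assoc (G := G) Q1, mul_assoc T1, mul_assoc (R1 * S1), κ2, mul_one]
  have cj : ∀ {l f f' b b'}, H j u f b → H j u f' b' → l * r * l⁻¹ = f ∧ l * s * l⁻¹ = f' →
      j l * (R1 * S1) * (j l)⁻¹ = b * b' := fun k k' e => by
    rw [← conj_mul, W.uniq (R.h1.conj _) (e.1 ▸ k), W.uniq (S.h1.conj _) (e.2 ▸ k')]
  have fl : ∀ {l m}, l ∈ P0 → UU j u m → j l * (R1 * S1) * (j l)⁻¹ = R1 * S1 * m →
      R1 * S1 * j l * (R1 * S1)⁻¹ = j l * m := fun {l m} hl hm e => by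
    have h1 : j l = R1 * S1 * m * j l * (R1 * S1)⁻¹ := by rw [← e]; group
    rw [(κU m hm).eq, mul_assoc m, mul_assoc m] at h1
    rw [(W.cmP hl hm).eq]
    nth_rewrite 2 [h1]
    rw [← mul_assoc m m, W.sqU hm, one_mul]
  have TQ : T1 * Q1 = R1 * S1 * (m * (u * j z)) := by rw [qt, ← mul_assoc, QT, mul_assoc]
  have uκ : ∀ m, u * (R1 * S1 * m) = R1 * S1 * (u * m) := fun m =>
    by rw [← mul_assoc, (κU _ W.uu).symm.eq, mul_assoc]
  have N : NN j u (R1 * S1) := ⟨κU, fun l hl => by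
    rw [P0, ← mem_toSubmonoid, closure_toSubmonoid_of_finite] at hl
    refine Submonoid.closure_induction (fun l hl => ?_) ⟨1, by simpa using W.uj (.inl rfl), by simp⟩
      (fun l l' _ hl' ⟨m, h1, h2⟩ ⟨m', h3, h4⟩ => ⟨_, W.mulU h1 h3, ?_⟩) hl
    · have hl' : l ∈ P0 := subset_closure hl
      simp only [List.mem_cons, List.not_mem_nil, or_false, Set.mem_ofPred_eq] at hl
      rcases hl with rfl | rfl | rfl | rfl
      · exact ⟨_, hm, fl hl' hm ((cj Q.h1 T.h1 (by decide +kernel)).trans QT)⟩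
      · exact ⟨_, W.mulU hm ωU, fl hl' (W.mulU hm ωU) ((cj T.h1 Q.h1 (by decide +kernel)).trans TQ)⟩
      · exact ⟨_, W.mulU W.uu hm, fl hl' (W.mulU W.uu hm) ((cj Q.h2 T.h1 (by decide +kernel)).trans (by
          rw [mul_assoc, QT, uκ]))⟩
      · exact ⟨_, W.mulU W.uu (W.mulU hm ωU), fl hl' (W.mulU W.uu (W.mulU hm ωU))
          ((cj T.h1 Q.h2 (by decide +kernel)).trans (by rw [T.cm.symm.left_comm, TQ, uκ]))⟩
    · have hl'' : l' ∈ P0 := by rwa [P0, ← mem_toSubmonoid, closure_toSubmonoid_of_finite]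
      rw [map_mul, ← conj_mul, h2, h4]
      simp only [mul_assoc, (W.cmP hl'' h1).left_comm]⟩
  have E : EE j e u (R1 * S1) k1 := ⟨u, W.uu, show cg (R1 * S1) e = _ by
    simp only [cg_l, cg_r, oe R, oe S, aR, k1, map_mul, mul_assoc]⟩
  have kP : g * k1 * g⁻¹ ∈ P0 := mem_P0.2 (by decide +kernel)
  have hπ := W.cmP kP (W.prodU N (mem_P0.2 (by decide +kernel)) E (by decide +kernel))
  have a1 : cg (R1 * S1) (j k1) = j k1 := by
    simp only [cg_l, cg_r, aR, aS, ou R, k1, map_mul]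
    rw [mul_assoc, uj.2.2.2.1, W.u2, mul_one]
  have a2 : cg (R1 * S1) (j (g * k1 * g⁻¹)) = j (g * k1 * g⁻¹) * j z :=
    fl kP zU ((cj S.h2 R.h1 (by decide +kernel)).trans (by rw [mul_assoc, κs, uκ, k2]))
  have a3 : cg (R1 * S1) (j (g * (g * k1 * g⁻¹) * g⁻¹)) = j (g * (g * k1 * g⁻¹) * g⁻¹) * j z := by
    rw [show g * (g * k1 * g⁻¹) * g⁻¹ = (k1 * (g * k1 * g⁻¹))⁻¹ by decide +kernel, map_inv, map_mul,
      cg_i, cg_r, a1, a2, ← mul_assoc, ← map_mul, ← map_mul, ← map_inv, ← map_inv, ← map_mul]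
    exact congrArg j (by decide +kernel)
  have uc : ∀ b c, up j (cg b c) = cg (up j b) (up j c) := fun b c => by
    rw [cg, up_mul, up_mul, up_inv, cg]
  have b1 := congrArg (up j) a1
  have b3 := congrArg (fun b => up j (up j b)) a3
  have b4 := congrArg (up j) (cmi (κU _ (W.uj (w := p) (.inr (.inr (.inl rfl))))))
  rw [← cg] at b4
  simp only [uc, up_mul (j _), up_j] at b1 b3 b4
  rw [show g * (g * (g * (g * k1 * g⁻¹) * g⁻¹) * g⁻¹) * g⁻¹ = g * k1 * g⁻¹ by decide +kernel,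
    show g * (g * z * g⁻¹) * g⁻¹ = g * p * g⁻¹ by decide +kernel] at b3
  have := cmi hπ.symm
  rw [← cg, cg_l, cg_l (up j _), b3, cg_r, b1, cg_r, a2, b4,
    show cg _ _ = _ from cmi (κU _ (W.uj (w := g * p * g⁻¹) (by decide +kernel))), mul_assoc,
    mul_eq_left, ← map_mul] at this
  exact (by decide +kernel : z * (g * p * g⁻¹) ≠ 1) (W.st.inj (this.trans j.map_one.symm))

end WD

end H8.JS.W1

namespace H8.JS

open H4.M2 (z)

universe u

theorem jobW1 : JobW1.{u} := fun G _ _ j e v S V T => by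
  have h1 : v * e = e * j z * v := by rw [← V.ve]; group
  have h2 : v * e * (v * e) = 1 := by
    calc _ = v * e * (e * j z * v) := by rw [← h1]
      _ = v * (e * e) * (v * v) * v := by rw [V.v2]; group
      _ = v * v * (v * v) := by rw [S.e2]; group
      _ = 1 := by rw [V.v2, jz2]
  refine W1.WD.wr ⟨S, h2, fun w hw => Commute.mul_left (V.vc w hw) (S.ec w), ?_, T⟩
  rw [← V.ve]
  nth_rewrite 2 [eq_inv_of_mul_eq_one_right h2]
  group

end H8.JS
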