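/- Spec of the tower WZ (S5176: a weakly closed quaternion subgroup of a simple 2-fusion system).
Proofs: blueprints/WZ.md. -/
import Cfsg.Agent.H9.R2Cand
import Cfsg.Agent.H35.G2S3
import Cfsg.Agent.H95.Transfer2

set_option autoImplicit false

namespace H8.WZ
open Cfsg Cfsg.FusionSystem H92 H86 H35.G2S Subgroup

universe u v

section
variable {Ω : Type*} [Group Ω] {S : Subgroup Ω}

/-- The working hypotheses: `R = ⟨a, b⟩` is quaternion of order `8 k ≥ 16`, `z = a ^ (2 k)`. -/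
structure Hy (F : FusionSystem S) (R : Subgroup Ω) (k : ℕ) (a b : Ω) : Prop where
  pg : IsPGroup 2 S
  sat : F.IsSaturated 2
  pow2 : ∃ e : ℕ, k = 2 ^ (e + 1)
  gq : GQ R (2 * k) a b
  le : R ≤ S
  cen : ∀ s ∈ S, s * a ^ (2 * k) = a ^ (2 * k) * s
  h1 : ∀ P f, Mor F P f → a ^ (2 * k) ∈ P → f (a ^ (2 * k)) = a ^ (2 * k) →
    ∀ r ∈ R, r ∈ P → f r ∈ R
  h2 : ∀ P f, Mor F P f → a ^ (2 * k) ∈ P → ∀ y ∈ P, orderOf y = 2 → (∀ r ∈ R, y * r = r * y) →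
    (∀ r ∈ R, f y * r = r * f y) → f (a ^ (2 * k)) = a ^ (2 * k)
  foc : S ≤ F.focalSubgroup

/-- The frame of type `G₂` without the fusion of involutions. -/
structure Fr0 (F : FusionSystem S) (W : Subgroup Ω) (k : ℕ) (x y u w : Ω) : Prop where
  sat : F.IsSaturated 2
  gs : GS S W k x y u w
  k2 : 2 ≤ k
  h1 : ∀ P f, Mor F P f → jj k x y ∈ P → f (jj k x y) = jj k x y →
    ∀ r ∈ qq k x y u, r ∈ P → f r ∈ qq k x y u
  rho : ∃ ρ, Mor F (wrU x y ⊔ zpowers w) ρ ∧ ρ x = y⁻¹ ∧ ρ y = x * y⁻¹ ∧ ρ w = w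

/-- The frame of type `G₂`. -/
structure Fr (F : FusionSystem S) (W : Subgroup Ω) (k : ℕ) (x y u w : Ω) : Prop
    extends Fr0 F W k x y u w where
  inv : ∀ t ∈ S, orderOf t = 2 → F.IsConjElt t (jj k x y)

/-- The subgroups `Q₈` of `⟨a, b⟩`. -/
def q8 (k : ℕ) (a b : Ω) (m : ℤ) : Subgroup Ω := closure {a ^ k, b * a ^ m}

/-- `f` moves every cyclic subgroup of order four of `D`. -/
def Fpf (D : Subgroup Ω) (f : Ω → Ω) : Prop := ∀ r ∈ D, r * r ≠ 1 → f r ≠ r ∧ f r ≠ r⁻¹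

/-- `f` acts on `D ≤ R = ⟨a, b⟩` trivially, or as an element of order three on `D = Q₈`. -/
def Side (R : Subgroup Ω) (k : ℕ) (a b : Ω) (D : Subgroup Ω) (f : Ω → Ω) : Prop :=
  D ≤ R ∧ (∀ r ∈ D, f r ∈ D) ∧ ((∀ r ∈ D, f r = r) ∨ ∃ m : ℤ, D = q8 k a b m ∧ Fpf D f)

/-- `f` is trivial on `P`, or `P = D₁ D₂` with `D₁ ≤ R₁`, `D₂ ≤ R₂` as in `Side`. -/
def Split (k : ℕ) (x y u w : Ω) (P : Subgroup Ω) (f : Ω → Ω) : Prop :=
  (∀ g ∈ P, f g = g) ∨ ∃ D₁ D₂, P = D₁ ⊔ D₂ ∧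
    Side (qq k x y u) k (wu x y 1 (-1)) (u * wu x y (2 * k) 0) D₁ f ∧
    Side (qq k x y⁻¹ (u * w)) k (wu x y⁻¹ 1 (-1)) (u * w * wu x y⁻¹ (2 * k) 0) D₂ f

end

/-- All conjugates of `z` act on `R` as reflections: a strongly closed quasi-dihedral subgroup. -/
def JobD : Prop := ∀ {Ω : Type u} [Group Ω] {S : Subgroup Ω} [Finite S] (F : FusionSystem S)
  (R : Subgroup Ω) (k : ℕ) (a b : Ω), Hy F R k a b →
  (∃ t, F.IsConjElt (a ^ (2 * k)) t ∧ t ≠ a ^ (2 * k)) →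
  (∀ t, F.IsConjElt (a ^ (2 * k)) t → t ≠ a ^ (2 * k) → ∀ r ∈ R, t * r = r * t →
    r = 1 ∨ r = a ^ (2 * k)) →
  ∃ P : Subgroup Ω, P ≤ S ∧ IsQuasiDihedral P ∧ F.StronglyClosed P

/-- Some conjugate of `z` centralizes `a`: `S` is wreathed or of type `G₂`. -/
def JobI : Prop := ∀ {Ω : Type u} [Group Ω] {S : Subgroup Ω} [Finite S] (F : FusionSystem S)
  (R : Subgroup Ω) (k : ℕ) (a b : Ω), Hy F R k a b →
  (∃ t, F.IsConjElt (a ^ (2 * k)) t ∧ t ≠ a ^ (2 * k) ∧ t * a = a * t) →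
  (∃ x y u, Wr S k x y u) ∨ ∃ W x y u w, Fr0 F W k x y u w

/-- One class of involutions. -/
def JobE : Prop := ∀ {Ω : Type u} [Group Ω] {S : Subgroup Ω} [Finite S] (F : FusionSystem S)
  (W : Subgroup Ω) (k : ℕ) (x y u w : Ω), Fr0 F W k x y u w → S ≤ F.focalSubgroup →
  ∀ t ∈ S, orderOf t = 2 → F.IsConjElt t (jj k x y)

/-- Automorphisms of odd order in a saturated system `C` in which `R₁` is strongly closed. -/
def JobSplit : Prop := ∀ {Ω : Type u} [Group Ω] {S : Subgroup Ω} [Finite S] (C : FusionSystem S)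
  (W : Subgroup Ω) (k : ℕ) (x y u w : Ω), C.IsSaturated 2 → GS S W k x y u w → 2 ≤ k →
  C.StronglyClosed (qq k x y u) → ∀ P, (P = S ∨ C.IsEssential 2 P) → ∀ α ∈ C.autGroup P,
  (orderOf α).Coprime 2 → Split k x y u w P (af α)

/-- In a frame all automorphisms of order three of the subgroups `Q₈` are present. -/
def JobQ : Prop := ∀ {Ω : Type u} [Group Ω] {S : Subgroup Ω} [Finite S] (F : FusionSystem S)
  (W : Subgroup Ω) (k : ℕ) (x y u w : Ω), Fr F W k x y u w → ∀ P f, P ≤ S → MulOn P f →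
  Set.InjOn f P → Split k x y u w P f → Mor F P f

/-- Uniqueness of the fusion system of a frame. -/
def JobU : Prop := ∀ {Ω : Type u} [Group Ω] {S : Subgroup Ω} [Finite S] (F E : FusionSystem S)
  (W : Subgroup Ω) (k : ℕ) (x y u w : Ω), Fr F W k x y u w → Fr E W k x y u w → F ≤ E

/-- The groups `G₂(q)` satisfy the hypotheses. -/
def JobG : Prop := ∀ e : ℕ, ∃ (K : Type) (_ : Field K) (_ : Fintype K), Odd (Fintype.card K) ∧
  ∃ (T : Sylow 2 (Lie.G2 K)) (R : Subgroup (Lie.G2 K)) (a b : Lie.G2 K),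
    Hy (groupFusionSystem (T : Subgroup (Lie.G2 K))) R (2 ^ (e + 1)) a b ∧
    Nat.card (T : Subgroup (Lie.G2 K)) = 64 * (2 ^ (e + 1)) ^ 2 ∧
    ∃ t, (groupFusionSystem (T : Subgroup (Lie.G2 K))).IsConjElt (a ^ (2 * 2 ^ (e + 1))) t ∧
      t ≠ a ^ (2 * 2 ^ (e + 1)) ∧ t * a = a * t

/-- Two frames: the abstract system is realized by the group. -/
def JobT : Prop := ∀ {Ω : Type u} [Group Ω] {S : Subgroup Ω} [Finite S] (F : FusionSystem S)
  (W : Subgroup Ω) (k : ℕ) (x y u w : Ω), Fr F W k x y u w →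
  ∀ {G : Type} [Group G] [Finite G] (T : Sylow 2 G) (W' : Subgroup G) (x' y' u' w' : G),
  Fr (groupFusionSystem (T : Subgroup G)) W' k x' y' u' w' →
  ∃ ι : S →* G, F.IsRealizedBy ι ∧ (T : Subgroup G) = ι.range

end H8.WZ
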