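/- Tools for the tower WZ. -/
import Cfsg.Agent.H8.WZSpec
import Cfsg.Agent.H94.NSat

set_option autoImplicit false

namespace H8.WZ
open Cfsg Cfsg.FusionSystem H92 H86 H35.G2S Subgroup

variable {Ω : Type*} [Group Ω] {S : Subgroup Ω} {F : FusionSystem S}

/-- The centralizer of an element in `S`. -/
abbrev cS (S : Subgroup Ω) (t : Ω) : Subgroup Ω := centralizerIn S (zpowers t)

theorem mem_cS {t g : Ω} : g ∈ cS S t ↔ g ∈ S ∧ t * g = g * t := by
  rw [mem_centralizerIn]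
  refine and_congr_right fun _ => ⟨fun h => h t (mem_zpowers t), fun h => ?_⟩
  rintro _ ⟨n, rfl⟩
  exact ((show Commute t g from h).zpow_left n).eq

theorem cS_le (S : Subgroup Ω) (t : Ω) : cS S t ≤ S := centralizerIn_le _ _

theorem self_mem_cS {t : Ω} (ht : t ∈ S) : t ∈ cS S t := mem_cS.2 ⟨ht, rfl⟩

theorem cS_eq_of_central {z : Ω} (hz : ∀ s ∈ S, s * z = z * s) : cS S z = S :=
  le_antisymm (cS_le _ _) fun s hs => mem_cS.2 ⟨hs, (hz s hs).symm⟩

theorem conj_symm {s t : Ω} (h : F.IsConjElt s t) : F.IsConjElt t s := by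
  obtain ⟨f, hf, rfl⟩ := isConjElt_iff.1 h
  obtain ⟨g, hg, e, -⟩ := hf.exists_inv
  have := hg.isConjElt (mem_img_of_mem f (mem_zpowers s))
  rwa [e s (mem_zpowers s)] at this

theorem conj_mor {P : Subgroup Ω} {f : Ω → Ω} {s t : Ω} (h : F.IsConjElt s t) (hf : Mor F P f)
    (ht : t ∈ P) : F.IsConjElt s (f t) := by
  obtain ⟨g, hg, rfl⟩ := isConjElt_iff.1 h
  refine isConjElt_iff.2 ⟨_, hg.comp hf ?_, rfl⟩
  rintro _ ⟨n, rfl⟩
  rw [hg.map_zpow (mem_zpowers s)]
  exact P.zpow_mem ht n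

theorem conj_trans {s t r : Ω} (h : F.IsConjElt s t) (h' : F.IsConjElt t r) : F.IsConjElt s r := by
  obtain ⟨g, hg, rfl⟩ := isConjElt_iff.1 h'
  exact conj_mor h hg (mem_zpowers t)

theorem conj_refl (F : FusionSystem S) {s : Ω} (hs : s ∈ S) : F.IsConjElt s s :=
  (mor_id F le_rfl).isConjElt hs

theorem conj_conj {s t g : Ω} (h : F.IsConjElt s t) (ht : t ∈ S) (hg : g ∈ S) :
    F.IsConjElt s (g * t * g⁻¹) :=
  conj_mor (f := fun x => g * x * g⁻¹) h (mor_conj F le_rfl hg) ht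

theorem conj_mem {s t : Ω} (h : F.IsConjElt s t) : t ∈ S := by
  obtain ⟨g, hg, rfl⟩ := isConjElt_iff.1 h
  exact hg.mem (mem_zpowers s)

theorem conj_mem_left {s t : Ω} (h : F.IsConjElt s t) : s ∈ S := conj_mem (conj_symm h)

theorem conj_orderOf {s t : Ω} (h : F.IsConjElt s t) : orderOf t = orderOf s := by
  obtain ⟨g, hg, rfl⟩ := isConjElt_iff.1 h
  exact hg.orderOf_eq (mem_zpowers s)

variable [Finite S] {p : ℕ} [Fact p.Prime]

theorem fc_of_central (F : FusionSystem S) {z : Ω} (hzS : z ∈ S) (hz : ∀ s ∈ S, s * z = z * s) :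
    F.IsFullyCentralized (zpowers z) :=
  ⟨zpowers_le.2 hzS, fun Q _ => by
    rw [show centralizerIn S (zpowers z) = S from cS_eq_of_central hz]
    exact card_le_of_le' le_rfl (centralizerIn_le _ _)⟩

/-- A map to a fully centralized conjugate extends to the centralizer. -/
theorem exists_ext_cS (hS : IsPGroup p S) (hF : F.IsSaturated p) {t z : Ω} (h : F.IsConjElt t z)
    (hz : F.IsFullyCentralized (zpowers z)) : ∃ α, Mor F (cS S t) α ∧ α t = z := by
  obtain ⟨f, hf, rfl⟩ := isConjElt_iff.1 h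
  obtain ⟨g, hg, e⟩ := exists_ext_sup_centralizer hS hF hf
    (by rwa [hf.mulOn.img_zpowers (mem_zpowers t)])
  exact ⟨g, hg.mono le_sup_right, e t (mem_zpowers t)⟩

theorem exists_to_central (hS : IsPGroup p S) (hF : F.IsSaturated p) {t z : Ω}
    (h : F.IsConjElt t z) (hz : ∀ s ∈ S, s * z = z * s) : ∃ α, Mor F (cS S t) α ∧ α t = z :=
  exists_ext_cS hS hF h (fc_of_central F (conj_mem h) hz)

/-- The centralizer system of a central element, as a system on `S`. -/
theorem exists_cent (hS : IsPGroup p S) (hF : F.IsSaturated p) {z : Ω} (hzS : z ∈ S)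
    (hz : ∀ s ∈ S, s * z = z * s) : ∃ C : FusionSystem S, C.IsSaturated p ∧
      (∀ P f, Mor C P f → Mor F P f) ∧ (∀ P f, Mor F P f → z ∈ P → f z = z → Mor C P f) ∧
      ∀ P f, Mor C P f → ∃ g, Mor F (P ⊔ zpowers z) g ∧ (∀ x ∈ P, g x = f x) ∧ g z = z := by
  have key : ∃ C : FusionSystem (centralizerIn S (zpowers z)), C.IsSaturated p ∧
      ∀ P f, Mor C P f ↔ P ≤ centralizerIn S (zpowers z) ∧ ∃ g, Mor F (P ⊔ zpowers z) g ∧
        (∀ x ∈ P, g x = f x) ∧ ∀ x ∈ zpowers z, g x = x :=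
    ⟨_, H94.isSaturated_centSys hS hF (fc_of_central F hzS hz)
      (H93.isCentralizerSystem_centSys F _ (zpowers_le.2 hzS)), fun P f =>
      mor_centralizerSystem_iff (H93.isCentralizerSystem_centSys F _ (zpowers_le.2 hzS))⟩
  rw [show centralizerIn S (zpowers z) = S from cS_eq_of_central hz] at key
  obtain ⟨C, h1, h2⟩ := key
  refine ⟨C, h1, fun P f h => ?_, fun P f h hzP e => (h2 P f).2 ⟨h.le, f, ?_, fun _ _ => rfl, ?_⟩,
    fun P f h => ?_⟩
  · obtain ⟨-, g, hg, e, -⟩ := (h2 P f).1 h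
    exact (hg.mono le_sup_left).congr e
  · rwa [sup_eq_left.2 (zpowers_le.2 hzP)]
  · rintro _ ⟨n, rfl⟩
    rw [h.map_zpow hzP, e]
  · obtain ⟨-, g, hg, e, e'⟩ := (h2 P f).1 h
    exact ⟨g, hg, e, e' z (mem_zpowers z)⟩

/-- `Aut_F(P)` is generated by `Aut_S(P)` and the elements of order prime to `p`. -/
theorem autGroup_le_of (hS : IsPGroup p S) (hF : F.IsSaturated p) {P : Subgroup Ω}
    (hP : F.IsFullyNormalized P) {K : Subgroup (MulAut P)} (h1 : autInducedBy S P ≤ K)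
    (h2 : ∀ α ∈ F.autGroup P, (orderOf α).Coprime p → α ∈ K) : F.autGroup P ≤ K := fun α hα => by
  have := finite_mulAut hP.1
  let N : Subgroup (MulAut P) := closure {β | β ∈ F.autGroup P ∧ (orderOf β).Coprime p}
  obtain ⟨a, ha, n, hn, rfl⟩ := (sylIn_of_fn hS hF hP).mem_mul_of_normal (N := N)
    (fun b hb n hn => by
      refine closure_induction (p := fun n _ => b * n * b⁻¹ ∈ N) (fun β hβ => subset_closure
        ⟨mul_mem (mul_mem hb hβ.1) (inv_mem hb), ?_⟩) (by simp) (fun c d _ _ h h' => ?_)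
        (fun c _ h => ?_) hn
      · rw [show orderOf (b * β * b⁻¹) = orderOf β from (MulAut.conj b).orderOf_eq β]
        exact hβ.2
      · simpa [mul_assoc] using mul_mem h h'
      · simpa [mul_assoc] using inv_mem h)
    (fun b hb => by
      obtain ⟨k, m, hm, e⟩ := Nat.exists_eq_pow_mul_and_not_dvd (orderOf_pos b).ne' p
        (Fact.out : p.Prime).ne_one
      refine ⟨k, subset_closure ⟨pow_mem hb _, ?_⟩⟩
      have hp : 0 < p ^ k := pow_pos (Fact.out : p.Prime).pos k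
      rw [orderOf_pow' _ hp.ne', e, Nat.gcd_mul_right_left, Nat.mul_div_cancel_left _ hp]
      exact ((Fact.out : p.Prime).coprime_iff_not_dvd.2 hm).symm) hα
  exact mul_mem (h1 ha) ((closure_le K).2 (fun β hβ => h2 β hβ.1 hβ.2) hn)

end H8.WZ
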