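import Cfsg.Agent.H74.FRed

/-! Exceptional groups of maximal class: weights of covectors (blueprints/FUSMC.md). -/

set_option autoImplicit false
set_option linter.unusedSectionVars false

namespace H8.FM
open Cfsg H92 H92.Es H93 H92.P5 Subgroup H74.FM H74.FT Module
open scoped commutatorElement

universe u
variable {Ω : Type u} [Group Ω] [Finite Ω] {S A B E U : Subgroup Ω} {γ : ℕ → Subgroup Ω}
  {p n k : ℕ} [hp : Fact p.Prime] {g t x y : Ω} {M : Type} [AddCommGroup M] [Module (ZMod p) M]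
  {π : Ω → M} {ρ : Ω → End (ZMod p) M}

theorem sec_pow (h : Sec p A B π ρ) (hx : x ∈ Nm A ⊓ Nm B) (hy : y ∈ A) (m : ℕ) :
    (fun y => ⁅x, y⁆)^[m] y ∈ A ∧ ((ρ x - 1) ^ m) (π y) = π ((fun y => ⁅x, y⁆)^[m] y) := by
  induction m with
  | zero => exact ⟨hy, rfl⟩
  | succ m ih =>
    rw [Function.iterate_succ_apply', pow_succ', End.mul_apply, ih.2, h.sub_app hx ih.1]
    exact ⟨h.com_mem hx ih.1, rfl⟩

theorem sec_nil (h : Sec p A B π ρ) (hx : x ∈ Nm A ⊓ Nm B) {m : ℕ}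
    (e : ∀ y ∈ A, (fun y => ⁅x, y⁆)^[m] y ∈ B) : (ρ x - 1) ^ m = 0 :=
  h.co.lin_ext fun y hy => by
    rw [(sec_pow h hx hy m).2, (h.co.ker _ (sec_pow h hx hy m).1).2 (e y hy)]; rfl

theorem inv_div (hg : g ∈ Nm E) (e : g⁻¹ * t ∈ Ct E) : g⁻¹⁻¹ * t⁻¹ ∈ Ct E := by
  simpa [mul_assoc] using conj_mem_Ct_of_Nm hg (inv_mem e)

theorem exists_secU (h1 : U ≤ E ⊓ Ct E) (h2 : ∀ y ∈ U, y ^ p = 1) (hB : B = ⊥) :
    ∃ (d : ℕ) (π : Ω → Fin d → ZMod p) (ρ : Ω → End (ZMod p) (Fin d → ZMod p)),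
      Sec p U B π ρ ∧ B.relIndex U = p ^ d :=
  exists_sec (hB ▸ bot_le) (commutator_le.2 fun y a z b => by
    rw [com_ct (h1 a).2 (h1 b).1]; exact one_mem _) fun y a => by rw [h2 y a]; exact one_mem _

theorem com2 (m : MX p n S γ) (hx : x ∈ S) (h : x ∈ Tv U (γ (n - 1))) (hy : y ∈ U) :
    (fun y => ⁅x, y⁆)^[1 + 1] y = 1 :=
  commutatorElement_eq_one_iff_mul_comm.2 (mem_Ct'.1 (m.cen.ge (com_of_tv h hy)).2 x hx)

theorem jobCov (v : JobAvg.{u}) (r : JobRed.{u}) : JobCov.{u} := by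
  intro Ω _ _ S p n hp F γ c κ E P e hH U x z1 u1 u2 u3 hZ x1 x2 x3 x4 hN
  have m := c.mx
  have p5 := P.p5
  have n5 := P.n5
  have hS : E ≤ S := P.ess.2.1.1
  have s := seA1 c.sat P.ess.2.1 x1 x2 x3
  choose! t t1 t2 using hH
  have tS := fun h a => Aut_le_Nm F S (t1 h a)
  have b : γ (n - 1 + 1) = ⊥ := m.bot (by omega)
  obtain ⟨d, π, ρ, h, -⟩ := exists_secU u1 u2 b
  have y1 : Aut F E ≤ Nm U ⊓ Nm (γ (n - 1 + 1)) := le_inf u3 fun g _ => b ▸ nm_bot g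
  have R := h.rp.mono y1
  obtain ⟨z, a1, a2⟩ := m.ex (i := n - 1) (by omega)
  have d1 := R.dg_vec s.mem (R.rd_nil s.mem1 (sec_nil h (y1 s.mem1) fun y a => by
    rw [com2 m x1.1 x4 a]; exact one_mem _)) (π z)
  obtain ⟨g, hg, n1⟩ : ∃ g ∈ Aut F E, ρ g (π z) ∉ Submodule.span (ZMod p) {ρ 1 (π z)} := by
    by_contra! q
    refine hZ fun g hg => mem_Nm_of_conj fun y a => ?_
    obtain ⟨l, hl⟩ := (m.sp (by omega)).dec a1 a2 a
    obtain ⟨l', hl'⟩ := Submodule.mem_span_singleton.1 (q g hg)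
    rw [R.one, End.one_apply, h.smul _ (z1 a1), h.app g (y1 hg) z (z1 a1),
      h.co.eq_iff (pow_mem (z1 a1) _) (conj_mem_of_Nm (u3 hg) (z1 a1))] at hl'
    rw [b, mem_bot, inv_mul_eq_one] at hl hl'
    rw [← hl, ← conj_zpow, ← hl']
    exact zpow_mem (pow_mem a1 _) _
  have a0 : ∀ h ∈ Aut F E, h ∈ XE F E → om p γ 0 (t h) ≠ 0 := fun h _ a =>
    m.om_ne (tS h a) (by omega)
  have s1 : ∀ g ∈ Aut F E, g ∈ XE F E →
      Sem (Aut F E) (fun g => ρ g (π z)) g (om p γ 0 (t g) ^ (n - 1 + 2 * κ)) := fun g a a' => by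
    have := h.wt (m.sp (by omega)) (y1 a) (Ct_anti (u1.trans inf_le_left) (t2 g a'))
      (m.nm _ (tS g a')) (m.nm _ (tS g a')) (h.mk_mem (z1 a1) a1)
    rw [h.sb_bot inf_le_right, Submodule.mem_bot, sub_eq_zero] at this
    refine R.sem_vec a (this.trans ?_)
    rw [show n - 1 + 2 * κ = 1 + κ + (n - 2 + κ) by omega, pow_add,
      ← P.pw _ (tS g a') 1 le_rfl (.inl (by omega)),
      ← P.pw _ (tS g a') (n - 2) (by omega) (.inl (by omega)), ← m.om_last (tS g a') e]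
  refine ⟨s.unit le_rfl d1 hg n1 a0 s1 (by omega), ?_⟩
  intro A B k ν l1 l2 i1 i2 tv pw k1 k2 lv cx it
  obtain ⟨d', π', ρ', h', -⟩ := exists_sec l1 (le_of_tv (l2.trans tv)) pw
  have y2 : Aut F E ≤ Nm A ⊓ Nm B := le_inf i1 i2
  have R' := h'.rp.mono y2
  obtain ⟨y, ⟨b1, b2⟩, b3⟩ := SetLike.not_le_iff_exists.1 lv
  obtain ⟨φ, f1, f2⟩ := Submodule.exists_le_ker_of_notMem
    (show π' y ∉ h'.sb (γ (k + 1)) from fun ⟨w, c1, c2, c3⟩ => b3 (by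
      simpa using mul_mem (mem_sup_right (show w ∈ A ⊓ γ (k + 1) from ⟨c1, c2⟩))
        (mem_sup_left ((h'.co.eq_iff c1 b1).1 c3))))
  have y3 : Aut F S ⊓ Nm E ≤ Aut F E := fun g a => mem_Aut_of_le a.1 le_rfl hS a.2
  have ct : ∀ {g}, g ∈ Ct E → g ∈ Tv A B := fun a =>
    mem_Tv_of_Ct (Ct_anti l2 a) (i2 (Ct_le_Aut F E a))
  let K : Subgroup Ω :=
    { carrier := {g | g ∈ Aut F E ∧ φ ∘ₗ ρ' g = φ}
      one_mem' := ⟨one_mem _, by rw [R'.one]; rfl⟩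
      mul_mem' := fun {a b} ha hb => ⟨mul_mem ha.1 hb.1, by
        rw [R'.mul a ha.1 b hb.1, End.mul_eq_comp, ← LinearMap.comp_assoc, ha.2, hb.2]⟩
      inv_mem' := fun {a} ha => ⟨inv_mem ha.1, LinearMap.ext fun w => by
        simpa [R'.app_inv ha.1] using (LinearMap.congr_fun ha.2 (ρ' a⁻¹ w)).symm⟩ }
  have k0 : ∀ g ∈ Aut F E, g ∈ Tv A B → g ∈ K := fun g a a' =>
    ⟨a, by rw [(h'.eq_one_iff (y2 a)).2 a']; rfl⟩
  have k3 : E ⊔ zpowers x ≤ K := sup_le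
    (fun g a => k0 g (Nm_le_Aut F E ⟨hS a, le_Nm E a⟩) (tv a))
    (zpowers_le.2 ⟨s.mem1, LinearMap.ext fun w => by
      obtain ⟨w, a, rfl⟩ := h'.co.surj w
      have := f2 (h'.sub_app (y2 s.mem1) a ▸ h'.mk_mem (h'.com_mem (y2 s.mem1) a) (cx w a))
      simpa [sub_eq_zero] using this⟩)
  have mul : ∀ g ∈ Aut F S ⊓ Nm E, ∀ h ∈ Aut F S ⊓ Nm E, om p γ 0 (g * h) = om p γ 0 g * om p γ 0 h :=
    fun g a h a' => wt_mul (m.sp (by omega)) (m.nm _ a.1.1) (m.nm _ a.1.1) (m.nm _ a'.1.1)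
      (m.nm _ a'.1.1)
  have ne : ∀ g ∈ Aut F S ⊓ Nm E, om p γ 0 g ≠ 0 := fun g a => m.om_ne a.1.1 (by omega)
  have inv : ∀ g ∈ Aut F S ⊓ Nm E, om p γ 0 g⁻¹ * om p γ 0 g = 1 := fun g a => by
    rw [← mul _ (inv_mem a) g a, inv_mul_cancel, m.om_S (one_mem _) (by omega)]
  obtain ⟨T, T1, T2, T3⟩ := v (Aut F S ⊓ Nm E) (om p γ 0) (fun g => φ ∘ₗ ρ' g⁻¹) ((p - 2) * (k + κ))
    ne mul fun g a h a' q => by
      have q1 := mul_mem (inv_mem a) a'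
      obtain ⟨w, c1, c2⟩ := (mem_sup_Ct' (le_Nm S)).1 ((r p n F γ c).2.1 κ P.toPw _ q1.1 (by
        rw [mul _ (inv_mem a) _ a', ← q, inv g a]))
      have c3 := Ct_anti hS c2
      have c4 : g⁻¹ * h ∈ K := by
        simpa using mul_mem (k3 (hN ⟨c1, Nm_of_div_Ct q1.2 (div_symm c3)⟩))
          (k0 _ (Ct_le_Aut F E c3) (ct c3))
      have c5 := (inv_mem c4).2
      rw [show h⁻¹ = (g⁻¹ * h)⁻¹ * g⁻¹ by group, R'.mul _ (inv_mem c4.1) _ (inv_mem (y3 a)),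
        End.mul_eq_comp, ← LinearMap.comp_assoc, c5]
  obtain ⟨ε, e1, e2⟩ := s.rel le_rfl d1 hg n1 a0 s1 (by omega)
    (R'.dg_cov s.mem (R'.rd_nil s.mem1 (sec_nil h' (y2 s.mem1) it))
      (∑ t ∈ T, (om p γ 0 t ^ ((p - 2) * (k + κ)))⁻¹ • φ ∘ₗ ρ' t⁻¹))
    (fun g a => R'.cov_ne a fun q => by
      have := LinearMap.congr_fun q (π' y)
      rw [LinearMap.sum_apply, Finset.sum_congr rfl (g := fun _ => φ (π' y)) fun t a => ?_,
        Finset.sum_const, nsmul_eq_mul] at this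
      · exact mul_ne_zero T2 f1 this
      have a' := inv_mem (T1 t a)
      have := f2 (h'.wt (m.sp (by omega)) (y2 (y3 a')) (t := t⁻¹) (by simp [one_mem])
        (m.nm _ a'.1.1) (m.nm _ a'.1.1) (h'.mk_mem b1 b2))
      rw [LinearMap.mem_ker, map_sub, sub_eq_zero, map_smul] at this
      rw [LinearMap.smul_apply, LinearMap.comp_apply, this, smul_smul]
      change (_ * om p γ k t⁻¹) • _ = _
      rw [P.pw _ a'.1.1 k k1 (.inl k2), eq_inv_of_mul_eq_one_left (inv t (T1 t a)), inv_pow,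
        ← mul_inv, ← pow_add, pow_eq_one_of_dvd (ne t (T1 t a)) ⟨k + κ, by
          rw [← add_one_mul, show p - 2 + 1 = p - 1 by omega]⟩, inv_one, one_smul])
    (e := (p - 2) * (k + κ)) fun g a a' => R'.sem_cov a (by
      have n := Aut_le_Nm F E a
      have q : t g ∈ Aut F S ⊓ Nm E := ⟨t1 g a', Nm_of_div_Ct n (t2 g a')⟩
      rw [← T3 _ q, ← h'.congr (y2 (inv_mem a)) (ct (inv_div n (t2 g a')))]
      refine LinearMap.ext fun w => ?_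
      simp only [LinearMap.comp_apply, LinearMap.sum_apply, LinearMap.smul_apply, mul_inv_rev]
      exact Finset.sum_congr rfl fun u b => by
        rw [R'.app (inv_mem (y3 (T1 u b))) (inv_mem (y3 q))])
  refine ⟨ε, e1, (e2.symm.add_left _).trans (Nat.modEq_zero_iff_dvd.2 ⟨k + κ, ?_⟩)⟩
  rw [← one_add_mul, show 1 + (p - 2) = p - 1 by omega]

end H8.FM
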