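import Cfsg.Agent.H8.FMCov

/-! Exceptional groups of maximal class: the centre is invariant (blueprints/FUSMC.md). -/

set_option autoImplicit false
set_option linter.unusedSectionVars false

namespace H8.FM
open Cfsg H92 H92.Es H93 H92.P5 Subgroup H74.FM H74.FT Module
open scoped commutatorElement

universe u
variable {Ω : Type u} [Group Ω] [Finite Ω] {S A B E U Y : Subgroup Ω} {γ : ℕ → Subgroup Ω}
  {p n k i : ℕ} [hp : Fact p.Prime] {g t x y : Ω}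

theorem exists_pair (m : MX p n S γ) (hS : E ≤ S) (u1 : U ≤ E ⊓ Ct E) (u2 : ∀ y ∈ U, y ^ p = 1)
    (u3 : Y ≤ Nm U) (h1 : E ≤ Y) (h2 : Y ≤ Nm E) {Q : Subgroup Ω → Prop}
    (q0 : ∀ X ≤ U, ¬ Q X) (q1 : Q E) : ∃ A B, U ≤ B ∧ B ≤ A ∧ A ≤ E ∧ Y ≤ Nm A ∧ Y ≤ Nm B ∧
      E ≤ Tv A B ∧ (∀ y ∈ A, y ^ p ∈ B) ∧ Q A ∧ ¬ Q B := by
  suffices h : ∀ i X, i ≤ n → U ≤ X → X ≤ E → Y ≤ Nm X → X ≤ E ⊓ γ (n - i) ⊔ U → Q X → _ from
    h n E le_rfl (u1.trans inf_le_left) le_rfl h2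
      (le_sup_of_le_left (le_inf le_rfl (by rw [n.sub_self, m.zero]; exact hS))) q1
  intro i
  induction i with
  | zero => exact fun X _ _ _ _ a b => (q0 X (by simpa [m.bot le_rfl] using a) b).elim
  | succ i ih =>
  intro X l a1 a2 a3 a4 a5
  let B := ⁅E, X⁆ ⊔ closure {z | ∃ y ∈ X, y ^ p = z} ⊔ U
  have b1 : B ≤ X := sup_le (sup_le (com_le (h1.trans a3)) ((closure_le _).2 (by
    rintro _ ⟨y, a, rfl⟩; exact pow_mem a p))) a1
  have b2 : Y ≤ Nm B := fun g hg => mem_Nm_sup (mem_Nm_sup (mem_Nm_commutator (h2 hg) (a3 hg))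
    (mem_Nm_of_le (by
      rw [cj_closure]
      refine closure_mono ?_
      rintro _ ⟨_, ⟨y, a, rfl⟩, rfl⟩
      exact ⟨_, conj_mem_of_Nm (a3 hg) a, conj_pow⟩))) (u3 hg)
  by_cases q : Q B; swap
  · exact ⟨X, B, le_sup_right, b1, a2, a3, b2, tv_of_le (h1.trans b2) (le_sup_of_le_left le_sup_left),
      fun y a => mem_sup_left (mem_sup_right (subset_closure ⟨y, a, rfl⟩)), a5, q⟩
  have d : ∀ y ∈ X, ∃ a ∈ E ⊓ γ (n - (i + 1)), ∃ u ∈ U, a * u = y := fun y a =>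
    (mem_sup_of_le_Nm (inf_le_left.trans (h1.trans u3))).1 (a4 a)
  rw [show n - i = n - (i + 1) + 1 by omega] at ih
  refine ih B (by omega) le_sup_right (b1.trans a2) b2 (sup_le_sup_right (sup_le
    (commutator_le.2 fun g hg y hy => ?_) ((closure_le _).2 ?_)) _) q
  · obtain ⟨a, c, u, c', rfl⟩ := d y hy
    rw [show ⁅g, a * u⁆ = ⁅g, a⁆ * (a * ⁅g, u⁆ * a⁻¹) by simp [commutatorElement_def, mul_assoc],
      ct_iff.1 (u1 c').2 g hg]
    simpa using ⟨comm_mem_of_Nm (le_Nm E hg) c.1, com_symm (m.cS c.2 (hS hg))⟩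
  · rintro _ ⟨y, hy, rfl⟩
    obtain ⟨a, c, u, c', rfl⟩ := d y hy
    rw [Commute.mul_pow (mem_Ct'.1 (u1 c').2 a c.1), u2 u c', mul_one]
    exact ⟨pow_mem c.1 p, (m.sp (by omega)).pow c.2⟩

theorem iter_mem (m : MX p n S γ) (i1 : 1 ≤ i) (hx : x ∈ γ i) (hy : y ∈ γ 1) (l : ℕ) :
    (fun y => ⁅x, y⁆)^[l] y ∈ γ (min (1 + l * (i + 1)) (n - 1)) := by
  have := m.four
  induction l with
  | zero => simpa [show 1 ≤ n - 1 by omega] using hy
  | succ l ih =>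
    rw [Function.iterate_succ_apply', add_one_mul]
    have c := commutator_mem_commutator hx ih
    by_cases e : i + min (1 + l * (i + 1)) (n - 1) + 2 ≤ n
    · exact m.anti (by omega) (m.ne i1 (by omega) e c)
    · exact m.anti (by omega) (m.com i1 (by omega) c)

theorem arith {p n a i κ ζ ε : ℕ} (p5 : 5 ≤ p) (po : Odd p) (n6 : 6 ≤ n) (np : n ≤ p + 1) (i2 : 2 ≤ i)
    (a1 : 1 ≤ a) (ha : a + i + 1 = n) (hζ : ζ = n - 1 + 2 * κ) (c : ζ.Coprime (p - 1))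
    (h0 : a + κ + 1 * ζ ≡ 0 [MOD p - 1]) (h1 : i - 1 + κ + ε * ζ ≡ 0 [MOD p - 1])
    (e1 : ε ≤ 1 ∨ ε * (i + 1) ≤ n - 3) (h2 : i + 3 ≤ n → ∃ ε, (ε ≤ 1 ∨ ε * (i + 1) ≤ n - 3) ∧
      i + 1 + κ + ε * ζ ≡ 0 [MOD p - 1]) : False := by
  obtain ⟨N, rfl⟩ : ∃ N, p = 2 * N + 1 := po
  rw [Nat.add_sub_cancel] at *
  replace h2 := PLift.up h2
  rw [Nat.modEq_zero_iff_dvd] at h0 h1
  have k1 := dvd_add h0 h1
  rw [show a + κ + 1 * ζ + (i - 1 + κ + ε * ζ) = 2 * ζ + ε * ζ - 1 by omega] at k1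
  have o : ¬ 2 ∣ ε := fun ⟨l, e⟩ => by
    have := Dvd.dvd.trans (dvd_mul_right 2 N) k1
    rw [e, mul_assoc] at this
    omega
  have b : ∀ {ε}, ε ≤ 1 ∨ ε * (i + 1) ≤ n - 3 → 3 * ε ≤ 2 * N - 1 := fun h => by
    rcases h with h | h
    · omega
    · nlinarith [show n - 3 ≤ 2 * N - 1 by omega]
  by_cases j : i + 3 ≤ n
  · obtain ⟨ε', e2, h2⟩ := h2.down j
    rw [Nat.modEq_zero_iff_dvd] at h2
    have k2 := dvd_add k1 (dvd_add h0 h2)
    rw [show 2 * ζ + ε * ζ - 1 + (a + κ + 1 * ζ + (i + 1 + κ + ε' * ζ)) =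
      (4 + ε + ε') * ζ by rw [add_mul, add_mul]; omega] at k2
    have k3 := c.symm.dvd_of_dvd_mul_right k2
    have := Nat.le_of_dvd (by omega) k3
    have := b e1
    have := b e2
    have : N ≤ 5 := by omega
    have : ε ≤ 3 := by omega
    interval_cases N <;> interval_cases ε <;> omega
  · obtain rfl : ε = 1 := by
      rcases e1 with h | h
      · omega
      · nlinarith [show n - 3 < i + 1 by omega, show 1 ≤ ε by omega]
    have := Nat.le_of_dvd (by omega) ((Nat.dvd_add_iff_left h0).2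
      (show i - 1 + κ + 1 * ζ = n - 4 + (a + κ + 1 * ζ) by omega ▸ h1))
    omega

/-- the elements of order `p` in the centre -/
def om1 (p : ℕ) (E : Subgroup Ω) : Subgroup Ω where
  carrier := {y | y ∈ E ⊓ Ct E ∧ y ^ p = 1}
  one_mem' := ⟨one_mem _, one_pow p⟩
  mul_mem' := fun {a b} ha hb => ⟨mul_mem ha.1 hb.1, by
    rw [Commute.mul_pow (mem_Ct'.1 hb.1.2 a ha.1.1), ha.2, hb.2, mul_one]⟩
  inv_mem' := fun ha => ⟨inv_mem ha.1, by rw [inv_pow, ha.2, inv_one]⟩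

theorem jobE2 (r : JobRed.{u}) (tp : JobTP.{u}) (jb : JobB.{u}) (cv : JobCov.{u}) : JobE2.{u} := by
  intro Ω _ _ S p n hp F γ c κ E P e hZ
  classical
  have m := c.mx
  have p5 := P.p5
  obtain ⟨-, n6, np⟩ := m.exc.resolve_left e
  have fn := P.ess.2.1
  have hS : E ≤ S := fn.1
  have b : γ (n - 1 + 1) = ⊥ := m.bot (by omega)
  have zE := H70.FM.Z_le c.sat m P.ess
  obtain ⟨U, u1, u2, u3, z1⟩ : ∃ U ≤ E ⊓ Ct E, (∀ y ∈ U, y ^ p = 1) ∧ Aut F E ≤ Nm U ∧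
      γ (n - 1) ≤ U := ⟨om1 p E, fun _ a => a.1, fun _ a => a.2, fun g hg => mem_Nm_of_conj fun y a =>
    ⟨conj_mem_of_Nm (mem_Nm_inf hg.1 (mem_Nm_Ct hg.1)) a.1, by rw [conj_pow, a.2]; simp⟩,
    fun y a => ⟨⟨zE a, Ct_anti hS (m.cen.ge a).2⟩, mem_bot.1 (b ▸ (m.sp (by omega)).pow a)⟩⟩
  have uE := u1.trans inf_le_left
  obtain ⟨i, i1, i3, iE, jE⟩ : ∃ i, 1 ≤ i ∧ i + 2 ≤ n ∧ ¬ γ i ≤ E ∧ γ (i + 1) ≤ E := by
    have k := Nat.findGreatest_spec (P := fun i => ¬ γ i ≤ E) (show 1 ≤ n by omega) P.lt.not_ge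
    have k' : Nat.findGreatest (fun i => ¬ γ i ≤ E) n + 2 ≤ n := by
      by_contra q; exact k ((m.anti (by omega)).trans zE)
    exact ⟨_, Nat.le_findGreatest (by omega) P.lt.not_ge, k', k, not_not.1
      (Nat.findGreatest_is_greatest (P := fun i => ¬ γ i ≤ E) (Nat.lt_succ_self _) (by omega))⟩
  obtain ⟨a, ha⟩ : ∃ a, a + i + 1 = n := ⟨n - (i + 1), by omega⟩
  have a1 : 1 ≤ a := by omega
  obtain ⟨x, x0, x2⟩ := SetLike.not_le_iff_exists.1 iE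
  have xS := m.le i x0
  have x1 : x ∈ S ⊓ Nm E := ⟨xS, Nm_of_Tv (tv_of_com (m.nmS _ xS) fun y a => m.cS x0 (hS a)) jE le_rfl⟩
  have x3 : x ^ p ∈ E := jE ((m.sp (by omega)).pow x0)
  have xG := Nm_le_Aut F E x1
  have ua : U ≤ γ a := fun y hy => by
    rw [show a = n - (i + 1) by omega]
    exact m.ct_exc e (by omega) (by omega) (P.lt.le (uE hy)) (Ct_anti jE (u1 hy).2)
  have x4 : x ∈ Tv U (γ (n - 1)) := tv_of_com (m.nmS _ xS) fun y hy =>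
    m.anti (by omega) (m.com i1 a1 (commutator_mem_commutator x0 (ua hy)))
  have x5 : x ∈ Ct (γ (a + 1)) := ct_iff.2 fun y hy => mem_bot.1 (b ▸
    m.anti (by omega) (m.com (by omega) i1 (commutator_mem_commutator hy x0)))
  have hz : XE F E ≤ Nm (γ (n - 1)) := fun g hg => by
    obtain ⟨t, t1, t2⟩ := P.ext g hg
    exact Nm_of_div_Ct (m.nm_Z e t1.1) (Ct_anti zE (div_symm t2))
  have hN : S ⊓ Nm E ≤ E ⊔ zpowers x := fun w hw => by_contra fun q => hZ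
    (tp p n F γ c E U x w a P.ess np a1 z1 u1 u2 u3 ua hz x1 x2 x4 (Ct_anti inf_le_right x5) hw q
      (jE (com_symm (m.cS x0 hw.1))))
  have xi : E ⊔ zpowers x ≤ γ 1 := sup_le P.lt.le (zpowers_le.2 (m.anti i1 x0))
  have i2 : 2 ≤ i := by
    by_contra q
    obtain rfl : i = 1 := by omega
    refine m.nle (i := 0) (by omega) one_pos (m.zero.le.trans fun w hw => xi (hN ⟨hw, ?_⟩))
    exact Nm_of_Tv (tv_of_com (m.nmS _ hw) fun y a => com_symm (m.cS (P.lt.le a) hw)) jE le_rfl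
  have b' : γ n = ⊥ := m.bot le_rfl
  obtain ⟨d, π, ρ, h, hd⟩ := exists_secU u1 u2 b'
  have y1 : Aut F E ≤ Nm U ⊓ Nm (γ n) := le_inf u3 fun g _ => b' ▸ nm_bot g
  have sq : (ρ x - 1) ^ (1 + 1) = 0 := sec_nil h (y1 xG) fun y a => by
    rw [com2 m xS x4 a]; exact one_mem _
  have inv : ∀ k, 1 ≤ k → Aut F (γ 1) ≤ Nm (γ k) := by_contra fun q => by
    refine jb p n F γ c κ E P q (n - 1) n U x d π ρ ⟨by omega, le_rfl, ⟨by omega,
      fun g a => m.nm_Z e a.1, fun g _ => b' ▸ nm_bot g, fun _ _ _ => by omega⟩,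
      fun g a => (y1 a).2, hZ, z1, uE, u3, b' ▸ le_tv_bot (le_Ct_comm.1 (u1.trans inf_le_right)), h,
      ?_, ⟨m.anti i1 x0, x1.2⟩, x2, x3, sq, ?_⟩
    · rw [b', relIndex_bot_left] at hd
      have := pow_lt_of_lt (uE.trans_lt P.lt) hd (m.card 1)
      omega
    · have k := h.finrank_sb (C := γ (n - 1)) (d := 1) (m.anti (by omega)) z1 (by
        have := m.relIndex (a := n - 1) (L := 1) (by omega)
        rwa [show n - 1 + 1 = n by omega] at this)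
      have : finrank (ZMod p) (LinearMap.range (ρ x - 1)) ≤ finrank (ZMod p) (h.sb (γ (n - 1))) :=
        Submodule.finrank_mono (by
          rintro _ ⟨v, rfl⟩
          obtain ⟨y, a, rfl⟩ := h.co.surj v
          rw [h.sub_app (y1 xG) a]
          exact h.mk_mem (h.com_mem (y1 xG) a) (com_of_tv x4 a))
      omega
  have hH : ∀ g ∈ XE F E, ∃ t ∈ Aut F S, g⁻¹ * t ∈ Ct E := fun g hg => by
    obtain ⟨t, t1, t2⟩ := P.ext g hg
    obtain ⟨t', t3, t4⟩ := (r p n F γ c).1 t t1 fun k a => inv k a t1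
    exact ⟨t', t3, div_trans t2 (Ct_anti P.lt.le t4)⟩
  obtain ⟨cop, cov⟩ := cv p n F γ c κ E P e hH U x z1 u1 u2 u3 hZ x1 x2 x3 x4 hN
  have L0 : ∀ {C}, Aut F E ≤ Nm C → γ (n - 1) ≤ C → ¬ C ≤ γ (a + 1) := fun h1 h2 h3 =>
    hZ (le_Nm_of_tv c.sat fn le_rfl x1 x2 xG (fun _ _ a => hz a) h1 (fun g _ => nm_bot g) bot_le h2
      (tv_bot.2 (Ct_anti h3 x5)))
  have covU : ∀ k, 1 ≤ k → k + 2 ≤ n → ¬ U ⊓ γ k ≤ γ (k + 1) →
      ∃ ε ≤ 1, k + κ + ε * (n - 1 + 2 * κ) ≡ 0 [MOD p - 1] := fun k k1 k2 q =>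
    cov U ⊥ k 1 bot_le uE u3 (fun g _ => nm_bot g) (le_tv_bot (le_Ct_comm.1 (u1.trans inf_le_right)))
      u2 k1 k2 (fun l => q (l.trans (sup_le bot_le inf_le_right)))
      (fun y a => m.anti (by omega) (com_of_tv x4 a)) fun y a => com2 m xS x4 a
  have key : ∀ k, 1 ≤ k → k + 2 ≤ n → ⁅γ i, γ 1⁆ ≤ γ (k + 1) → ¬ E ⊓ γ k ≤ γ (k + 1) →
      ∃ ε, (ε ≤ 1 ∨ ε * (i + 1) ≤ n - 3) ∧ k + κ + ε * (n - 1 + 2 * κ) ≡ 0 [MOD p - 1] := by
    intro k k1 k2 k3 k4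
    by_cases q : U ⊓ γ k ≤ γ (k + 1); swap
    · exact (covU k k1 k2 q).imp fun _ a => ⟨.inl a.1, a.2⟩
    obtain ⟨A, B, l0, l1, l2, l3, l4, l5, l6, l7, l8⟩ := exists_pair m hS u1 u2 u3
      (fun g a => Nm_le_Aut F E ⟨hS a, le_Nm E a⟩) (Aut_le_Nm F E)
      (Q := fun X => ¬ X ⊓ γ k ≤ γ (k + 1)) (fun X a b => b ((inf_le_inf_right _ a).trans q)) k4
    obtain ⟨ε, e1, e2⟩ := cov A B k ((n - 3) / (i + 1)) l1 l2 l3 l4 l5 l6 k1 k2 (fun l => l7 fun y hy => by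
      obtain ⟨u, f1, w, f2, rfl⟩ := (mem_sup_of_le_Nm' (inf_le_left.trans (l2.trans
        (l5.trans (Tv_le_Nm _ _))))).1 (l hy)
      exact mul_mem (not_not.1 l8 ⟨f1, (mul_mem_cancel_right (m.succ k f2.2)).1 hy.2⟩) f2.2)
      (fun y a => k3 (commutator_mem_commutator x0 (P.lt.le (l2 a)))) fun y a => l0 (z1 (m.anti
        (by have := Nat.lt_mul_div_succ (n - 3) i.add_one_pos; rw [mul_comm] at this; omega)
        (iter_mem m i1 x0 (P.lt.le (l2 a)) _)))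
    exact ⟨ε, .inr ((Nat.le_div_iff_mul_le i.succ_pos).1 e1), e2⟩
  obtain ⟨ε, e1, e2⟩ := key (i - 1) (by omega) (by omega)
    ((m.com i1 le_rfl).trans (m.anti (by omega))) fun q => by
      obtain ⟨w, w1, w2⟩ := m.ex (i := i - 1) (by omega)
      have wS := m.le _ w1
      have wE := hN ⟨wS, Nm_of_Tv (tv_of_com (m.nmS _ wS) fun y a => m.anti (by omega) (m.ne
        (by omega) le_rfl (by omega) (commutator_mem_commutator w1 (P.lt.le a)))) jE le_rfl⟩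
      rw [show i - 1 + 1 = i by omega] at q w2
      obtain ⟨u, f1, v, f2, rfl⟩ := (mem_sup_of_le_Nm' (zpowers_le.2 x1.2)).1 wE
      have f3 := zpowers_le.2 x0 f2
      exact w2 (mul_mem (q ⟨f1, (mul_mem_cancel_right (m.anti (by omega) f3)).1 w1⟩) f3)
  obtain ⟨ε0, f1, f2⟩ := covU a a1 (by omega) fun q => L0 u3 z1 ((le_inf le_rfl ua).trans q)
  refine arith p5 (hp.out.odd_of_ne_two (by omega)) n6 np i2 a1 ha rfl cop ?_ e2 e1 fun j =>
    key (i + 1) (by omega) (by omega) (m.ne i1 le_rfl (by omega)) fun q =>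
      m.nle (by omega) (Nat.lt_succ_self _) ((le_inf jE le_rfl).trans q)
  rcases Nat.le_one_iff_eq_zero_or_eq_one.1 f1 with rfl | rfl; swap
  · exact f2
  exfalso
  have fl := h.flag m (L := i + 1) ua (inf_le_right.trans (by rw [← add_assoc, ha]))
  obtain ⟨y, y2, y3⟩ := SetLike.not_le_iff_exists.1 (L0 u3 z1)
  have lb : γ n ≤ γ (a + 1) := m.anti (by omega)
  obtain ⟨φ, g1, g2⟩ := Submodule.exists_le_ker_of_notMem ((h.mem_sb' lb y2).not.2 y3)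
  have R := h.rp.mono y1
  have s := seA1 c.sat fn x1 x2 x3
  refine L0 (C := h.cm (LinearMap.ker φ)) (fun g hg => h.nm_cm (y1 hg) fun v hv => ?_)
    (fun z hz => ⟨z1 hz, g2 (h.mk_mem (z1 hz) (m.anti (by omega) hz))⟩) fun z hz => ?_
  · have := s.const (R.dg_cov s.mem (R.rd_nil s.mem1 sq) φ) (show 1 < p - 1 by omega)
      (fun g o k a' a'' => (R.sem_cov a' (c := 1) (LinearMap.ext fun v => ?_) g o).trans
        (one_smul _ _)) (inv_mem hg)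
    · simpa [R.one, LinearMap.mem_ker.1 hv] using LinearMap.congr_fun this v
    obtain ⟨t, t1, t2⟩ := hH k a''
    have t3 := inv_mem t1.1
    have := g2 (h.wt (m.sp (by omega)) (y1 (inv_mem a')) (Ct_anti uE (inv_div a'.1 t2))
      (m.nm _ t3) (m.nm _ t3) (fl.mem0 v))
    change φ (_ - om p γ a t⁻¹ • _) = 0 at this
    rw [P.pw _ t3 a a1 (.inl (by omega)), pow_eq_one_of_dvd (m.om_ne t3 (by omega))
      (Nat.modEq_zero_iff_dvd.1 (by simpa using f2))] at this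
    simpa [sub_eq_zero] using this
  · obtain ⟨l, q⟩ := fl.step 0 _ (fl.mem0 (π y)) ((h.mem_sb' lb y2).not.2 y3) _ (fl.mem0 (π z))
    have := g2 q
    rw [LinearMap.mem_ker, map_sub, LinearMap.mem_ker.1 hz.2, map_smul, zero_sub, neg_eq_zero,
      smul_eq_zero, or_iff_left g1] at this
    exact (h.mem_sb' lb hz.1).1 (by simpa [this] using q)

end H8.FM
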