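import Cfsg.Agent.S5129
import Cfsg.Agent.S5138
import Cfsg.Agent.S5146
import Cfsg.Agent.S5148
import Cfsg.Agent.S5149
import Cfsg.Agent.H94.Tr5

/-! Components and the layer of a saturated fusion system without nontrivial normal subgroups. -/

set_option autoImplicit false
set_option linter.unusedSectionVars false

namespace H8.AS

open Cfsg Cfsg.FusionSystem Subgroup H92 H93 H94

universe u

variable {Ω : Type u} [Group Ω] [Finite Ω] {p : ℕ} [Fact p.Prime] {S T U V R : Subgroup Ω}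
  {F : FusionSystem S} {E : FusionSystem T} {C : FusionSystem U} {C' : FusionSystem V}
  {D : FusionSystem R}

theorem comp_or (hS : IsPGroup p S) (hE : E.IsNormalIn F p) (hC : C.IsComponentIn F p) :
    C.IsComponentIn E p ∨ U ≤ Ct T := by
  obtain ⟨a, b, S', F', h, hA⟩ := exists_satA hS hE.1.2.1
  have hT := le_of_isNormalIn hE
  obtain ⟨E', k⟩ := exists_tr_sub h hT E
  obtain ⟨C', c⟩ := exists_tr_sub h (comp_le hC) C
  refine ((nrA_of hA (h.isNormalIn k hE)).comp_or_cz (h.isComponentIn c hC)).imp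
    (k.symm.isComponentIn c.symm) fun z u hu t ht => ?_
  have h1 := comp_le hC hu
  refine h.iso.inj (mul_mem (hT ht) h1) (mul_mem h1 (hT ht)) ?_
  rw [h.iso.mul _ (hT ht) _ h1, h.iso.mul _ h1 _ (hT ht)]
  exact z.le_Ct (mem_img_of_mem a hu) _ (mem_img_of_mem a ht)

theorem not_le_Ct (hS : IsPGroup p S) (hC : C.IsComponentIn F p) : ¬ U ≤ Ct U := fun e =>
  Cfsg.Agent.S5148.result p (hS.to_le (comp_le hC)) C hC.2
    (le_centralizer_iff_isMulCommutative.1 e)

theorem comp_of_le (hS : IsPGroup p S) (hE : E.IsNormalIn F p) (hC : C.IsComponentIn F p)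
    (h : U ≤ T) : C.IsComponentIn E p :=
  (comp_or hS hE hC).resolve_right fun e => not_le_Ct hS hC (e.trans (centralizer_le h))

theorem normal_layer (hS : IsPGroup p S) (hE : E.IsLayerOf F p) (hC : C.IsComponentIn F p) :
    C.IsNormalIn E p := by
  obtain ⟨a, b, S', F', h, hA⟩ := exists_satA hS hE.1.1.2.1
  obtain ⟨E', k⟩ := exists_tr_sub h (le_of_isNormalIn hE.1) E
  obtain ⟨C', c⟩ := exists_tr_sub h (comp_le hC) C
  exact k.symm.isNormalIn c.symm
    (nrA_layer hA (h.isComponentIn c hC) (h.isLayerOf k hE)).isNormalIn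

theorem layer_normal (hS : IsPGroup p S) (hD : D.IsNormalIn F p) (hE : E.IsLayerOf D p) :
    E.IsNormalIn F p := by
  obtain ⟨a, b, S', F', h, hA⟩ := exists_satA hS hD.1.2.1
  have h1 := le_of_isNormalIn hD
  obtain ⟨D', k⟩ := exists_tr_sub h h1 D
  obtain ⟨E', c⟩ := exists_tr_sub h ((le_of_isNormalIn hE.1).trans h1) E
  exact h.symm.isNormalIn c.symm
    ((nrA_of hA (h.isNormalIn k hD)).layer (k.isLayerOf c hE)).isNormalIn

theorem normal_of_wn (hS : IsPGroup p S) (hC : C.IsWeaklyNormalIn F p) (hq : C.Quasisimple p) :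
    C.IsNormalIn F p := by
  obtain ⟨a, b, S', F', h, hA⟩ := exists_satA hS hC.2.1
  have := finite_of_le (S := ⊤) (le_top (a := U))
  obtain ⟨C', c⟩ := exists_tr_sub h hC.2.2.2.1.1 C
  exact h.symm.isNormalIn c.symm
    ((wnA_of hA (h.isWeaklyNormalIn c hC)).nrA_of_quasisimple (c.quasisimple hq)).isNormalIn

theorem comp_up (hE : E.IsNormalIn F p) (hC : C.IsComponentIn E p) : C.IsComponentIn F p :=
  ⟨.step hC.1 hE, hC.2⟩

theorem core_bot (hS : IsPGroup p S) (h0 : F.core = ⊥) (hE : E.IsNormalIn F p) : E.core = ⊥ :=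
  eq_bot_iff.2 (h0 ▸ le_core (isNormal_core_of_invariant hS hE.1.2.1 hE.1.2.2))

theorem exists_comp (hS : IsPGroup p S) (hF : F.IsSaturated p) (h0 : F.core = ⊥) (h1 : S ≠ ⊥) :
    ∃ (U : Subgroup Ω) (C : FusionSystem U), C.IsComponentIn F p := by
  by_contra h
  have := centralizerIn_le_of_centric (centric_core ((Cfsg.Agent.S5146.result p hS F hF).2 h))
  rw [h0] at this
  exact h1 (eq_bot_iff.2 fun x hx => this (mem_centralizerIn.2 ⟨hx, fun y hy => by
    rw [mem_bot.1 hy, one_mul, mul_one]⟩))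

theorem eq_of_subnormal (h : C.IsSubnormalIn F p) :
    U ≠ ⊥ → F.IsSimple p → U = S ∧ ∀ P, C.Hom P = F.Hom P := by
  induction h with
  | refl => exact fun _ _ => ⟨rfl, fun _ => rfl⟩
  | step h1 h2 ih =>
    intro hU hs
    rcases hs.2.2 _ _ h2 with rfl | ⟨rfl, e⟩
    · exact (hU (le_bot_iff.1 (le_of_isSubsystemOf (sub_of_isSubnormalIn h1)))).elim
    · obtain rfl := H92.fs_ext e
      exact ih hU hs

/-- A normal subsystem of the layer containing the components is the layer. -/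
theorem layer_le' (hS : IsPGroup p S) (hE : E.IsLayerOf F p) (hD : D.IsNormalIn E p)
    (h : ∀ (U : Subgroup Ω) (C : FusionSystem U), C.IsComponentIn F p → U ≤ R) :
    E.IsSubsystemOf D := by
  have hT := hS.to_le (le_of_isNormalIn hE.1)
  obtain ⟨T₂, E₂, h2⟩ := Cfsg.Agent.S5149.result p hT E hE.1.1.1
  refine sub_trans (hE.2.2 _ E₂ (layer_normal hS hE.1 h2) fun U C hC =>
    h2.2.1 U C (comp_of_le hS hE.1 hC (le_layer hE hC))) (h2.2.2 _ D hD fun U C hC => ?_)
  exact comp_sub (comp_of_le hT hD hC (h U C (comp_up hE.1 hC)))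

section
variable (hS : IsPGroup p S) (h0 : F.core = ⊥) (hE : E.IsLayerOf F p)
include hS h0 hE

theorem center_bot (hC : C.IsComponentIn F p) : C.center = ⊥ :=
  have h := normal_layer hS hE hC
  eq_bot_iff.2 (core_bot hS h0 hE.1 ▸ le_core (isNormal_center_of_invariant
    (hS.to_le (le_of_isNormalIn hE.1)) h.1.2.1 h.1.2.2))

theorem simple (hC : C.IsComponentIn F p) : C.IsSimple p :=
  simple_of_quasisimple hC.2 (center_bot hS h0 hE hC ▸ (tr_refl C).isFactorSystem_hom)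

theorem eq_or (hC : C.IsComponentIn F p) (hC' : C'.IsComponentIn F p) :
    (V = U ∧ ∀ P, C'.Hom P = C.Hom P) ∨ V ≤ Ct U :=
  (comp_or (hS.to_le (le_of_isNormalIn hE.1)) (normal_layer hS hE hC)
    (comp_of_le hS hE.1 hC' (le_layer hE hC'))).imp_left fun h =>
      eq_of_subnormal h.1 (simple hS h0 hE hC').2.1 (simple hS h0 hE hC)

/-- The supports of the components. -/
def cmp (F : FusionSystem S) (p : ℕ) : Set (Subgroup Ω) :=
  {U | ∃ C : FusionSystem U, C.IsComponentIn F p}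

theorem le_Ct (hU : U ∈ cmp F p) (hV : V ∈ cmp F p) (e : V ≠ U) : V ≤ Ct U :=
  (eq_or hS h0 hE hU.choose_spec hV.choose_spec).resolve_left fun h => e h.1

theorem sSup_le_Ct (hU : U ∈ cmp F p) {s : Set (Subgroup Ω)} (hs : s ⊆ cmp F p) (e : U ∉ s) :
    sSup s ≤ Ct U := sSup_le fun _ hV => le_Ct hS h0 hE hU (hs hV) fun e' => e (e' ▸ hV)

theorem exists_normal {s : Set (Subgroup Ω)} (hs : s ⊆ cmp F p) :
    ∃ D : FusionSystem (sSup s), D.IsNormalIn E p := by
  have hT := hS.to_le (le_of_isNormalIn hE.1)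
  induction s, Set.toFinite s using Set.Finite.induction_on with
  | empty => exact sSup_empty (α := Subgroup Ω) ▸
      ⟨_, isNormalIn_inner hT hE.1.1.1 (isNormal_bot E)⟩
  | @insert U s e _ ih =>
    obtain ⟨D, hD⟩ := ih ((Set.subset_insert _ _).trans hs)
    obtain ⟨C, hC⟩ := hs (Set.mem_insert _ _)
    obtain ⟨D', h1, -⟩ := Cfsg.Agent.S5138.result p hT E hE.1.1.1 C D (normal_layer hS hE hC) hD
      (commutator_eq_bot_iff_le_centralizer.2 (le_centralizer_iff.1
        (sSup_le_Ct hS h0 hE ⟨C, hC⟩ ((Set.subset_insert _ _).trans hs) e)))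
    exact sSup_insert (s := s) (a := U) ▸ ⟨D', h1⟩

theorem le_sSup_cmp : T ≤ sSup (cmp F p) := by
  obtain ⟨D, hD⟩ := exists_normal hS h0 hE (subset_refl (cmp F p))
  exact le_of_isSubsystemOf (layer_le' hS hE hD fun U C hC => le_sSup ⟨C, hC⟩)

theorem inf_eq_bot (hC : C.IsComponentIn F p) (hD : D.IsNormalIn E p) (hc : R ≤ Ct U) :
    U ⊓ R = ⊥ := by
  obtain ⟨W, ⟨-, w, -⟩, -⟩ := Cfsg.Agent.S5129.result p (hS.to_le (le_of_isNormalIn hE.1)) E
    hE.1.1.1 C D (normal_layer hS hE hC) hD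
  exact ((simple hS h0 hE hC).2.2 _ W w).resolve_right fun e =>
    not_le_Ct hS hC ((inf_eq_left.1 e.1).trans hc)

theorem ext_fix (hC : C.IsComponentIn F p) (hD : D.IsNormalIn E p) (hc : R ≤ Ct U)
    {P : Subgroup Ω} {f : Ω → Ω} (hf : Mor C P f) :
    ∃ g, Mor E (P ⊔ R) g ∧ (∀ x ∈ P, g x = f x) ∧ ∀ x ∈ R, g x = x := by
  obtain ⟨D', h1, h2⟩ := Cfsg.Agent.S5138.result p (hS.to_le (le_of_isNormalIn hE.1)) E hE.1.1.1
    C D (normal_layer hS hE hC) hD
    (commutator_eq_bot_iff_le_centralizer.2 (le_centralizer_iff.1 hc))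
  have e := inf_eq_bot hS h0 hE hC hD hc
  obtain ⟨g, g1, g2⟩ := (cp_of (h2 (e.le.trans bot_le) (e.le.trans bot_le))).ext_left hf
  exact ⟨g, g1.of_sub h1.1.2.2.1, g2⟩

/-- One component: the system is almost simple. -/
theorem almost_simple (hC : C.IsComponentIn F p) (h1 : ∀ V ∈ cmp F p, V = U) :
    E.IsSimple p ∧ ∀ (R : Subgroup Ω) (D : FusionSystem R), D.IsNormalIn F p → R ≠ ⊥ →
      E.IsSubsystemOf D := by
  have l := layer_le' hS hE (normal_layer hS hE hC) fun V C hC => (h1 V ⟨C, hC⟩).le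
  obtain rfl : T = U := (le_of_isSubsystemOf l).antisymm (le_layer hE hC)
  obtain rfl : E = C := fs_le_antisymm l (hE.2.1 _ _ hC)
  refine ⟨simple hS h0 hE hC, fun R D hD hR => hE.2.2 R D hD fun V C hC => ?_⟩
  obtain ⟨V', C', h2⟩ := exists_comp (hS.to_le (le_of_isNormalIn hD)) hD.1.1 (core_bot hS h0 hD) hR
  exact comp_sub (comp_of_le hS hD hC ((h1 V ⟨C, hC⟩).le.trans
    ((h1 V' ⟨C', comp_up hD h2⟩).ge.trans (comp_le h2))))

end

end H8.AS
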