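import Cfsg.Agent.H7.Tame
import Cfsg.Agent.H7.Frobenius
import Cfsg.Agent.H8.Focal

/-!
# Alperin's fusion theorem with `p`-elements normalizing tame intersections
-/

set_option autoImplicit false

namespace H8

open H7 H16
open scoped Pointwise commutatorElement

variable {G : Type*} [Group G] {p : ℕ}

theorem isTame_self [Fact p.Prime] [Finite G] (P : Sylow p G) : IsTame P P := by
  have h := (extr_self (isSylowIn_top P)).syl.not_dvd
  rw [top_inf_eq] at h
  unfold IsTame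
  rw [inf_idem]
  exact ⟨h, h⟩

theorem alperin_tame_pelem [Fact p.Prime] [Finite G] (P : Sylow p G)
    (Φ : Subgroup G → G → Prop)
    (hres : ∀ T T' g, T ≤ T' → Φ T' g → Φ T g)
    (hmul : ∀ T g h, Φ T g → Φ (cj g T) h → Φ T (h * g))
    (hinv : ∀ T g, Φ T g → Φ (cj g T) g⁻¹)
    (hN : ∀ n ∈ Nm (P : Subgroup G), Φ P n)
    (hx : ∀ Q : Sylow p G, IsTame P Q → ∀ x ∈ Nm ((P : Subgroup G) ⊓ Q),
      (∃ k, orderOf x = p ^ k) → Φ ((P : Subgroup G) ⊓ Q) x)
    (T : Subgroup G) (g : G) (hT : T ≤ P) (hg : cj g T ≤ P) : Φ T g := by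
  refine alperin_ind_extr (isSylowIn_top P) Φ (fun T T' g h _ _ _ h' => hres T T' g h h')
    (fun T g h _ _ _ _ _ h1 h2 => hmul T g h h1 h2) (fun T g _ _ _ h => hinv T g h) 0 ?_ T g hT
    (Subgroup.mem_top _) hg (Nat.zero_le _)
  intro U hU _ ih n hn
  have hn' : n ∈ Nm U := hn.2
  rcases hU.le.eq_or_lt with rfl | hlt
  · exact hN n hn'
  have hs := hU.syl
  rw [top_inf_eq] at hs
  -- `p`-elements of the normalizer
  have hgen : ∀ x ∈ Nm U, (∃ k, orderOf x = p ^ k) → Φ U x := by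
    intro x hxU hxp
    set Q : Sylow p G := x⁻¹ • P with hQ
    have hQc : (Q : Subgroup G) = cj x⁻¹ P := rfl
    have hUQ : U ≤ Q := by
      rw [hQc, ← cj_le_iff_le_cj, cj_eq_iff.mpr hxU]; exact hU.le
    have hle : U ≤ (P : Subgroup G) ⊓ Q := le_inf hU.le hUQ
    rcases hle.eq_or_lt with he | hlt
    · rw [he]
      refine hx Q ⟨?_, ?_⟩ x (he ▸ hxU) hxp
      · rw [← he]; exact hs.not_dvd
      · rw [← he]
        have h2 := hs.smul_of_mem_normalizer (g := x⁻¹) (inv_mem (Subgroup.le_normalizer hxU))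
        change IsSylowIn p (cj x⁻¹ _) _ at h2
        rw [cj_inf, cj_of_mem (inv_mem hxU), ← hQc] at h2
        exact h2.not_dvd
    · refine hres _ _ _ hle (ih _ x inf_le_left (Subgroup.mem_top _) ?_ (card_lt_of_lt hlt))
      rw [cj_le_iff_le_cj]
      exact inf_le_right
  let K : Subgroup G := Subgroup.closure {x | x ∈ Nm U ∧ ∃ k, orderOf x = p ^ k}
  have hKN : K ≤ Nm U := (Subgroup.closure_le _).mpr fun x hx => hx.1
  have hK : ∀ k ∈ K, Φ U k := by
    intro k hk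
    induction hk using Subgroup.closure_induction with
    | mem x hx => exact hgen x hx.1 hx.2
    | one => exact hres _ _ _ hU.le (hN 1 (one_mem _))
    | mul x y hx hy ihx ihy =>
      exact hmul U y x ihy (by rwa [cj_eq_iff.mpr (hKN hy)])
    | inv x hx ihx =>
      have := hinv U x ihx
      rwa [cj_eq_iff.mpr (hKN hx)] at this
  have hSK : (P : Subgroup G) ⊓ Nm U ≤ K := fun x hx =>
    Subgroup.subset_closure ⟨hx.2, by
      obtain ⟨k, hk⟩ := IsPGroup.iff_orderOf.mp P.isPGroup' ⟨x, hx.1⟩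
      exact ⟨k, by rwa [← Subgroup.orderOf_coe] at hk⟩⟩
  have hnK : n ∈ Nm K := by
    apply mem_normalizer_of_forall
    rw [← cj_le_iff]
    apply cj_closure_le
    rintro a ⟨ha, k, hk⟩
    refine Subgroup.subset_closure ⟨mul_mem (mul_mem hn' ha) (inv_mem hn'), k, ?_⟩
    rw [← hk]
    exact (MulAut.conj n).orderOf_eq a
  obtain ⟨k, hk, m, hm, rfl⟩ := (hs.of_le hSK hKN).frattini hnK
  have hmU : m ∈ Nm U := by simpa using mul_mem (inv_mem (hKN hk)) hn'
  have hlt' := lt_inf_normalizer P.isPGroup' hlt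
  refine hmul U m k (hres _ _ _ hlt'.le (ih _ m inf_le_left (Subgroup.mem_top _) ?_
    (card_lt_of_lt hlt'))) (by rw [cj_eq_iff.mpr hmU]; exact hK k hk)
  rw [cj_eq_iff.mpr hm]
  exact inf_le_left

/-- The focal subgroup is generated by the local commutators of Alperin's theorem. -/
theorem inf_commutator_le_of_tame [Fact p.Prime] [Finite G] (P : Sylow p G) (F : Subgroup G)
    (hN : ∀ n ∈ Nm (P : Subgroup G), ∀ t ∈ (P : Subgroup G), ⁅t, n⁆ ∈ F)
    (hx : ∀ Q : Sylow p G, IsTame P Q → ∀ x ∈ Nm ((P : Subgroup G) ⊓ Q),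
      (∃ k, orderOf x = p ^ k) → ∀ t ∈ (P : Subgroup G) ⊓ Q, ⁅t, x⁆ ∈ F) :
    (P : Subgroup G) ⊓ commutator G ≤ F := by
  have key := alperin_tame_pelem P (fun T g => ∀ t ∈ T, ⁅t, g⁆ ∈ F)
    (fun T T' g h h' t ht => h' t (h ht))
    (fun T g h h1 h2 t ht => by
      have := mul_mem (h1 t ht) (h2 _ (conj_mem_conj_smul (g := g) ht))
      convert this using 1
      simp only [commutatorElement_def]; group)
    (fun T g h s hs => by
      have := inv_mem (h _ (mem_cj.mp hs))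
      convert this using 1
      simp only [commutatorElement_def]; group) hN hx
  rw [inf_comm, Subgroup.commutator_inf_eq_focalSubgroup, Subgroup.focalSubgroup_def,
    Subgroup.closure_le]
  rintro _ ⟨h1, x, h2, u, rfl⟩
  refine key (Subgroup.zpowers x) u (Subgroup.zpowers_le.mpr h2) ?_ x (Subgroup.mem_zpowers x)
  rw [cj_eq_map, MonoidHom.map_zpowers, Subgroup.zpowers_le]
  have := inv_mem (mul_mem (inv_mem h2) h1)
  convert this using 1
  simp only [commutatorElement_def, MulEquiv.coe_toMonoidHom, MulAut.conj_apply]; group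

/-- If `N(U) / C(U)` is a `p`-group then `N(U) = S C(U)` for `S` Sylow in `N(U)`. -/
theorem exists_mul_centralizer_of_isPGroup [Fact p.Prime] [Finite G] {U S : Subgroup G}
    (hS : ¬ p ∣ S.relIndex (Nm U)) (h : IsPGroup p (Nm U ⧸ (Ce U).subgroupOf (Nm U)))
    {n : G} (hn : n ∈ Nm U) : ∃ u ∈ S, ∀ t ∈ U, n * t * n⁻¹ = u * t * u⁻¹ := by
  have h1 := sup_eq_top_of_index (isPGroup_quotient_iff_index.mp h) hS
  have h2 : (⟨n, hn⟩ : Nm U) ∈ S.subgroupOf (Nm U) ⊔ (Ce U).subgroupOf (Nm U) := by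
    rw [sup_comm, h1]; trivial
  rw [← SetLike.mem_coe, Subgroup.mul_normal] at h2
  obtain ⟨u, hu, c, hc, e⟩ := h2
  refine ⟨u, hu, fun t ht => ?_⟩
  have e' : n = u * c := (congrArg Subtype.val e).symm
  have := conj_eq_of_mem_Ce (g := (c : G)) hc ht
  rw [e']
  conv_rhs => rw [← this]
  group

theorem hasNPC_of_tame [Fact p.Prime] [Finite G] (P : Sylow p G)
    (h : ∀ Q : Sylow p G, IsTame P Q → ∀ x ∈ Nm ((P : Subgroup G) ⊓ Q),
      ∃ u ∈ (P : Subgroup G), ∀ t ∈ (P : Subgroup G) ⊓ Q, x * t * x⁻¹ = u * t * u⁻¹) :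
    Cfsg.HasNormalPComplement p G := by
  have key := alperin_tame_pelem P
    (fun T g => ∃ u ∈ (P : Subgroup G), ∀ t ∈ T, g * t * g⁻¹ = u * t * u⁻¹)
    (fun T T' g h ⟨u, hu, h'⟩ => ⟨u, hu, fun t ht => h' t (h ht)⟩)
    (fun T g h ⟨u, hu, h1⟩ ⟨v, hv, h2⟩ => ⟨v * u, mul_mem hv hu, fun t ht => by
      have e := h2 _ (conj_mem_conj_smul (g := g) ht)
      calc h * g * t * (h * g)⁻¹ = h * (g * t * g⁻¹) * h⁻¹ := by group
        _ = v * (u * t * u⁻¹) * v⁻¹ := by rw [e, h1 t ht]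
        _ = _ := by group⟩)
    (fun T g ⟨u, hu, h1⟩ => ⟨u⁻¹, inv_mem hu, fun s hs => by
      have e := h1 _ (mem_cj.mp hs)
      calc g⁻¹ * s * g⁻¹⁻¹ = u⁻¹ * (u * (g⁻¹ * s * g) * u⁻¹) * u⁻¹⁻¹ := by group
        _ = _ := by rw [← e]; group⟩)
    (fun n hn => by simpa using h P (isTame_self P) n (by simpa using hn))
    (fun Q hQ x hx _ => h Q hQ x hx)
  apply hasNPC_of_controls_fusion P
  intro x hx g hg
  obtain ⟨u, hu, e⟩ := key (Subgroup.zpowers x) g (Subgroup.zpowers_le.mpr hx) (by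
    rw [cj_eq_map, MonoidHom.map_zpowers, Subgroup.zpowers_le]; exact hg)
  exact ⟨u, hu, (e x (Subgroup.mem_zpowers x)).symm⟩

end H8
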