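import Cfsg.Agent.H8.BCLoc
import Cfsg.Agent.H9.R2Cand

/-! Fusion on nonmetacyclic bicyclic 2-groups: the third maximal subgroup. -/

set_option autoImplicit false

universe u

namespace H8.BC

open Subgroup Cfsg Cfsg.FusionSystem H9 H92
open scoped commutatorElement

theorem mc_of_le {G : Type u} [Group G] {K M : Subgroup G} (h : IsMetacyclic M) (e : K ≤ M) :
    IsMetacyclic K :=
  H19.isMetacyclic_of_injective h (inclusion e) (inclusion_injective e)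

namespace BD

variable {G : Type u} [Group G] {M₁ M₂ M₃ : Subgroup G} (h : BD M₁ M₂ M₃)
include h

theorem idx : (frattini G).index ≤ 2 ^ 2 := by
  rw [h.phi]; exact index_inf_le.trans (by rw [h.i1, h.i2]; rfl)

theorem mul3 (a b : G) : a * b ∈ M₃ ↔ (a ∈ M₃ ↔ b ∈ M₃) := by
  rw [h.m3, h.m3, h.m3, mul_mem_iff_of_index_two h.i1, mul_mem_iff_of_index_two h.i2]; tauto

theorem mem_phi {a : G} : a ∈ frattini G ↔ a ∈ M₁ ∧ a ∈ M₃ := by
  rw [h.phi, h.m3, mem_inf]; tauto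

theorem ex3 : ∃ x, x ∉ M₃ := h.ex.imp fun x hx e => hx.2 (((h.m3 x).1 e).1 hx.1)

variable [Finite G] (hG : IsPGroup 2 G)
include hG

theorem top_of {t s : G} (h1 : t ∈ M₃) (h2 : t ∉ M₁) (h3 : s ∉ M₃) (K : Subgroup G) (ht : t ∈ K)
    (hs : s ∈ K) : K = ⊤ :=
  top_of_two hG h.idx (fun e => h2 (h.mem_phi.1 e).1) (fun e => h3 (h.mem_phi.1 e).2)
    (fun e => h3 (((h.mul3 t s).1 (h.mem_phi.1 e).2).1 h1)) ht hs

theorem le_or {K : Subgroup G} (hK : K ≠ ⊤) : K ≤ M₁ ∨ K ≤ M₂ ∨ K ≤ M₃ := by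
  by_contra! e
  obtain ⟨a, ha, ha'⟩ := SetLike.not_le_iff_exists.1 e.1
  obtain ⟨b, hb, hb'⟩ := SetLike.not_le_iff_exists.1 e.2.1
  obtain ⟨c, hc, hc'⟩ := SetLike.not_le_iff_exists.1 e.2.2
  by_cases h1 : a ∈ M₃
  · exact hK (h.top_of hG h1 ha' hc' K ha hc)
  by_cases h2 : b ∈ M₃
  · exact hK (h.top_of hG h2 (fun e => hb' (((h.m3 b).1 h2).1 e)) hc' K hb hc)
  refine hK (h.top_of hG ((h.mul3 a b).2 (iff_of_false h1 h2)) ?_ hc' K (mul_mem ha hb) hc)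
  rw [h.m3] at h2
  rw [mul_mem_iff_of_index_two h.i1]; tauto

theorem le3 {Q : Subgroup G} (h1 : Q ≠ ⊤) (h2 : ¬ IsMetacyclic Q) : Q ≤ M₃ :=
  ((h.le_or hG h1).resolve_left fun e => h2 (mc_of_le h.mc1 e)).resolve_left
    fun e => h2 (mc_of_le h.mc2 e)

theorem no_odd (α : MulAut G) (hα : (orderOf α).Coprime 2) : α = 1 := by
  by_contra h1
  obtain ⟨R, h2, h3, h4⟩ := h.exR
  obtain ⟨b, h5, h6, h7⟩ := h.sq3 R h2 h3 h4
  obtain ⟨x, hx⟩ := h.ex3
  have h8 : α b ∈ M₃ := by_contra fun e => h.nsq _ e (by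
    rw [← map_pow, ← H19.map_commutator_of_surjective α.toMonoidHom α.surjective]
    exact ⟨_, h3 h7, rfl⟩)
  exact hx ((sup_le (zpowers_le.2 h5) (zpowers_le.2 h8)) (sup_zpowers_eq_top_two hG h.idx hα h1
    (fun e => h6 (h.mem_phi.1 e).1) ▸ mem_top x))

theorem d3 (H : Subgroup G) : (frattini H).index ≤ 2 ^ 3 := by
  have h1 := relIndex_le_of_isMetacyclic h.mc1 (inf_le_left : M₁ ⊓ H ≤ M₁) (B := H9.phi H)
    (fun t ht b hb => conj_mem_phi (le_normalizer ht.2) hb) two_pos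
    fun t ht => pow_mem_phi (hG.to_subgroup H) ht.2
  have h2 := relIndex_le_of_le_right (H := M₁) (le_top : H ≤ ⊤) (by rw [relIndex_top_right, h.i1]; omega)
  have h3 := relIndex_mul_relIndex _ _ _ (le_inf ((phi_le_frattini hG H).trans fun _ e =>
    (h.mem_phi.1 e).1) (phi_le H)) (inf_le_right : M₁ ⊓ H ≤ H)
  rw [relIndex_top_right, h.i1] at h2
  rw [inf_relIndex_right, relIndex_phi] at h3
  rw [← h3]
  exact Nat.mul_le_mul h1 h2

end BD

variable {Ω : Type u} [Group Ω] {S : Subgroup Ω} [Finite S] {F : FusionSystem S} {M₁ M₂ M₃ : Subgroup S}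

theorem BD.exists_ld (h : BD M₁ M₂ M₃) (hS : IsPGroup 2 S) (hF : F.IsSaturated 2) {Q : Subgroup Ω}
    (hE : F.IsEssential 2 Q) : ∃ s σ, LD (Q.subgroupOf S) s σ := by
  have e := subgroupOfEquivOfLe hE.1.1
  refine H8.BC.exists_ld hS hF hE (le_trans (le_of_eq ?_) (h.d3 hS (Q.subgroupOf S)))
  rw [← index_comap_of_surjective (f := e.toMonoidHom) _ e.surjective]
  congr 1
  exact le_antisymm (fun x hx => by
    simpa using frattini_le_comap_frattini_of_surjective (φ := e.symm.toMonoidHom) e.symm.surjective hx)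
    (frattini_le_comap_frattini_of_surjective e.surjective)

theorem BD.rank (h : BD M₁ M₂ M₃) (hS : IsPGroup 2 S) (hF : F.IsSaturated 2)
    (hf : S ≤ F.focalSubgroup) : PRankLE 2 2 S := by
  by_contra hr
  have h1 : ∀ Q, F.IsEssential 2 Q → Q ≤ M₃.map S.subtype := fun Q hE => by
    obtain ⟨s, σ, D⟩ := h.exists_ld hS hF hE
    have h3 := h.le3 hS (Q := Q.subgroupOf S) (fun e => D.s_not (e ▸ mem_top s))
      fun e => (D.caseA hS e).elim h.nm fun e => hr e.1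
    exact fun x hx => ⟨⟨x, hE.1.1 hx⟩, h3 hx, rfl⟩
  have h2 : ∀ a ∈ S, ∀ b ∈ S, a * b ∈ M₃.map S.subtype ↔
      (a ∈ M₃.map S.subtype ↔ b ∈ M₃.map S.subtype) := fun a ha b hb => by
    have := h.mul3 ⟨a, ha⟩ ⟨b, hb⟩
    simp only [← mem_map_iff_mem S.subtype_injective] at this
    exact this
  have h3 : ∀ α ∈ F.autGroup S, ∀ x ∈ S, af α x ∈ M₃.map S.subtype ↔ x ∈ M₃.map S.subtype :=
    fun α hα x hx => by
      obtain ⟨g, hg, e⟩ := mem_Inn.1 (autGroup_le_Inn hS hF (h.no_odd hS) hα)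
      rw [e x hx, h2 _ (mul_mem hg hx) _ (inv_mem hg), h2 _ hg _ hx, inv_mem_iff]; tauto
  obtain ⟨x, hx⟩ := h.ex3
  refine hx ((mem_map_iff_mem S.subtype_injective).1 ((hf.trans ((closure_le _).2 ?_)) x.2))
  rintro _ ⟨P, φ, y, hφ, rfl⟩
  have hm := mor_ext1 hφ
  rw [SetLike.mem_coe, ← ext1_coe, h2 _ (inv_mem (hm.le y.2)) _ (hm.mem y.2), inv_mem_iff]
  refine ⟨mem_of_closed hS hF (X := M₃.map S.subtype) ?_ hm y.2, fun e => by_contra fun e' =>
    mem_of_closed hS hF (X := (M₃.map S.subtype : Set Ω)ᶜ) ?_ hm y.2 e' e⟩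
  · rintro P (rfl | hP) α hα x hx hX
    exacts [(h3 α hα x hx).2 hX, h1 P hP (af_mem α hx)]
  · rintro P (rfl | hP) α hα x hx hX
    exacts [fun e => hX ((h3 α hα x hx).1 e), absurd (h1 P hP hx) hX]

end H8.BC
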