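import Cfsg.Agent.H9.Coord
import Cfsg.Agent.H9.PBasic
import Cfsg.Agent.H92.Res
import Cfsg.Agent.H83.BaerSuzuki

/-! A subgroup of `GL(3, 2)` with a strongly embedded subgroup has a Sylow 2-subgroup of order two
inverting an element of order three. -/

set_option autoImplicit false

namespace H8.BC

open Subgroup H92

/-- Three facts on involutions, true in `GL(d, 2)` for `d ≤ 3`. -/
structure P3 (H : Type*) [Monoid H] : Prop where
  p1 : ∀ a b : H, a * a = 1 → b * b = 1 → (a * b) ^ 4 = 1 ∨ (a * b) ^ 3 = 1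
  p2 : ∀ a b : H, a * a = 1 → b * b = 1 → a * b = b * a → a ≠ 1 → b ≠ 1 → a ≠ b →
    ∀ r : H, r * r = 1 → (a * r) ^ 4 = 1 ∨ (b * r) ^ 4 = 1 ∨ (a * b * r) ^ 4 = 1
  p3 : ∀ w : H, w ^ 4 = 1 → w * w ≠ 1 → ∀ r : H, r * r = 1 →
    (w * w * r) ^ 4 = 1 ∨ (r * (w * r * w ^ 3)) ^ 4 = 1

theorem P3.of_injective {H K : Type*} [Monoid H] [Monoid K] (h : P3 H) (f : K →* H)
    (hf : Function.Injective f) : P3 K := by
  have e : ∀ {a b : K}, a = b ↔ f a = f b := hf.eq_iff.symm
  refine ⟨fun a b => ?_, fun a b => ?_, fun w => ?_⟩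
  · simpa only [e, map_mul, map_pow, map_one] using h.p1 (f a) (f b)
  · simp only [e (b := 1), e (a := a * b), e (a := a) (b := b), ne_eq, map_mul, map_pow, map_one]
    exact fun h1 h2 h3 h4 h5 h6 r => h.p2 _ _ h1 h2 h3 h4 h5 h6 (f r)
  · simp only [e (b := 1), ne_eq, map_mul, map_pow, map_one]
    exact fun h1 h2 r => h.p3 _ h1 h2 (f r)

/-- Bit matrices. -/
structure M9 where
  (a b c d e f g h i : Bool)
  deriving DecidableEq

/-- Product of bit matrices. -/
def M9.mul (x y : M9) : M9 :=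
  ⟨xor (xor (x.a && y.a) (x.b && y.d)) (x.c && y.g),
    xor (xor (x.a && y.b) (x.b && y.e)) (x.c && y.h),
    xor (xor (x.a && y.c) (x.b && y.f)) (x.c && y.i),
    xor (xor (x.d && y.a) (x.e && y.d)) (x.f && y.g),
    xor (xor (x.d && y.b) (x.e && y.e)) (x.f && y.h),
    xor (xor (x.d && y.c) (x.e && y.f)) (x.f && y.i),
    xor (xor (x.g && y.a) (x.h && y.d)) (x.i && y.g),
    xor (xor (x.g && y.b) (x.h && y.e)) (x.i && y.h),
    xor (xor (x.g && y.c) (x.h && y.f)) (x.i && y.i)⟩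

/-- Identity bit matrix. -/
def M9.one : M9 := ⟨true, false, false, false, true, false, false, false, true⟩

/-- Square of a bit matrix. -/
def M9.sq (x : M9) : M9 := x.mul x

/-- Bits of a matrix. -/
def enc (m : Matrix (Fin 3) (Fin 3) (ZMod 2)) : M9 :=
  ⟨m 0 0 = 1, m 0 1 = 1, m 0 2 = 1, m 1 0 = 1, m 1 1 = 1, m 1 2 = 1, m 2 0 = 1, m 2 1 = 1, m 2 2 = 1⟩

theorem enc_mul (m n : Matrix (Fin 3) (Fin 3) (ZMod 2)) : enc (m * n) = (enc m).mul (enc n) := by
  have : ∀ a b c d e f : ZMod 2, decide (a * b + c * d + e * f = 1) = xor (xor (decide (a = 1) &&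
    decide (b = 1)) (decide (c = 1) && decide (d = 1))) (decide (e = 1) && decide (f = 1)) := by decide
  simp only [enc, M9.mul, Matrix.mul_apply, Fin.sum_univ_three, this]

theorem enc_inj {m n : Matrix (Fin 3) (Fin 3) (ZMod 2)} : m = n ↔ enc m = enc n := by
  have : ∀ a b : ZMod 2, decide (a = 1) = decide (b = 1) ↔ a = b := by decide
  refine ⟨congrArg _, fun h => ?_⟩
  simp only [enc, M9.mk.injEq, this] at h
  rw [Matrix.eta_fin_three m, Matrix.eta_fin_three n]
  simp only [h]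

/-- The involutions of `GL(3, 2)` and the identity. -/
def invL : List M9 :=
  [⟨false, false, true, false, true, false, true, false, false⟩,
    ⟨false, false, true, true, true, true, true, false, false⟩,
    ⟨false, true, false, true, false, false, false, false, true⟩,
    ⟨false, true, false, true, false, false, true, true, true⟩,
    ⟨false, true, true, false, true, false, true, true, false⟩,
    ⟨false, true, true, true, false, true, false, false, true⟩,
    ⟨true, false, false, false, false, true, false, true, false⟩,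
    ⟨true, false, false, false, true, false, false, false, true⟩,
    ⟨true, false, false, false, true, false, false, true, true⟩,
    ⟨true, false, false, false, true, false, true, false, true⟩,
    ⟨true, false, false, false, true, false, true, true, true⟩,
    ⟨true, false, false, false, true, true, false, false, true⟩,
    ⟨true, false, false, true, false, true, true, true, false⟩,
    ⟨true, false, false, true, true, false, false, false, true⟩,
    ⟨true, false, false, true, true, false, true, false, true⟩,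
    ⟨true, false, false, true, true, true, false, false, true⟩,
    ⟨true, false, true, false, true, false, false, false, true⟩,
    ⟨true, false, true, false, true, true, false, false, true⟩,
    ⟨true, true, false, false, true, false, false, false, true⟩,
    ⟨true, true, false, false, true, false, false, true, true⟩,
    ⟨true, true, true, false, false, true, false, true, false⟩,
    ⟨true, true, true, false, true, false, false, false, true⟩]

theorem mem_invL (m : M9) : m.sq = .one → m ∈ invL := by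
  obtain ⟨a, b, c, d, e, f, g, h, i⟩ := m
  revert a b c d e f g h i
  decide +kernel

theorem dec1 : ∀ a ∈ invL, ∀ b ∈ invL, (a.mul b).sq.sq = .one ∨ (a.mul b).sq.mul (a.mul b) = .one := by
  decide +kernel

theorem dec2 : ∀ a ∈ invL, ∀ b ∈ invL, a.mul b = b.mul a → a ≠ .one → b ≠ .one → a ≠ b → ∀ r ∈ invL,
    (a.mul r).sq.sq = .one ∨ (b.mul r).sq.sq = .one ∨ ((a.mul b).mul r).sq.sq = .one := by
  decide +kernel

set_option synthInstance.maxSize 2000 in
theorem dec3 (w : M9) : w.sq.sq = .one → w.sq ≠ .one → ∀ r ∈ invL,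
    (w.sq.mul r).sq.sq = .one ∨ (r.mul ((w.mul r).mul (w.sq.mul w))).sq.sq = .one := by
  obtain ⟨a, b, c, d, e, f, g, h, i⟩ := w
  revert a b c d e f g h i
  decide +kernel

theorem p3_three : P3 (Matrix (Fin 3) (Fin 3) (ZMod 2)) := by
  have e1 : enc 1 = .one := by decide
  have e3 : ∀ m : Matrix (Fin 3) (Fin 3) (ZMod 2), m ^ 3 = m * m * m := fun m => pow_three' m
  have e4 : ∀ m : Matrix (Fin 3) (Fin 3) (ZMod 2), m ^ 4 = m * m * (m * m) := fun m => by
    rw [← pow_two, ← pow_two, ← pow_mul]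
  refine ⟨fun a b => ?_, fun a b => ?_, fun w => ?_⟩ <;>
    simp only [ne_eq, enc_inj, e3, e4, enc_mul, e1]
  · exact fun ha hb => dec1 _ (mem_invL _ ha) _ (mem_invL _ hb)
  · exact fun ha hb h3 h4 h5 h6 r hr =>
      dec2 _ (mem_invL _ ha) _ (mem_invL _ hb) h3 h4 h5 h6 _ (mem_invL _ hr)
  · exact fun h4 h5 r hr => dec3 _ h4 h5 _ (mem_invL _ hr)

set_option synthInstance.maxSize 2000 in
theorem p3_gl {d : ℕ} (hd : d ≤ 3) : P3 (GL (Fin d) (ZMod 2)) := by
  refine P3.of_injective ?_ (Units.coeHom _) Units.val_injective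
  interval_cases d
  · exact ⟨by decide +kernel, by decide +kernel, by decide +kernel⟩
  · exact ⟨by decide +kernel, by decide +kernel, by decide +kernel⟩
  · exact ⟨by decide +kernel, by decide +kernel, by decide +kernel⟩
  · exact p3_three

theorem g3 {A H : Type*} [Group A] [Finite A] [Group H] (h : P3 H) (ρ : A →* H) {T E : Subgroup A}
    (hT : SylIn 2 T ⊤) (hTE : T ≤ E) (hne : E ≠ ⊤) (hk : ρ.ker ≤ T) (hT1 : ¬ T ≤ ρ.ker)
    (se : ∀ g, ∀ x ∈ T, ρ x ≠ 1 → g * x * g⁻¹ ∈ T → g ∈ E) :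
    ∃ s ∈ T, ρ s ≠ 1 ∧ (∀ t ∈ T, ρ t = 1 ∨ ρ (s⁻¹ * t) = 1) ∧
      ∃ r, r ≠ 1 ∧ r ^ 3 = 1 ∧ s * r * s⁻¹ = r⁻¹ := by
  have hp := isPGroup_iff_forall.1 hT.isPGroup
  have key0 : ∀ g, ∀ x ∈ T, ρ x ≠ 1 → g * x * g⁻¹ ∈ E → g ∈ E := fun g x hx h1 h2 => by
    obtain ⟨k, e⟩ := hp x hx
    obtain ⟨b, hb, h3⟩ := (hT.mono hTE le_top).exists_conj
      (isPGroup_zpowers (g := g * x * g⁻¹) (n := k) (by rw [conj_pow, e]; simp)) (zpowers_le.2 h2)
    refine (mul_mem_cancel_left hb).1 (se _ x hx h1 ?_)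
    simpa [mul_assoc] using h3 _ (mem_zpowers _)
  have sq : ∀ g x : A, ρ x * ρ x = 1 → ρ (g * x * g⁻¹) * ρ (g * x * g⁻¹) = 1 := fun g x e => by
    simp only [map_mul, map_inv]
    rw [conj_mul, e]; simp
  have key : ∀ x ∈ T, ∀ y ∈ T, ρ x ≠ 1 → ρ y ≠ 1 → ρ x * ρ x = 1 → ρ y * ρ y = 1 → ∀ g k,
      (ρ (g * x * g⁻¹) * ρ (k * y * k⁻¹)) ^ 4 = 1 → g⁻¹ * k ∈ E := fun x hx y hy h1 h2 h3 h4 g k e => by
    obtain ⟨b, -, h5⟩ := hT.exists_conj ((H83.isPGroup_closure_pair (sq g x h3) (sq k y h4) (k := 2)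
      e).comap_of_ker_isPGroup ρ (hT.isPGroup.to_le hk)) le_top
    have h6 := se (b * g) x hx h1 (by simpa [mul_assoc] using h5 (g * x * g⁻¹) (subset_closure (by simp)))
    have h7 := se (b * k) y hy h2 (by simpa [mul_assoc] using h5 (k * y * k⁻¹) (subset_closure (by simp)))
    simpa [mul_assoc] using mul_mem (inv_mem h6) h7
  obtain ⟨γ, -, hγ⟩ := SetLike.exists_of_lt (lt_top_iff_ne_top.2 hne)
  have key1 : ∀ x ∈ T, ∀ y ∈ T, ρ x ≠ 1 → ρ y ≠ 1 → ρ x * ρ x = 1 → ρ y * ρ y = 1 →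
      (ρ x * ρ (γ * y * γ⁻¹)) ^ 4 ≠ 1 := fun x hx y hy h1 h2 h3 h4 e =>
    hγ (by simpa using key x hx y hy h1 h2 h3 h4 1 γ (by simpa using e))
  have h4 : ∀ w ∈ T, ρ w ^ 4 = 1 → ρ w * ρ w = 1 := fun w hw e => by
    by_contra h1
    have h2 : ρ (w * w) * ρ (w * w) = 1 := by rw [← e, map_mul, ← pow_two, ← pow_two, ← pow_mul]
    have h3 : ρ (w * w) ≠ 1 := by rwa [map_mul]
    have hw2 := mul_mem hw hw
    rcases h.p3 _ e h1 _ (sq γ _ h2) with h5 | h5
    · exact key1 _ hw2 _ hw2 h3 h3 h2 h2 (by rwa [map_mul ρ w w])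
    · have h6 := key _ hw2 _ hw2 h3 h3 h2 h2 γ (w * γ) (by
        rw [← h5, eq_inv_of_mul_eq_one_left ((pow_succ (ρ w) 3).symm.trans e)]
        simp [mul_assoc])
      exact hγ (inv_mem_iff.1 (key0 γ⁻¹ w hw (fun e => h1 (by rw [e, mul_one]))
        (by simpa [mul_assoc] using h6)))
  have h2 : ∀ t ∈ T, ρ t * ρ t = 1 := fun t ht => by
    obtain ⟨k, e⟩ := hp t ht
    have e1 : ρ t ^ 2 ^ (k + 1) = 1 := by rw [pow_succ, pow_mul, ← map_pow, e]; simp
    clear e
    induction k with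
    | zero => simpa [pow_two] using e1
    | succ k ih =>
      refine ih ?_
      rw [pow_succ, pow_mul, pow_two, ← map_pow]
      exact h4 _ (pow_mem ht _) (by rw [map_pow, ← pow_mul, ← e1]; congr 1; ring)
  obtain ⟨s, hs, hs1⟩ := SetLike.not_le_iff_exists.1 hT1
  rw [MonoidHom.mem_ker] at hs1
  have hr := sq γ s (h2 s hs)
  have hsi : (ρ s)⁻¹ = ρ s := inv_eq_of_mul_eq_one_right (h2 s hs)
  have h3 : ∀ t ∈ T, ρ t = 1 ∨ ρ t = ρ s := fun t ht => by
    by_contra! h5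
    have h6 : ρ s * ρ t = ρ t * ρ s := by
      rw [← map_mul, eq_inv_of_mul_eq_one_left (h2 _ (mul_mem hs ht)), map_mul, mul_inv_rev, hsi,
        inv_eq_of_mul_eq_one_right (h2 t ht)]
    rcases h.p2 _ _ (h2 s hs) (h2 t ht) h6 hs1 h5.1 h5.2.symm _ hr with h7 | h7 | h7
    · exact key1 s hs s hs hs1 hs1 (h2 s hs) (h2 s hs) h7
    · exact key1 t ht s hs h5.1 hs1 (h2 t ht) (h2 s hs) h7
    · refine key1 _ (mul_mem hs ht) s hs (fun e => h5.2 ?_) hs1 (h2 _ (mul_mem hs ht)) (h2 s hs)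
        (by rwa [map_mul])
      rw [map_mul] at e
      rw [eq_inv_of_mul_eq_one_right e, hsi]
  have hn := key1 s hs s hs hs1 hs1 (h2 s hs) (h2 s hs)
  have hc := (h.p1 _ _ (h2 s hs) hr).resolve_left hn
  rw [← map_mul] at hn hc
  have hi : ρ s * ρ (s * (γ * s * γ⁻¹)) * (ρ s)⁻¹ = (ρ (s * (γ * s * γ⁻¹)))⁻¹ := by
    rw [map_mul, mul_inv_rev, inv_eq_of_mul_eq_one_right hr, ← mul_assoc, h2 s hs, one_mul]
  generalize s * (γ * s * γ⁻¹) = r at hn hc hi
  obtain ⟨k, e⟩ := hp (r ^ 3) (hk (by rwa [MonoidHom.mem_ker, map_pow]))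
  have e3 : (r ^ 4 ^ k) ^ 3 = 1 := by
    rw [← pow_mul, mul_comm, pow_mul, ← show 2 ^ k * 2 ^ k = 4 ^ k from (mul_pow 2 2 k).symm,
      pow_mul, e, one_pow]
  have e4 : ρ (r ^ 4 ^ k) = ρ r := by
    rw [map_pow]
    exact pow_eq_self_of_modEq hc (by simpa using (show 4 ≡ 1 [MOD 3] by decide).pow k)
  rw [← e4] at hn hc hi
  generalize r ^ 4 ^ k = σ at hn hc hi e3
  haveI : Fact (Nat.Prime 3) := ⟨Nat.prime_three⟩
  have h23 : ∀ c : A, ρ c = 1 → ∀ n : ℕ, c ^ 3 ^ n = 1 → c = 1 := fun c h1 n h5 => by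
    have := H9.eq_one_of_pow_eq_one_of_coprime (hT.isPGroup) (n := 3 ^ n) (y := ⟨c, hk h1⟩)
      (Nat.Coprime.pow_left _ (by decide)) (Subtype.ext h5)
    exact congrArg Subtype.val this
  have hz : IsPGroup 3 (zpowers σ) := isPGroup_zpowers (n := 1) e3
  have hS : SylIn 3 (zpowers σ) ((zpowers (ρ σ)).comap ρ) :=
    ⟨zpowers_le.2 (mem_zpowers _), hz, fun C h5 h6 h7 => le_antisymm (fun c hc => by
      obtain ⟨i, hi⟩ := h6 hc
      have h8 := mul_mem (zpow_mem (h5 (mem_zpowers σ)) (-i)) hc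
      obtain ⟨n, hn⟩ := isPGroup_iff_forall.1 h7 _ h8
      have := h23 _ (by rw [map_mul, map_zpow, ← hi]; simp) n hn
      exact ⟨i, by simpa [eq_comm, inv_mul_eq_one] using this⟩) h5⟩
  obtain ⟨n, ⟨i, hi'⟩, h5⟩ := hS.exists_conj (isPGroup_zpowers (g := s * σ * s⁻¹) (n := 1)
    (by rw [conj_pow, pow_one, e3]; simp)) (zpowers_le.2 (by
      rw [mem_comap, map_mul, map_mul, map_inv, hi]; exact inv_mem (mem_zpowers _)))
  have h6 : ρ (σ ^ (-i) * n) = 1 := by rw [map_mul, map_zpow, ← hi']; simp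
  have h7 : ρ (σ ^ (-i) * n * s) = ρ s := by rw [map_mul, h6, one_mul]
  refine ⟨σ ^ (-i) * n * s, mul_mem (hk h6) hs, h7 ▸ hs1, fun t ht => (h3 t ht).imp_right fun e => by
    rw [map_mul, map_inv, h7, e, inv_mul_cancel], σ, fun e => hn (by rw [e]; simp), e3, ?_⟩
  have h8 : σ ^ (-i) * n * s * σ * (σ ^ (-i) * n * s)⁻¹ * σ ∈ zpowers σ := by
    have := mul_mem (mul_mem (mul_mem (zpow_mem (mem_zpowers σ) (-i)) (h5 _ (mem_zpowers _)))
      (zpow_mem (mem_zpowers σ) i)) (mem_zpowers σ)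
    simpa [mul_assoc] using this
  obtain ⟨m, hm⟩ := isPGroup_iff_forall.1 hz _ h8
  exact eq_inv_of_mul_eq_one_left (h23 _ (by
    rw [map_mul, map_mul, map_mul, map_inv, h7, hi, inv_mul_cancel]) m hm)

end H8.BC
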