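import Cfsg.Agent.H8.BCG3
import Cfsg.Agent.H8.BCGrp
import Cfsg.Agent.H9.Homocyc

/-! Essential subgroups of rank at most three in fusion systems on 2-groups. -/

set_option autoImplicit false

universe u

namespace H8.BC

open Subgroup Cfsg Cfsg.FusionSystem H9 H92
open scoped commutatorElement

variable {G : Type u} [Group G]

/-- A self-centralizing subgroup of index two in its normalizer, with an automorphism of order three
inverted by the normalizer. -/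
structure LD (Q : Subgroup G) (s : G) (σ : MulAut Q) : Prop where
  cen : ∀ g, (∀ y ∈ Q, g * y * g⁻¹ = y) → g ∈ Q
  sn : ∀ y ∈ Q, s * y * s⁻¹ ∈ Q
  s_not : s ∉ Q
  nor : ∀ g, (∀ y ∈ Q, g * y * g⁻¹ ∈ Q) → g ∈ Q ∨ s⁻¹ * g ∈ Q
  cube : σ ^ 3 = 1
  ne : σ ≠ 1
  inv : ∀ y ∈ Q, af σ (s * af σ y * s⁻¹) = s * y * s⁻¹

theorem exists_ld {Ω : Type u} [Group Ω] {S : Subgroup Ω} [Finite S] {F : FusionSystem S}
    (hS : IsPGroup 2 S) (hF : F.IsSaturated 2) {Q : Subgroup Ω} (hE : F.IsEssential 2 Q)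
    (hi : (frattini Q).index ≤ 2 ^ 3) : ∃ s σ, LD (Q.subgroupOf S) s σ := by
  have hQ : Q ≤ S := hE.1.1
  have hC := centralizerIn_le_of_centric hE.1
  haveI := finite_mulAut hQ
  haveI := finite_of_le hQ
  have hQp : IsPGroup 2 Q := hS.to_le hQ
  obtain ⟨d, π, hπ, hd⟩ := exists_coord 2 (Q := Q) (B := phi Q)
    (fun y hy z hz => commutator_mem_phi hQp hy hz) (fun y hy => pow_mem_phi hQp hy)
  rw [relIndex_phi] at hd
  have hph : ∀ α : MulAut Q, ∀ y ∈ phi Q, af α y ∈ phi Q := fun α y hy =>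
    af_mem_phi le_rfl (fun y hy => af_mem α hy) hy
  obtain ⟨ρ, hρ⟩ := hπ.exists_matRep le_rfl (F.autGroup Q) (fun α _ y hy => af_mem α hy)
    (fun α _ y _ hy => hph α y hy)
  have hker : ∀ α : F.autGroup Q, ρ α = 1 ↔ α.1 ∈ Inn Q := fun α => by
    refine ⟨fun e => mem_Inn_of_normal (essential_radical hS hF hE) (K := ρ.ker.map (Subgroup.subtype _))
      (map_subtype_le _) ?_ ?_ ⟨α, e, rfl⟩, fun e => ?_⟩
    · rintro b hb _ ⟨n, hn, rfl⟩
      exact ⟨_, (MonoidHom.normal_ker ρ).conj_mem n hn ⟨b, hb⟩, rfl⟩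
    · rintro _ ⟨β, hβ, rfl⟩ hc
      refine aut_eq_one fun y hy => af_fix_of_phi hQp le_rfl hc (fun y hy => ?_) hy
      rw [← hπ.eq_iff hy (af_mem _ hy), Subgroup.coe_subtype, ← hρ β y hy, MonoidHom.mem_ker.1 hβ]
      simp
    · obtain ⟨g, hg, e⟩ := mem_Inn.1 e
      refine Units.ext (hπ.mat_ext fun y hy => ?_)
      rw [hρ α y hy, e y hy, hπ.conj hg hy]
      simp
  have hTB := autInducedBy_le_autGroup F hQ
  obtain ⟨hlt, hfn, hne⟩ := (isEssential_iff hS hF).1 hE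
  obtain ⟨s, hs, hs1, h2, r, h3, h4, h5⟩ := g3 (p3_gl ((Nat.pow_le_pow_iff_right (by decide)).1
    (hd ▸ hi))) ρ (T := (autInducedBy S Q).subgroupOf _) (E := (extSub F Q).subgroupOf _)
    (sylIn_top_iff.2 ((sylIn_iff hTB).1 (sylIn_of_fn hS hF hfn)))
    (fun _ h => autInducedBy_le_extSub F hlt h) (fun e => hne (subgroupOf_eq_top.1 e))
    (fun α h => Inn_le_autInducedBy hQ ((hker α).1 h))
    (fun h => (Inn_lt_autInducedBy hS hC hlt).not_ge fun α hα => (hker ⟨α, hTB hα⟩).1 (h hα))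
    (fun g x hx h1 h2 => mem_extSub_of_conj hS hF hfn g.2 hx (fun e => h1 ((hker x).2 e)) h2)
  obtain ⟨g, hg, e⟩ := (mem_autInducedBy' (α := s.1)).1 hs
  let σ := (MulAut.congr (subgroupOfEquivOfLe hQ)).symm r.1
  have hσ : ∀ y ∈ Q.subgroupOf S, ((af σ y : S) : Ω) = af r.1 y := fun y hy => by
    rw [af_of_mem _ hy, af_of_mem _ (mem_subgroupOf.1 hy)]; rfl
  have hI : ∀ x : S, (∀ y ∈ Q, x * y * (x : Ω)⁻¹ ∈ Q) → ∀ α ∈ Inn Q,
      (∀ y ∈ Q, af α y = x * y * (x : Ω)⁻¹) → x ∈ Q.subgroupOf S := fun x hx α hα e => by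
    have hn := mem_normalizerIn_of hQ x.2 hx
    rw [aut_ext (α := α) (β := cAut Q x hn.2) fun y hy => by rw [e y hy, af_cAut _ hy]] at hα
    exact (cAut_mem_Inn_iff hC hQ hn).1 hα
  refine ⟨⟨g, hg.1⟩, σ, fun x hx => hC (mem_centralizerIn_of x.2 fun y hy =>
    congrArg Subtype.val (hx ⟨y, hQ hy⟩ hy)), fun y hy => conj_mem_of_normalizerIn (P := Q) hg hy,
    fun h => hs1 ((hker s).2 (mem_Inn.2 ⟨g, h, e⟩)), fun x hx => ?_, ?_, fun h => h3 ?_, fun y hy => ?_⟩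
  · have h6 : ∀ y ∈ Q, x * y * (x : Ω)⁻¹ ∈ Q := fun y hy => hx ⟨y, hQ hy⟩ hy
    have hn := mem_normalizerIn_of hQ x.2 h6
    have h8 : cAut Q x hn.2 ∈ autInducedBy S Q := cAut_mem _ x.2
    refine (h2 ⟨_, hTB h8⟩ h8).imp
      (fun h => (cAut_mem_Inn_iff hC hQ hn).1 ((hker ⟨_, hTB h8⟩).1 h)) fun h =>
      hI _ (fun y hy => conj_mem_of_normalizerIn (mul_mem (inv_mem hg) hn) hy)
        ((s : MulAut Q)⁻¹ * cAut Q x hn.2) ((hker (s⁻¹ * ⟨_, hTB h8⟩)).1 h) fun y hy => ?_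
    have h7 := e _ (conj_mem_of_normalizerIn (mul_mem (inv_mem hg) hn) hy)
    change _ = g⁻¹ * x * y * (g⁻¹ * x)⁻¹
    rw [af_mul_apply, af_cAut _ hy, ← af_inv_af s.1 (g⁻¹ * x * y * (g⁻¹ * x)⁻¹), h7]
    congr 1; group
  · rw [← map_pow, ← Subgroup.coe_pow, h4, Subgroup.coe_one, map_one]
  · exact Subtype.ext ((MulEquiv.map_eq_one_iff _).1 h)
  · have h6 : (r : MulAut Q) * (s * r) = s := congrArg Subtype.val (show r * (s * r) = s by
      rw [mul_inv_eq_iff_eq_mul.1 h5]; group)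
    refine Subtype.ext ?_
    rw [hσ _ (mem_subgroupOf.2 (conj_mem_of_normalizerIn (P := Q) hg (af_mem σ hy)))]
    change af r.1 (g * (af σ y : S) * g⁻¹) = g * y * g⁻¹
    rw [hσ y hy, ← e _ (af_mem r.1 (mem_subgroupOf.1 hy)), ← e _ (mem_subgroupOf.1 hy), ← af_mul_apply, ← af_mul_apply, mul_assoc, h6]

set_option synthInstance.maxSize 2000 in
theorem four {R B : Subgroup G} [Finite R] (hc : ∀ y ∈ R, ∀ z ∈ R, ⁅y, z⁆ ∈ B)
    (hp : ∀ y ∈ R, y ^ 2 ∈ B) (hi : B.relIndex R ≤ 2 ^ 2) {y c w : G} (hy : y ∈ R) (hc' : c ∈ R)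
    (hw : w ∈ R) (h1 : y ∉ B) (h2 : c ∉ B) (h3 : y * c ∉ B) :
    w ∈ B ∨ y⁻¹ * w ∈ B ∨ c⁻¹ * w ∈ B ∨ (y * c)⁻¹ * w ∈ B := by
  obtain ⟨d, π, hπ, hd⟩ := exists_coord 2 hc hp
  have hd2 : d ≤ 2 := (Nat.pow_le_pow_iff_right (by decide)).1 (hd ▸ hi)
  have hm := mul_mem hy hc'
  rw [← hπ.eq_iff hy hw, ← hπ.eq_iff hc' hw, ← hπ.eq_iff hm hw, ← hπ.ker _ hw, hπ.add _ hy _ hc']
  rw [← hπ.ker _ hm, hπ.add _ hy _ hc'] at h3
  rw [← hπ.ker _ hy] at h1
  rw [← hπ.ker _ hc'] at h2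
  generalize π y = a, π c = b, π w = v at *
  revert a b v
  interval_cases d <;> decide

variable [Finite G]

theorem top_of_two (hG : IsPGroup 2 G) (hi : (frattini G).index ≤ 2 ^ 2) {y c : G}
    (h1 : y ∉ frattini G) (h2 : c ∉ frattini G) (h3 : y * c ∉ frattini G) {K : Subgroup G}
    (hy : y ∈ K) (hc : c ∈ K) : K = ⊤ := by
  refine frattini_nongenerating ((eq_top_iff' _).2 fun w => ?_)
  rcases four (R := ⊤) (fun y _ z _ => commutator_le_frattini hG (commutatorElement_mem_commutator y z))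
    (fun y _ => pow_mem_frattini hG y) (by rwa [relIndex_top_right]) (mem_top y) (mem_top c) (mem_top w)
    h1 h2 h3 with h | h | h | h
  · exact mem_sup_right h
  · simpa using mul_mem_sup hy h
  · simpa using mul_mem_sup hc h
  · simpa [mul_assoc] using mul_mem_sup (mul_mem hy hc) h

theorem le_of_two (hG : IsPGroup 2 G) {R : Subgroup G} (hi : (frattini R).index ≤ 2 ^ 2) {y c : G}
    (hy : y ∈ R) (hc : c ∈ R) (h1 : y ∉ phi R) (h2 : c ∉ phi R) (h3 : y * c ∉ phi R) {K : Subgroup G}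
    (hyK : y ∈ K) (hcK : c ∈ K) : R ≤ K :=
  subgroupOf_eq_top.1 (top_of_two (hG.to_subgroup R) hi (y := ⟨y, hy⟩) (c := ⟨c, hc⟩)
    (mt (mem_phi hy).2 h1) (mt (mem_phi hc).2 h2) (mt (mem_phi (mul_mem hy hc)).2 h3) hyK hcK)

theorem phi_le_frattini (hG : IsPGroup 2 G) (R : Subgroup G) : phi R ≤ frattini G :=
  map_le_iff_le_comap.2 (frattini_le_of_forall (p := 2) (fun x y =>
    commutator_le_frattini hG (commutatorElement_mem_commutator (x : G) y))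
    fun x => pow_mem_frattini hG (x : G))

omit [Finite G] in
theorem comm_le {x b : G} (hg : ∀ L : Subgroup G, x ∈ L → b ∈ L → L = ⊤) {K : Subgroup G} [K.Normal]
    (h : ⁅x, b⁆ ∈ K) : commutator G ≤ K := by
  have h1 : ∀ c : G, ⁅c, x⁆ ∈ K → ⁅c, b⁆ ∈ K → c ∈ centralMod K := fun c h1 h2 =>
    mem_centralMod.2 fun g => by
      have h3 : ∀ y : G, y ∈ (centralizer {(c : G ⧸ K)}).comap (QuotientGroup.mk' K) ↔ ⁅c, y⁆ ∈ K :=
        fun y => by
          rw [mem_comap, mem_centralizer_singleton_iff, eq_comm, ← QuotientGroup.eq_one_iff,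
            ← commutatorElement_eq_one_iff_mul_comm]
          rfl
      exact (h3 g).1 (hg _ ((h3 x).2 h1) ((h3 b).2 h2) ▸ mem_top g)
  have h2 := hg _ (h1 x (by simp) h) (h1 b (by simpa using inv_mem h) (by simp))
  exact commutator_le.2 fun y _ z _ => mem_centralMod.1 (h2 ▸ mem_top y) z

theorem conj_mem_normalizer_zpowers {g u : G} (h : g * u * g⁻¹ ∈ zpowers u) :
    g ∈ normalizer (zpowers u : Set G) :=
  mem_normalizer_of_finite (by
    rintro _ ⟨k, rfl⟩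
    simpa only [conj_zpow] using zpow_mem h k)

omit [Finite G] in
theorem q8 {a b : G} (h : H3.DSQ 1 a b) (e : b ^ 2 = a ^ 2) :
    (∀ t : G, t = 1 ∨ t = a ^ 2 ∨ t ^ 2 = a ^ 2) ∧ ∀ y w : G, ⁅y, w⁆ = 1 ∨ ⁅y, w⁆ = a ^ 2 := by
  have h4 : a ^ (4 : ℤ) = 1 := by simpa [← pow_mul, zpow_ofNat] using h.z_sq
  have h1 : ∀ i : ℤ, a ^ (2 * i) = 1 ∨ a ^ (2 * i) = a ^ 2 := fun i => by
    obtain ⟨k, rfl | rfl⟩ := Int.even_or_odd' i
    · exact .inl (by rw [← mul_assoc, zpow_mul, show (2 * 2 : ℤ) = 4 from rfl, h4, one_zpow])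
    · exact .inr (by rw [mul_add, ← mul_assoc, zpow_add, zpow_mul, show (2 * 2 : ℤ) = 4 from rfl, h4,
        one_zpow, one_mul, mul_one, zpow_ofNat])
  refine ⟨fun t => ?_, fun y w => ?_⟩
  · rcases h.eq_zpow_or t with ⟨i, rfl⟩ | ⟨i, rfl⟩
    · obtain ⟨k, rfl | rfl⟩ := Int.even_or_odd' i
      · exact (h1 k).imp_right .inl
      · refine .inr (.inr ?_)
        rw [← zpow_natCast, ← zpow_mul, show (2 * k + 1) * (2 : ℕ) = 4 * k + 2 by push_cast; ring,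
          zpow_add, zpow_mul, h4, one_zpow, one_mul, zpow_ofNat]
    · have h2 : b * a * b⁻¹ = a⁻¹ := by rcases h.cases with h | h | h; exacts [h.2, h.2, by omega]
      refine .inr (.inr ?_)
      calc (a ^ i * b) ^ 2 = a ^ i * (b * a * b⁻¹) ^ i * b ^ 2 := by rw [conj_zpow, pow_two, pow_two]; group
        _ = _ := by rw [h2, e]; group
  · obtain ⟨k, hk⟩ : ⁅y, w⁆ ∈ zpowers (a ^ 2) := h.commutator_eq ▸ commutatorElement_mem_commutator y w
    rw [← hk]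
    simpa [zpow_mul, zpow_ofNat] using h1 k

/-- `R` is invariant and `σ` moves it. -/
structure Inv (Q : Subgroup G) (s : G) (σ : MulAut Q) (R : Subgroup G) : Prop where
  le : R ≤ Q
  sig : ∀ y ∈ R, af σ y ∈ R
  sn : ∀ y ∈ R, s * y * s⁻¹ ∈ R
  ne : ∃ y ∈ R, af σ y ≠ y

namespace LD

variable {Q R : Subgroup G} {s : G} {σ : MulAut Q} (h : LD Q s σ) (hG : IsPGroup 2 G)
include h

omit [Finite G] in
theorem cop : (orderOf σ).Coprime 2 :=
  Nat.Coprime.coprime_dvd_left (orderOf_dvd_of_pow_eq_one h.cube) (by decide)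

omit [Finite G] in
theorem af3 (y : G) : af σ (af σ (af σ y)) = y := by
  rw [← af_mul_apply, ← af_mul_apply, ← pow_three', h.cube, af_one_apply]

omit [Finite G] in
theorem inv_top : Inv Q s σ Q :=
  ⟨le_rfl, fun _ hy => af_mem σ hy, h.sn, by_contra fun e => h.ne (aut_eq_one fun y hy =>
    by_contra fun e' => e ⟨y, hy, e'⟩)⟩

include hG

theorem exists_y (I : Inv Q s σ R) : ∃ y ∈ R, y⁻¹ * (s * y * s⁻¹) ∉ phi R := by
  by_contra! h1
  obtain ⟨y, hy, e⟩ := I.ne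
  have h2 := af_fix_of_phi (hG.to_subgroup R) I.le (α := σ ^ 2)
    (Nat.Coprime.coprime_dvd_left (orderOf_pow_dvd 2) h.cop) (fun y hy => by
      have h3 := af_mem_phi I.le I.sig (h1 _ (I.sig y hy))
      have h4 := af_mem σ (I.le hy)
      rw [(mulOn_af σ).map_mul (inv_mem h4) (h.sn _ h4), (mulOn_af σ).map_inv h4, h.inv y (I.le hy)] at h3
      simpa [pow_two, af_mul_apply, mul_assoc] using mul_mem (h1 y hy) (inv_mem h3)) hy
  rw [pow_two, af_mul_apply] at h2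
  exact e (by rw [← h2, h.af3, h2])

theorem le_of_normalized {C : Subgroup G} (hn : ∀ y ∈ Q, ∀ c ∈ C, y * c * y⁻¹ ∈ C)
    (hc : ∀ q ∈ Q, s * q ∉ C) : C ≤ Q := by
  by_contra h1
  obtain ⟨x, h2, h3, h4, -⟩ := exists_normalizes_pow_mem (S := ⊤) (hG.to_subgroup ⊤) le_top le_top hn h1
  exact hc _ ((h.nor x fun y hy => conj_mem_of_normalizerIn h3 hy).resolve_left h4) (by simpa using h2)

theorem gen (I : Inv Q s σ R) (hi : (frattini R).index ≤ 2 ^ 2) {y : G} (hy : y ∈ R) (h1 : y ∉ phi R)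
    {K : Subgroup G} (h2 : y ∈ K) (h3 : af σ y ∈ K) : R ≤ K := by
  let β : stab Q R := ⟨σ, mem_stab_of_maps I.le I.sig⟩
  have h4 := sup_zpowers_eq_top_two (hG.to_subgroup R) hi (α := res I.le β)
    (Nat.Coprime.coprime_dvd_left (orderOf_map_dvd _ β) (by rw [← Subgroup.orderOf_coe]; exact h.cop))
    (fun e => by
      obtain ⟨y, hy, e'⟩ := I.ne
      exact e' (by rw [← af_res I.le β hy, e, af_one_apply])) (mt (mem_phi hy).2 h1)
  refine subgroupOf_eq_top.1 (eq_top_iff.2 (h4 ▸ sup_le (zpowers_le.2 h2) (zpowers_le.2 ?_)))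
  rwa [mem_subgroupOf, ← af_of_mem, af_res I.le β hy]

theorem hq (I : Inv Q s σ R) (hm : IsMetacyclic R) : (∀ y ∈ R, ∀ w ∈ R, y * w = w * y) ∨
    Nat.card R = 8 ∧ ∃ z ∈ phi R, z ≠ 1 ∧ z ^ 2 = 1 ∧ (∀ t ∈ R, t = 1 ∨ t = z ∨ t ^ 2 = z) ∧
      (∀ y ∈ R, ∀ w ∈ R, ⁅y, w⁆ = 1 ∨ ⁅y, w⁆ = z) ∧ ¬ ∀ y ∈ R, ∀ w ∈ R, y * w = w * y := by
  let β : stab Q R := ⟨σ, mem_stab_of_maps I.le I.sig⟩
  rcases homocyclic_or_quaternion (hG.to_subgroup R) hm (α := res I.le β)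
    (Nat.Coprime.coprime_dvd_left (orderOf_map_dvd _ β) (by rw [← Subgroup.orderOf_coe]; exact h.cop))
    (fun e => by
      obtain ⟨y, hy, e'⟩ := I.ne
      exact e' (by rw [← af_res I.le β hy, e, af_one_apply])) with ⟨a, b, h1, -, -, h2⟩ | ⟨a, b, D, e⟩
  · have h3 : ∀ y : R, Commute y a → Commute y b → ∀ w, w * y = y * w := fun y ha hb w =>
      mem_centralizer_singleton_iff.1 ((sup_le (zpowers_le.2 (mem_centralizer_singleton_iff.2 ha.eq.symm))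
        (zpowers_le.2 (mem_centralizer_singleton_iff.2 hb.eq.symm))) (h2 ▸ mem_top w))
    exact .inl fun y hy w hw => congrArg Subtype.val (h3 ⟨w, hw⟩ (h3 a (.refl a) h1 _)
      (h3 b h1.symm (.refl b) _) ⟨y, hy⟩)
  · obtain ⟨h1, h2⟩ := q8 D e
    refine .inr ⟨D.card, a ^ 2, pow_mem_phi (hG.to_subgroup R) a.2, fun e => D.z_ne_one (Subtype.ext e),
      congrArg Subtype.val D.z_sq, fun t ht => ?_, fun y hy w hw => ?_,
      fun e => D.not_commute D.notMem (Subtype.ext (e _ b.2 _ a.2))⟩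
    · simpa [Subtype.ext_iff] using h1 ⟨t, ht⟩
    · exact (h2 ⟨y, hy⟩ ⟨w, hw⟩).imp (congrArg Subtype.val) (congrArg Subtype.val)

theorem pow_eq_one (I : Inv Q s σ R) (hi : (frattini R).index ≤ 2 ^ 2)
    (hc : ∀ y ∈ R, ∀ w ∈ R, y * w = w * y) {y : G} (hy : y ∈ R) (h1 : y ∉ phi R) {n : ℕ}
    (e : y ^ n = 1) {w : G} (hw : w ∈ R) : w ^ n = 1 :=
  (h.gen hG I hi hy h1 (K := torsionIn n R ⟨⟨fun a b => Subtype.ext (hc _ a.2 _ b.2)⟩⟩) ⟨hy, e⟩
    ⟨I.sig y hy, by rw [← (mulOn_af σ).map_pow (I.le hy), e, (mulOn_af σ).map_one]⟩ hw).2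

theorem caseA (hm : IsMetacyclic Q) :
    IsMetacyclic G ∨ PRankLE 2 2 G ∧ IsCyclic (commutator G) := by
  have I := h.inv_top
  have hQ := hG.to_subgroup Q
  have hi := index_frattini_le_of_isMetacyclic hQ hm
  obtain ⟨y, hy, hu⟩ := h.exists_y hG I
  have hsN : s ∈ normalizer (Q : Set G) := mem_normalizer_of_finite h.sn
  have hyφ : y ∉ phi Q := fun e => hu (mul_mem (inv_mem e) (conj_mem_phi hsN e))
  have hC : (∀ q ∈ Q, q * y * q⁻¹ ∈ zpowers y) → centralizer {y} ≤ Q := fun h1 =>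
    h.le_of_normalized hG (fun q hq c hc => by
      obtain ⟨k, hk⟩ := h1 q⁻¹ (inv_mem hq)
      have h2 := ((show Commute c y from mem_centralizer_singleton_iff.1 hc).zpow_right k).eq
      rw [show y ^ k = _ from hk] at h2
      rw [mem_centralizer_singleton_iff]
      calc q * c * q⁻¹ * y = q * (c * (q⁻¹ * y * q⁻¹⁻¹)) * q⁻¹ := by group
        _ = _ := by rw [h2]; group) fun q hq e => hu (by
      have h2 := conj_mem_phi hsN (commutator_mem_phi hQ hq (inv_mem hy))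
      rwa [show s * ⁅q, y⁻¹⁆ * s⁻¹ = (s * q * y * (s * q)⁻¹)⁻¹ * (s * y * s⁻¹) by
        rw [commutatorElement_def]; group, mem_centralizer_singleton_iff.1 e, mul_inv_cancel_right] at h2)
  have hlt : Q < ⊤ := lt_top_iff_ne_top.2 fun e => h.s_not (e ▸ mem_top s)
  have hd : centralizer {y} ≤ Q → Nat.card (centralizer ({y} : Set G)) ≤ 4 → IsMetacyclic G :=
    fun h1 h2 => by
    have h3 := mul_card_le_of_lt hG hlt
    have h4 := mul_card_le_of_lt hG (bot_lt_iff_ne_bot.2 fun e : Q = ⊥ =>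
      hyφ (mem_bot.1 (e ▸ hy) ▸ one_mem _))
    rw [card_top] at h3
    rw [card_bot] at h4
    obtain ⟨m, a, b, D⟩ := H3.exists_dsq_of_card_centralizer hG (fun e => h.s_not (h1
      (mem_centralizer_singleton_iff.2 (mul_comm' s y))))
      (h2.antisymm (sq_le_card_centralizer hG (by omega) y))
    exact H19.MC.isMetacyclic ⟨D.normal, fun g => (D.eq_zpow_or g).elim
      (fun ⟨i, e⟩ => ⟨i, 0, by simpa using e⟩) fun ⟨i, e⟩ => ⟨i, 1, by simpa using e⟩⟩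
  have hc4 : ∀ T ≤ Q, (∀ t ∈ T, t ^ 2 = 1) → Nat.card T ≤ 4 := fun T h1 h2 => by
    simpa using relIndex_le_of_isMetacyclic hm h1 (B := ⊥) (by simp) two_pos h2
  have hsy := h.sn y hy
  have huQ := mul_mem (inv_mem hy) hsy
  rcases h.hq hG I hm with hc | ⟨h8, z, hz, -, -, h2, h3, hna⟩
  swap
  · have h4 : y ^ 2 = z := ((h2 y hy).resolve_left fun e => hyφ (e ▸ one_mem _)).resolve_left
      fun e => hyφ (e ▸ hz)
    have h5 := hC fun q hq => by
      rw [show q * y * q⁻¹ = ⁅q, y⁆ * y by rw [commutatorElement_def]; group]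
      refine mul_mem ?_ (mem_zpowers y)
      rcases h3 q hq y hy with e | e <;> rw [e]
      exacts [one_mem _, h4 ▸ pow_mem (mem_zpowers y) 2]
    refine .inl (hd h5 ?_)
    have h6 := mul_card_le_of_lt hG (lt_of_le_of_ne h5 fun e => hna fun a ha b hb => ?_)
    · omega
    have h7 : ∀ c ∈ Q, Commute c (af σ y) → Q ≤ centralizer {c} := fun c hc e' =>
      h.gen hG I hi hy hyφ (mem_centralizer_singleton_iff.2
        (mem_centralizer_singleton_iff.1 (e.ge hc)).symm) (mem_centralizer_singleton_iff.2 e'.eq.symm)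
    exact mem_centralizer_singleton_iff.1 (h7 b hb (mem_centralizer_singleton_iff.1
      (h7 _ (I.sig y hy) (.refl _) hb)) ha)
  have hC' := hC fun q hq => by rw [hc q hq y hy, mul_inv_cancel_right]; exact mem_zpowers y
  have hpw : ∀ n : ℕ, ∀ e : G, s⁻¹ * e ∈ Q → Commute e (y ^ n) → (y⁻¹ * (s * y * s⁻¹)) ^ n = 1 :=
    fun n e h1 h2 => by
    have h3 : Commute s (y ^ n) := by
      simpa using h2.mul_left (Commute.inv_left (hc _ h1 _ (pow_mem hy n)))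
    rw [(show Commute _ _ from hc _ (inv_mem hy) _ hsy).mul_pow, conj_pow, h3.eq]
    simp
  by_cases h2 : (y⁻¹ * (s * y * s⁻¹)) ^ 2 = 1
  · exact .inl (hd hC' (hc4 _ hC' fun t ht => h.pow_eq_one hG I hi hc huQ hu h2 (hC' ht)))
  have hN : ∀ n ∈ normalizer (Q : Set G), n ∈ Q ∨ s⁻¹ * n ∈ Q := fun n hn =>
    h.nor n fun y hy => (mem_normalizer_iff.1 hn y).1 hy
  have htop : normalizer (Q : Set G) = ⊤ := by
    by_contra hne
    obtain ⟨t, -, ht, ht'⟩ := exists_mem_normalizer_not_mem (hG.to_subgroup ⊤) (lt_top_iff_ne_top.2 hne)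
    obtain ⟨q, hq, e⟩ : ∃ q ∈ Q, t * q * t⁻¹ ∉ Q := by
      by_contra! h3; exact ht' (mem_normalizer_of_finite h3)
    have h3 := (mem_normalizer_iff.1 (inv_mem ht) y).1 (le_normalizer hy)
    have h4 : (t⁻¹ * y * t⁻¹⁻¹) ^ 2 ∈ Q := (hN _ h3).elim (fun e => pow_mem e 2) fun e =>
      (hN _ (pow_mem h3 2)).elim id fun e' => pow_mem (by
        simpa [pow_two, mul_assoc] using mul_mem (inv_mem e) e') 2
    refine h2 (hpw 2 _ ((hN _ ((mem_normalizer_iff.1 ht q).1 (le_normalizer hq))).resolve_left e) ?_)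
    have h5 := hc _ hq _ h4
    rw [conj_pow] at h5
    calc t * q * t⁻¹ * y ^ 2 = t * (q * (t⁻¹ * y ^ 2 * t⁻¹⁻¹)) * t⁻¹ := by group
      _ = _ := by rw [h5]; group
  have hQi : Q.index = 2 := index_eq_two_iff_exists_notMem_and'.2 ⟨s⁻¹, mt inv_mem_iff.1 h.s_not,
    fun b => (hN b (htop ▸ mem_top b)).symm⟩
  refine .inr ⟨fun A hA hA2 => ?_, ?_⟩
  · by_cases hAQ : A ≤ Q
    · exact hc4 A hAQ hA2
    obtain ⟨e, he, he'⟩ := SetLike.not_le_iff_exists.1 hAQ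
    obtain ⟨k, h3, h4⟩ := exists_pow_not_mem_pow_mem hG (N := ⊥) (x := y⁻¹ * (s * y * s⁻¹))
      (fun e => h2 (by rw [mem_bot.1 e, one_pow]))
    rw [mem_bot, ← pow_mul] at h4
    have h5 : Q ⊓ A < torsionIn 2 Q ⟨⟨fun a b => Subtype.ext (hc _ a.2 _ b.2)⟩⟩ :=
      lt_of_le_not_ge (fun t ht => ⟨ht.1, hA2 t ht.2⟩) fun h5 => h3 (hpw _ e ((hN e (htop ▸ mem_top e)).resolve_left
        he') (setLike_mul_comm he (h5 ⟨pow_mem hy _, by
          rw [← pow_mul, h.pow_eq_one hG I hi hc huQ hu h4 hy]⟩).2))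
    have h6 := (mul_card_le_of_lt hG h5).trans (hc4 _ (fun _ ht => ht.1) fun _ ht => ht.2)
    have h7 := relIndex_mul_card_le (inf_le_right : Q ⊓ A ≤ A)
    have h8 := relIndex_le_of_le_right (H := Q) (le_top : A ≤ ⊤) (by rw [relIndex_top_right]; omega)
    rw [inf_relIndex_right] at h7
    rw [relIndex_top_right, hQi] at h8
    nlinarith
  · have h3 : ∀ L : Subgroup G, y⁻¹ ∈ L → s ∈ L → L = ⊤ := fun L h1 h3 => by
      have h4 : Q ≤ L := le_of_two hG hi hy huQ hyφ hu (fun e => hyφ (by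
        simpa [mul_assoc] using conj_mem_phi (inv_mem hsN) e)) (inv_mem_iff.1 h1)
        (mul_mem h1 (mul_mem (mul_mem h3 (inv_mem_iff.1 h1)) (inv_mem h3)))
      exact (eq_top_iff' _).2 fun g => (hN g (htop ▸ mem_top g)).elim (fun e => h4 e) fun e => by
        simpa using mul_mem h3 (h4 e)
    have h4 : ⁅y⁻¹, s⁆ = y⁻¹ * (s * y * s⁻¹) := by rw [commutatorElement_def]; group
    have h5 : s * s ∈ Q := (mul_mem_iff_of_index_two hQi).2 Iff.rfl
    haveI : (zpowers ⁅y⁻¹, s⁆).Normal := normalizer_eq_top_iff.1 (h3 _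
      (conj_mem_normalizer_zpowers (by
        rw [h4, hc _ (inv_mem hy) _ huQ, mul_inv_cancel_right]; exact mem_zpowers _))
      (conj_mem_normalizer_zpowers (by
        rw [show s * ⁅y⁻¹, s⁆ * s⁻¹ = (s * y * s⁻¹)⁻¹ * (s * s * y * (s * s)⁻¹) by rw [h4]; group,
          hc _ h5 y hy, mul_inv_cancel_right, ← inv_mem_iff, h4]
        simp)))
    exact isCyclic_of_le (comm_le h3 (mem_zpowers _))

end LD

end H8.BC
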