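import Cfsg.Agent.H8.BCBD
import Cfsg.Agent.H9.Alperin
import Cfsg.Agent.H3.NonCyclic

/-! Bicyclic 2-groups with noncyclic derived subgroup. -/

set_option autoImplicit false

universe u

namespace H8.BC

open Subgroup Cfsg H9 H92
open scoped commutatorElement

variable {G : Type u} [Group G]

theorem eq_of_mem_zpowers {t a : G} (h : t ^ 2 = 1) (ha : a ∈ zpowers t) : a = 1 ∨ a = t := by
  obtain ⟨i, rfl⟩ := ha
  obtain ⟨k, rfl | rfl⟩ := Int.even_or_odd' i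
  · exact .inl (by simp [zpow_mul, zpow_ofNat, h])
  · exact .inr (by simp [zpow_add, zpow_mul, zpow_ofNat, h])

variable [Finite G]

theorem four_le (hG : IsPGroup 2 G) {K : Subgroup G} {a b : G} (ha : a ∈ K) (hb : b ∈ K) (h1 : a ≠ 1)
    (h2 : b ∉ zpowers a) : 4 ≤ Nat.card K := by
  have h3 := mul_card_le_of_lt hG (bot_lt_iff_ne_bot.2 (zpowers_ne_bot.2 h1))
  have h4 := mul_card_le_of_lt hG (lt_of_le_not_ge (zpowers_le.2 ha) fun e => h2 (e hb))
  rw [card_bot] at h3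
  omega

theorem four_le_of_comm (hG : IsPGroup 2 G) {T K : Subgroup G} (hc : ∀ a ∈ T, ∀ b ∈ T, a * b = b * a)
    (hn : ¬ IsCyclic T) (h : ∀ t ∈ T, t ^ 2 = 1 → t ∈ K) : 4 ≤ Nat.card K := by
  haveI : IsMulCommutative T := ⟨⟨fun a b => Subtype.ext (hc _ a.2 _ b.2)⟩⟩
  obtain ⟨x, y, h1, h2, h3⟩ := H3.exists_pair_of_comm_pgroup (hG.to_subgroup T) hn
  refine four_le hG (h x x.2 (congrArg Subtype.val (h1 ▸ pow_orderOf_eq_one x)))
    (h y y.2 (congrArg Subtype.val (h2 ▸ pow_orderOf_eq_one y))) (fun e => ?_)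
    fun ⟨k, e⟩ => h3 ⟨k, Subtype.ext e⟩
  rw [show x = 1 from Subtype.ext e, orderOf_one] at h1
  omega

theorem comm_mem_of_frattini (hG : IsPGroup 2 G) {N K : Subgroup G} [N.Normal] [K.Normal]
    (h : N.relIndex K ≤ 2 ^ 2) {a k : G} (ha : a ∈ frattini G) (hk : k ∈ K) : ⁅a, k⁆ ∈ N := by
  have hs := QuotientGroup.mk'_surjective N
  have h1 := hG.to_quotient N
  haveI := (inferInstance : K.Normal).map _ hs
  obtain ⟨n, hn⟩ := IsPGroup.iff_card.1 (h1.to_subgroup (K.map (QuotientGroup.mk' N)))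
  have h2 := index_centralizer_le_pow h1 n _ hn
  rw [← relIndex_ker, QuotientGroup.ker_mk'] at hn
  have h3 : n ≤ 2 := (Nat.pow_le_pow_iff_right (by decide)).1 (hn ▸ h)
  rw [← index_comap_of_surjective _ hs] at h2
  have h4 : frattini G ≤ (centralizer (K.map (QuotientGroup.mk' N) : Set (G ⧸ N))).comap
      (QuotientGroup.mk' N) := by
    generalize comap (QuotientGroup.mk' N) _ = C at h2
    have h5 := index_ne_zero_of_finite (H := C)
    have h6 : C.index = 1 ∨ C.index = 2 := by interval_cases n <;> simp at h2 <;> omega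
    rcases h6 with e | e
    · rw [index_eq_one.1 e]; exact le_top
    · exact frattini_le_coatom (H3.isCoatom_of_index_prime (e ▸ Nat.prime_two))
  rw [← QuotientGroup.eq_one_iff, ← QuotientGroup.mk'_apply, map_commutatorElement,
    commutatorElement_eq_one_iff_mul_comm]
  exact (h4 ha _ ⟨k, hk, rfl⟩).symm

omit [Finite G] in
theorem act_comm (h : ∀ a ∈ commutator G, ∀ b ∈ commutator G, a * b = b * a) (g b : G) {a : G}
    (ha : a ∈ commutator G) : g * b * g⁻¹ * a * (g * b * g⁻¹)⁻¹ = b * a * b⁻¹ := by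
  have h1 := h _ (commutatorElement_mem_commutator g b) _
    ((inferInstance : (commutator G).Normal).conj_mem a ha b)
  calc _ = ⁅g, b⁆ * (b * a * b⁻¹) * ⁅g, b⁆⁻¹ := by rw [commutatorElement_def]; group
    _ = _ := by rw [h1, mul_inv_cancel_right]

namespace BD

variable {M₁ M₂ M₃ : Subgroup G} (h : BD M₁ M₂ M₃)

/-- The involutions of the derived subgroup. -/
def W : Subgroup G := torsionIn 2 (commutator G) ⟨⟨fun a b => Subtype.ext (h.ab _ a.2 _ b.2)⟩⟩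

omit [Finite G] in
instance : h.W.Normal := torsionIn_normal _ _ _

include h

omit [Finite G] in
theorem card4 {T : Subgroup G} (h1 : T ≤ M₁) (h2 : ∀ t ∈ T, t ^ 2 = 1) : Nat.card T ≤ 4 := by
  simpa using relIndex_le_of_isMetacyclic h.mc1 h1 (B := ⊥) (by simp) two_pos h2

variable (hG : IsPGroup 2 G)
include hG

theorem A1 : commutator G ≤ M₁ := fun _ e => (h.mem_phi.1 (commutator_le_frattini hG e)).1

theorem W_le : Nat.card h.W ≤ 4 := h.card4 (fun _ e => h.A1 hG e.1) fun _ e => e.2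

theorem W_comm {a w : G} (ha : a ∈ frattini G) (hw : w ∈ h.W) : Commute a w :=
  commutatorElement_eq_one_iff_commute.1 (comm_mem_of_frattini hG (N := ⊥)
    (by simpa using h.W_le hG) ha hw)

theorem W_comm3 {b g w : G} (h1 : b ∈ M₃) (h2 : b ∉ M₁) (hw : w ∈ h.W) (hb : Commute b w)
    (hg : g ∈ M₃) : Commute g w := by
  by_cases h3 : g ∈ M₁
  · exact h.W_comm hG (h.mem_phi.2 ⟨h3, hg⟩) hw
  · simpa using hb.inv_left.mul_left (h.W_comm hG (h.mem_phi.2 ⟨(mul_mem_iff_of_index_two h.i1).2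
      (iff_of_false h2 h3), mul_mem h1 hg⟩) hw)

theorem W_uniq {K : Subgroup G} (hK : ¬ h.W ≤ K) {t t' : G} (h1 : t ∈ h.W) (h2 : t ∈ K) (h3 : t ≠ 1)
    (h4 : t' ∈ h.W) (h5 : t' ∈ K) (h6 : t' ≠ 1) : t' = t := by
  by_contra e
  have h7 := four_le hG (K := h.W ⊓ K) ⟨h1, h2⟩ ⟨h4, h5⟩ h3 fun e' =>
    (eq_of_mem_zpowers h1.2 e').elim h6 e
  have h8 := mul_card_le_of_lt hG (inf_lt_left.2 hK)
  have := h.W_le hG
  omega

variable (hA : ¬ IsCyclic (commutator G))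
include hA

theorem W_ge : 4 ≤ Nat.card h.W := four_le_of_comm hG h.ab hA fun _ h1 h2 => ⟨h1, h2⟩

theorem mem_W {t : G} (h1 : t ∈ M₁) (h2 : t ^ 2 = 1) : t ∈ h.W := by
  have h3 : t ∈ frattini G := h.mem_phi.2 ⟨h1, by_contra fun e => h.nsq t e (h2 ▸ one_mem _)⟩
  have h4 := h.card4 (T := h.W ⊔ zpowers t) (sup_le (fun _ e => h.A1 hG e.1) (zpowers_le.2 h1))
    fun a ha => by
      obtain ⟨w, hw, k, rfl⟩ := mem_sup_zpowers.1 ha
      rw [((h.W_comm hG h3 hw).symm.zpow_right k).mul_pow, hw.2, ← zpow_natCast, ← zpow_mul, mul_comm k,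
        zpow_mul, zpow_natCast, h2, one_zpow, one_mul]
  exact eq_of_le_of_card_ge le_sup_left (h4.trans (h.W_ge hG hA)) ▸ mem_sup_right (mem_zpowers t)

theorem delta_onto {b : G} (h1 : b ∈ M₃) (h2 : b ∉ M₁) (hz : ∀ g, g * b ^ 2 * g⁻¹ = b ^ 2) :
    (∀ a ∈ commutator G, b * a * b⁻¹ = a⁻¹) ∧ ∀ w ∈ commutator G, ∃ g : G, ⁅g, b⁆ = w := by
  obtain ⟨x, hx⟩ := h.ex3
  have hn : (commutator G).Normal := inferInstance
  have hg : ∀ L : Subgroup G, x ∈ L → b ∈ L → L = ⊤ := fun L h3 h4 => h.top_of hG h1 h2 hx L h4 h3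
  let I : Subgroup G :=
    { carrier := {a | a ∈ commutator G ∧ b * a * b⁻¹ = a⁻¹}
      one_mem' := ⟨one_mem _, by simp⟩
      mul_mem' := fun {a c} ha hc => ⟨mul_mem ha.1 hc.1, by
        rw [← conj_mul, ha.2, hc.2, h.ab _ ha.1 _ hc.1, mul_inv_rev]⟩
      inv_mem' := fun {a} ha => ⟨inv_mem ha.1, by rw [← conj_inv, ha.2]⟩ }
  haveI : I.Normal := ⟨fun a ha g => ⟨hn.conj_mem a ha.1 g, by
    rw [← act_comm h.ab g b (hn.conj_mem a ha.1 g), show (g * a * g⁻¹)⁻¹ = g * a⁻¹ * g⁻¹ by group,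
      ← ha.2]; group⟩⟩
  have hI : ∀ a ∈ commutator G, b * a * b⁻¹ = a⁻¹ := fun a ha =>
    (comm_le hg (K := I) ⟨commutatorElement_mem_commutator x b, by
      calc b * ⁅x, b⁆ * b⁻¹ = ⁅x, b⁆⁻¹ * (x * b ^ 2 * x⁻¹) * (b ^ 2)⁻¹ := by
            rw [commutatorElement_def, pow_two]; group
        _ = _ := by rw [hz, mul_inv_cancel_right]⟩ ha).2
  refine ⟨hI, fun w hw => ?_⟩
  have hAp := hG.to_subgroup (commutator G)
  haveI hΦ : (H9.phi (commutator G)).Normal := ⟨fun a ha g =>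
    conj_mem_phi (normalizer_eq_top_iff.2 hn ▸ mem_top g) ha⟩
  have hi := index_frattini_le_of_isMetacyclic hAp (mc_of_le h.mc1 (h.A1 hG))
  have key : ∀ g : G, ⁅g, b⁆⁻¹ * w ∈ H9.phi (commutator G) → ∃ g : G, ⁅g, b⁆ = w := fun g e => by
    obtain ⟨a, ha⟩ := exists_pow_eq_of_mem_frattini (p := 2) (fun a c : commutator G =>
      Subtype.ext (h.ab _ a.2 _ c.2)) ((H9.mem_phi (phi_le _ e)).1 e)
    have h3 : (a : G) ^ 2 = ⁅g, b⁆⁻¹ * w := congrArg Subtype.val ha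
    refine ⟨a * g, ?_⟩
    calc ⁅a * g, b⁆ = a * ⁅g, b⁆ * (b * (a : G)⁻¹ * b⁻¹) := by simp only [commutatorElement_def]; group
      _ = ⁅g, b⁆ * a ^ 2 := by
        rw [hI _ (inv_mem a.2), h.ab _ a.2 _ (commutatorElement_mem_commutator g b), pow_two]; group
      _ = w := by rw [h3]; group
  have hv := commutatorElement_mem_commutator x b
  have hv' := hn.conj_mem _ hv x
  have hL : x * ⁅x, b⁆ * x⁻¹ ∉ H9.phi (commutator G) ⊔ zpowers ⁅x, b⁆ := fun e => by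
    have h3 : ∀ g, g * ⁅x, b⁆ * g⁻¹ ∈ H9.phi (commutator G) ⊔ zpowers ⁅x, b⁆ →
        g ∈ normalizer ((H9.phi (commutator G) ⊔ zpowers ⁅x, b⁆ : Subgroup G) : Set G) := fun g e =>
      mem_normalizer_of_finite fun a ha => by
        obtain ⟨c, hc, k, rfl⟩ := mem_sup_zpowers.1 ha
        rw [← conj_mul, ← conj_zpow]
        exact mul_mem (mem_sup_left (hΦ.conj_mem c hc g)) (zpow_mem e k)
    haveI := normalizer_eq_top_iff.1 (hg _ (h3 x e) (h3 b (by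
      rw [hI _ hv]; exact inv_mem (mem_sup_right (mem_zpowers _)))))
    have h4 := comm_le hg (mem_sup_right (mem_zpowers _) : _ ∈ H9.phi (commutator G) ⊔ _)
    refine hA (isCyclic_iff_exists_zpowers_eq_top.2 ⟨⟨_, hv⟩, frattini_nongenerating
      ((eq_top_iff' _).2 fun a => ?_)⟩)
    obtain ⟨c, hc, k, e⟩ := mem_sup_zpowers.1 (h4 a.2)
    rw [show a = ⟨c, phi_le _ hc⟩ * ⟨_, hv⟩ ^ k from Subtype.ext e]
    exact mul_mem (mem_sup_right ((H9.mem_phi _).1 hc)) (mem_sup_left (zpow_mem (mem_zpowers _) k))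
  rcases four (fun y hy z hz => commutator_mem_phi hAp hy hz) (fun y hy => pow_mem_phi hAp hy)
    (by rwa [relIndex_phi]) hv' hv hw (fun e => hL (mem_sup_left e))
    (fun e => hL (mem_sup_left (hΦ.conj_mem _ e x))) (fun e => hL (by
      simpa only [mul_inv_cancel_right] using mul_mem_sup e (inv_mem (mem_zpowers ⁅x, b⁆)))) with e | e | e | e
  · exact key 1 (by simpa using e)
  · have h3 := comm_mem_of_frattini hG (N := H9.phi (commutator G)) (by rwa [relIndex_phi])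
      (pow_mem_frattini hG x) hv
    have h4 := mul_mem (mul_mem (inv_mem (pow_mem_phi hAp hv))
      (hΦ.conj_mem _ (inv_mem h3) (x * ⁅x, b⁆ * x⁻¹)⁻¹)) e
    refine key (x ^ 3) ?_
    rw [show ⁅x ^ 3, b⁆ = ⁅x ^ 2, ⁅x, b⁆⁆ * (⁅x, b⁆ * (x * ⁅x, b⁆ * x⁻¹)) * ⁅x, b⁆ by
      simp only [commutatorElement_def, pow_succ]; group, h.ab _ hv _ hv']
    simpa only [pow_two, mul_assoc, mul_inv_rev, inv_inv, mul_inv_cancel_left, inv_mul_cancel_left] using h4
  · exact key x e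
  · exact key (x ^ 2) (by
      rwa [show ⁅x ^ 2, b⁆ = x * ⁅x, b⁆ * x⁻¹ * ⁅x, b⁆ by simp only [commutatorElement_def, pow_two]; group])

theorem exists_g {R : Subgroup G} {b u : G} (h1 : b ∈ M₃) (h2 : b ∉ M₁) (hu : u ∈ commutator G)
    (huR : u ∈ R) (e1 : u ^ 2 = b ^ 2) (e2 : b * u * b⁻¹ = u⁻¹) (hW : ¬ h.W ≤ R) :
    (∀ w ∈ h.W, Commute b w) ∧ ∃ g : G, ⁅g, b⁆ ∈ h.W ∧ ⁅g, b⁆ ∉ R ∧ ⁅g, u⁆ ∈ h.W := by
  have hn : (commutator G).Normal := inferInstance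
  by_cases hz : ∀ g, g * b ^ 2 * g⁻¹ = b ^ 2
  · obtain ⟨h3, h4⟩ := h.delta_onto hG hA h1 h2 hz
    obtain ⟨w, hw, hw'⟩ := SetLike.not_le_iff_exists.1 hW
    obtain ⟨g, rfl⟩ := h4 w hw.1
    refine ⟨fun w hw => mul_inv_eq_iff_eq_mul.1 ((h3 w hw.1).trans
      (inv_eq_of_mul_eq_one_right (pow_two w ▸ hw.2))), g, hw, hw',
      commutatorElement_mem_commutator g u, ?_⟩
    rw [commutatorElement_def, (show Commute _ _ from h.ab _ (hn.conj_mem u hu g) _ (inv_mem hu)).mul_pow,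
      conj_pow, inv_pow, e1, hz, mul_inv_cancel]
  obtain ⟨x, hx⟩ := not_forall.1 hz
  have h3 : b ^ 2 ∈ h.W := ⟨e1 ▸ pow_mem hu 2, by
    have : b * u ^ 2 * b⁻¹ = (u ^ 2)⁻¹ := by rw [← conj_pow, e2, inv_pow]
    rw [pow_two (b ^ 2), ← eq_inv_iff_mul_eq_one, ← e1, ← this, e1]; group⟩
  have h4 : x * b ^ 2 * x⁻¹ ∈ h.W := (inferInstance : h.W.Normal).conj_mem _ h3 x
  have h5 : b ^ 2 ≠ 1 := fun e => hx (by rw [e]; simp)
  have h6 : x * b ^ 2 * x⁻¹ ≠ 1 := mt conj_eq_one_iff.1 h5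
  have h7 : ⁅x * u * x⁻¹, b⁆ = x * b ^ 2 * x⁻¹ := by
    calc _ = x * u * x⁻¹ * (b * (x * u * x⁻¹) * b⁻¹)⁻¹ := by rw [commutatorElement_def]; group
      _ = x * (u * (b * u * b⁻¹)⁻¹) * x⁻¹ := by rw [← act_comm h.ab x b (hn.conj_mem u hu x)]; group
      _ = _ := by rw [e2, inv_inv, ← pow_two, e1]
  refine ⟨fun w hw => (mem_centralizer_singleton_iff.1 ((by_contra fun e => hx (h.W_uniq hG e h3
    (mem_centralizer_singleton_iff.2 (Commute.pow_self b 2)) h5 h4 (mem_centralizer_singleton_iff.2 ?_)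
    h6) : h.W ≤ centralizer {b}) hw)).symm, x * u * x⁻¹, h7 ▸ h4,
    fun e => hx (h.W_uniq hG hW h3 (e1 ▸ pow_mem huR 2) h5 h4 (h7 ▸ e) h6), ?_⟩
  · rw [eq_comm, ← mul_inv_eq_iff_eq_mul, ← act_comm h.ab x b h4.1]; group
  · rw [commutatorElement_eq_one_iff_mul_comm.2 (h.ab _ (hn.conj_mem u hu x) _ hu)]
    exact one_mem _

end BD

end H8.BC
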