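import Cfsg.Agent.H8.PSStar

/-! Conjugacy of monomial representations does not depend on the field. -/

set_option autoImplicit false

universe u

namespace H8.FE

open Module

section Hom

variable {k R : Type*} [Field k] [Ring R] [Algebra k R]
  {X Y Z W : Type*} [AddCommGroup X] [AddCommGroup Y] [AddCommGroup Z] [AddCommGroup W]
  [Module k X] [Module k Y] [Module k Z] [Module k W] [Module R X] [Module R Y] [Module R Z]
  [Module R W] [IsScalarTower k R X] [IsScalarTower k R Y] [IsScalarTower k R Z]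
  [IsScalarTower k R W]

theorem hd_congr (e : X ≃ₗ[R] Y) (f : Z ≃ₗ[R] W) :
    finrank k (X →ₗ[R] Z) = finrank k (Y →ₗ[R] W) :=
  LinearEquiv.finrank_eq (R := k)
    { toFun := fun g => f.toLinearMap ∘ₗ g ∘ₗ e.symm.toLinearMap
      invFun := fun g => f.symm.toLinearMap ∘ₗ g ∘ₗ e.toLinearMap
      map_add' := fun a b => by ext; simp
      map_smul' := fun c a => LinearMap.ext fun _ => f.toLinearMap.map_smul_of_tower _ _
      left_inv := fun a => by ext; simp
      right_inv := fun a => by ext; simp }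

variable [FiniteDimensional k X] [FiniteDimensional k Y] [FiniteDimensional k Z]
  [FiniteDimensional k W]

theorem hd_prod : finrank k (X × Y →ₗ[R] Z × W) = finrank k (X →ₗ[R] Z) + finrank k (Y →ₗ[R] Z) +
    (finrank k (X →ₗ[R] W) + finrank k (Y →ₗ[R] W)) := by
  rw [← (LinearMap.prodEquiv k).finrank_eq, finrank_prod, ← (LinearMap.coprodEquiv k).finrank_eq,
    ← (LinearMap.coprodEquiv k).finrank_eq, finrank_prod, finrank_prod]

end Hom

theorem iso_of_hd {k R : Type*} [Field k] [Ring R] [Algebra k R] [IsSemisimpleRing R] (d : ℕ) :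
    ∀ (M N : Type u) [AddCommGroup M] [AddCommGroup N] [Module k M] [Module k N] [Module R M]
      [Module R N] [IsScalarTower k R M] [IsScalarTower k R N] [FiniteDimensional k M]
      [FiniteDimensional k N], finrank k M + finrank k N < d →
      finrank k (M →ₗ[R] M) + finrank k (N →ₗ[R] N) =
        finrank k (M →ₗ[R] N) + finrank k (N →ₗ[R] M) → Nonempty (M ≃ₗ[R] N) := by
  induction d with
  | zero => intro M N _ _ _ _ _ _ _ _ _ _ h; omega
  | succ d ih =>
    have key : ∀ (M N : Type u) [AddCommGroup M] [AddCommGroup N] [Module k M] [Module k N]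
        [Module R M] [Module R N] [IsScalarTower k R M] [IsScalarTower k R N]
        [FiniteDimensional k M] [FiniteDimensional k N], finrank k M + finrank k N < d + 1 →
        finrank k (M →ₗ[R] M) + finrank k (N →ₗ[R] N) =
          finrank k (M →ₗ[R] N) + finrank k (N →ₗ[R] M) → ∀ f : M →ₗ[R] N, f ≠ 0 →
        Nonempty (M ≃ₗ[R] N) := by
      intro M N _ _ _ _ _ _ _ _ _ _ h1 h2 f hf
      obtain ⟨U, hU⟩ := exists_isCompl (LinearMap.ker f)
      obtain ⟨B, hB⟩ := exists_isCompl (LinearMap.range f)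
      let e1 : M ≃ₗ[R] LinearMap.ker f × LinearMap.range f :=
        (Submodule.prodEquivOfIsCompl _ _ hU).symm.trans ((LinearEquiv.refl R _).prodCongr
          ((Submodule.quotientEquivOfIsCompl _ _ hU).symm.trans f.quotKerEquivRange))
      let e2 : N ≃ₗ[R] B × LinearMap.range f := (Submodule.prodEquivOfIsCompl _ _ hB.symm).symm
      haveI : FiniteDimensional k (LinearMap.ker f) :=
        .of_injective ((LinearMap.ker f).subtype.restrictScalars k) Subtype.val_injective
      haveI : FiniteDimensional k (LinearMap.range f) :=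
        .of_injective ((LinearMap.range f).subtype.restrictScalars k) Subtype.val_injective
      haveI : FiniteDimensional k B :=
        .of_injective (B.subtype.restrictScalars k) Subtype.val_injective
      haveI : Nontrivial (LinearMap.range f) :=
        Submodule.nontrivial_iff_ne_bot.2 fun h => hf (LinearMap.range_eq_bot.1 h)
      have h3 : 0 < finrank k (LinearMap.range f) := finrank_pos
      rw [(e1.restrictScalars k).finrank_eq, (e2.restrictScalars k).finrank_eq, finrank_prod,
        finrank_prod] at h1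
      rw [hd_congr e1 e1, hd_congr e2 e2, hd_congr e1 e2, hd_congr e2 e1, hd_prod, hd_prod, hd_prod,
        hd_prod] at h2
      obtain ⟨e⟩ := ih (LinearMap.ker f) B (by omega) (by omega)
      exact ⟨e1.trans ((e.prodCongr (LinearEquiv.refl R _)).trans e2.symm)⟩
    intro M N _ _ _ _ _ _ _ _ _ _ h1 h2
    by_cases h0 : ∃ f : M →ₗ[R] N, f ≠ 0
    · exact key M N h1 h2 _ h0.choose_spec
    by_cases h4 : ∃ f : N →ₗ[R] M, f ≠ 0
    · exact ⟨(key N M (by omega) (by omega) _ h4.choose_spec).some.symm⟩
    have h3 : finrank k (M →ₗ[R] N) = 0 := finrank_zero_iff_forall_zero.2 (by simpa using h0)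
    have h5 : finrank k (N →ₗ[R] M) = 0 := finrank_zero_iff_forall_zero.2 (by simpa using h4)
    have a1 : (LinearMap.id : M →ₗ[R] M) = 0 :=
      finrank_zero_iff_forall_zero.1 (show finrank k (M →ₗ[R] M) = 0 by omega) _
    have a2 : (LinearMap.id : N →ₗ[R] N) = 0 :=
      finrank_zero_iff_forall_zero.1 (show finrank k (N →ₗ[R] N) = 0 by omega) _
    exact ⟨LinearEquiv.ofLinearMap 0 0 (by rw [a2]; simp) (by rw [a1]; simp)⟩

section Mat

variable {K P : Type*} [Field K] [Group P] {n : ℕ}

/-- Intertwining matrices. -/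
def iw (ρ σ : P →* Matrix (Fin n) (Fin n) K) : Submodule K (Matrix (Fin n) (Fin n) K) where
  carrier := {X | ∀ x, σ x * X = X * ρ x}
  add_mem' := fun ha hb x => by rw [mul_add, add_mul, ha x, hb x]
  zero_mem' := fun x => by simp
  smul_mem' := fun c a ha x => by rw [Matrix.mul_smul, Matrix.smul_mul, ha x]

/-- The representation on column vectors. -/
noncomputable def rp (ρ : P →* Matrix (Fin n) (Fin n) K) : Representation K P (Fin n → K) :=
  (Matrix.toLinAlgEquiv' (R := K) (n := Fin n)).toRingEquiv.toRingHom.toMonoidHom.comp ρ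

theorem rp_apply (ρ : P →* Matrix (Fin n) (Fin n) K) (x : P) : rp ρ x = Matrix.toLin' (ρ x) := rfl

/-- Intertwining matrices are module maps. -/
noncomputable def iwEquiv (ρ σ : P →* Matrix (Fin n) (Fin n) K) :
    iw ρ σ ≃ₗ[K] ((rp ρ).asModule →ₗ[MonoidAlgebra K P] (rp σ).asModule) :=
  LinearEquiv.trans (M₂ := (rp ρ).IntertwiningMap (rp σ))
    { toFun := fun X => ⟨Matrix.toLin' X.1, fun x => by
        rw [rp_apply, rp_apply, ← Matrix.toLin'_mul, ← Matrix.toLin'_mul, X.2 x]⟩
      invFun := fun f => ⟨LinearMap.toMatrix' f.toLinearMap, fun x => by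
        apply Matrix.toLin'.injective
        rw [Matrix.toLin'_mul, Matrix.toLin'_mul, Matrix.toLin'_toMatrix']
        exact (f.2 x).symm⟩
      map_add' := fun a b => by ext; simp
      map_smul' := fun c a => by ext; simp
      left_inv := fun a => by simp
      right_inv := fun a => by ext; simp }
    (Representation.IntertwiningMap.equivLinearMapAsModule (rp ρ) (rp σ))

theorem conj_of_iw [Finite P] (hP : (Nat.card P : K) ≠ 0) (ρ σ : P →* Matrix (Fin n) (Fin n) K)
    (h : finrank K (iw ρ ρ) + finrank K (iw σ σ) = finrank K (iw ρ σ) + finrank K (iw σ ρ)) :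
    ∃ g : GL (Fin n) K, ∀ x, σ x * g = g * ρ x := by
  haveI : NeZero (Nat.card P : K) := ⟨hP⟩
  simp only [(iwEquiv _ _).finrank_eq] at h
  obtain ⟨e⟩ := iso_of_hd (k := K) (R := MonoidAlgebra K P) _ (rp ρ).asModule (rp σ).asModule
    (Nat.lt_succ_self _) h
  let X := (iwEquiv ρ σ).symm e.toLinearMap
  let Y := (iwEquiv σ ρ).symm e.symm.toLinearMap
  have h1 : X.1 * Y.1 = 1 := by
    apply Matrix.toLin'.injective
    rw [Matrix.toLin'_mul, Matrix.toLin'_one]
    refine LinearMap.ext fun v => ?_
    have a : ∀ w, Matrix.toLin' X.1 w = e w := fun w =>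
      congrArg (· w) ((iwEquiv ρ σ).apply_symm_apply e.toLinearMap)
    have b : Matrix.toLin' Y.1 v = e.symm v :=
      congrArg (· v) ((iwEquiv σ ρ).apply_symm_apply e.symm.toLinearMap)
    exact ((congrArg _ b).trans (a _)).trans (e.apply_symm_apply v)
  exact ⟨Units.mkOfMulEqOne _ _ h1, X.2⟩

theorem iw_conj {ρ σ ρ' σ' : P →* Matrix (Fin n) (Fin n) K} (g h : GL (Fin n) K)
    (hg : ∀ x, ρ' x * g = g * ρ x) (hh : ∀ x, σ' x * h = h * σ x) :
    finrank K (iw ρ σ) ≤ finrank K (iw ρ' σ') := by
  let f : iw ρ σ →ₗ[K] iw ρ' σ' :=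
    { toFun := fun X => ⟨h * X.1 * (g⁻¹ : GL (Fin n) K), fun x => by
        rw [← Units.mul_left_inj g, mul_assoc _ (ρ' x), hg, ← mul_assoc, ← mul_assoc, hh,
          Units.inv_mul_cancel_right, mul_assoc (h * X.1), Units.inv_mul_cancel_left, mul_assoc,
          X.2 x, mul_assoc]⟩
      map_add' := fun a b => Subtype.ext (by simp [mul_add, add_mul])
      map_smul' := fun c a => Subtype.ext (by simp) }
  exact LinearMap.finrank_le_finrank_of_injective (f := f) fun a b e => Subtype.ext (by
    have := congrArg Subtype.val e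
    exact (Units.mul_right_inj h).1 ((Units.mul_left_inj g⁻¹).1 this))

end Mat

section Orb

variable {P I C : Type*} [Group P] [CommGroup C] (a : P →* Equiv.Perm I) (c : P → I → C)

/-- The number of orbits with trivial character of the stabilizer. -/
noncomputable def cnt : ℕ :=
  Nat.card {o : MulAction.orbitRel.Quotient a.range I // ∀ g, a g o.out = o.out → c g o.out = 1}

theorem finrank_fix {K : Type*} [Field K] [Finite I] (e : C →* Kˣ) (he : Function.Injective e)
    (hc : ∀ g h i, c (g * h) i = c g (a h i) * c h i) (V : Submodule K (I → K))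
    (hV : ∀ f, f ∈ V ↔ ∀ g i, f (a g i) = e (c g i) * f i) : finrank K V = cnt a c := by
  classical
  let Q := MulAction.orbitRel.Quotient a.range I
  let J := {o : Q // ∀ g, a g o.out = o.out → c g o.out = 1}
  let q : I → Q := Quotient.mk''
  have hq : ∀ i, ∃ g, a g (q i).out = i := fun i => by
    obtain ⟨⟨_, g, rfl⟩, h⟩ : i ∈ MulAction.orbit a.range (q i).out :=
      MulAction.orbitRel_apply.1 (Quotient.exact' (Quotient.out_eq' (q i)).symm)
    exact ⟨g, h⟩
  choose s hs using hq
  have hq' : ∀ g i, q (a g i) = q i := fun g i =>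
    Quotient.sound' (MulAction.orbitRel_apply.2 ⟨⟨_, g, rfl⟩, rfl⟩)
  have c1 : ∀ i, c 1 i = 1 := fun i => by simpa using hc 1 1 i
  let ev : V →ₗ[K] J → K :=
    { toFun := fun f o => f.1 o.1.out
      map_add' := fun _ _ => rfl
      map_smul' := fun _ _ => rfl }
  have e1 : Function.Bijective ev := by
    refine ⟨(injective_iff_map_eq_zero _).2 fun f hf => Subtype.ext (funext fun i => ?_),
      fun y => ?_⟩
    · rw [← hs i, (hV _).1 f.2]
      by_cases h : ∀ g, a g (q i).out = (q i).out → c g (q i).out = 1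
      · exact mul_eq_zero_of_right _ (congrFun hf ⟨_, h⟩)
      · push Not at h
        obtain ⟨g, h1, h2⟩ := h
        have h3 := (hV _).1 f.2 g (q i).out
        rw [h1] at h3
        refine mul_eq_zero_of_right _ (by_contra fun h4 => h2 (he ?_))
        rw [map_one, ← Units.val_eq_one]
        exact (left_eq_mul₀ h4).1 (h3.trans (mul_comm _ _))
    · let y' : Q → K := fun o => if h : ∀ g, a g o.out = o.out → c g o.out = 1 then y ⟨o, h⟩ else 0
      have key : ∀ (o : Q) g h, a g o.out = a h o.out →
          e (c g o.out) * y' o = e (c h o.out) * y' o := fun o g h e1 => by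
        by_cases h1 : ∀ g, a g o.out = o.out → c g o.out = 1
        · have h2 := h1 (h⁻¹ * g) (by rw [map_mul, Equiv.Perm.mul_apply, e1]; simp)
          have h3 := hc h⁻¹ h o.out
          rw [hc, e1] at h2
          rw [inv_mul_cancel, c1] at h3
          rw [mul_left_cancel (h2.trans h3)]
        · simp only [y', dif_neg h1, mul_zero]
      refine ⟨⟨fun i => e (c (s i) (q i).out) * y' (q i), (hV _).2 fun g i => ?_⟩,
        funext fun o => ?_⟩
      · have := hs (a g i)
        rw [hq'] at this ⊢
        rw [key _ _ (g * s i) (by rw [this, map_mul, Equiv.Perm.mul_apply, hs]), hc, hs, map_mul,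
          Units.val_mul, mul_assoc]
      · have h1 : q o.1.out = o.1 := Quotient.out_eq' _
        have := hs o.1.out
        change e (c (s o.1.out) (q o.1.out).out) * y' (q o.1.out) = y o
        rw [h1] at this ⊢
        rw [o.2 _ this]
        simp only [y', dif_pos o.2, map_one, Units.val_one, one_mul]
        rfl
  haveI := Fintype.ofFinite J
  rw [(LinearEquiv.ofBijective ev e1).finrank_eq, finrank_fintype_fun_eq_card,
    ← Nat.card_eq_fintype_card]
  rfl

end Orb

open H86 H8.PS

variable {K K' C P : Type*} [Field K] [Field K'] [CommGroup C] [Group P] {n : ℕ}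

/-- Monomial matrices with entries in the image of `e`. -/
def mo (e : C →* Kˣ) : PW (Fin n) C →* Matrix (Fin n) (Fin n) K :=
  mono.comp (SemidirectProduct.map (e.compLeft _) (MonoidHom.id _) fun _ => rfl)

theorem mo_apply (e : C →* Kˣ) (v : PW (Fin n) C) (i j : Fin n) :
    mo e v i j = if j = v.right⁻¹ i then (e (v.left i) : K) else 0 := rfl

theorem left_mul (v w : PW (Fin n) C) (i : Fin n) :
    (v * w).left ((v * w).right i) = v.left (v.right (w.right i)) * w.left (w.right i) := by
  change v.left _ * w.left (v.right⁻¹ (v.right (w.right i))) = _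
  rw [inv_ap]; rfl

theorem mo_mul (e : C →* Kˣ) (v : PW (Fin n) C) (X : Matrix (Fin n) (Fin n) K) (i j : Fin n) :
    (mo e v * X) i j = e (v.left i) * X (v.right⁻¹ i) j := by
  rw [Matrix.mul_apply, Finset.sum_eq_single (v.right⁻¹ i), mo_apply, if_pos rfl]
  · intro b _ hb; rw [mo_apply, if_neg hb, zero_mul]
  · simp

theorem mul_mo (e : C →* Kˣ) (v : PW (Fin n) C) (X : Matrix (Fin n) (Fin n) K) (i j : Fin n) :
    (X * mo e v) i j = X i (v.right j) * e (v.left (v.right j)) := by
  rw [Matrix.mul_apply, Finset.sum_eq_single (v.right j), mo_apply, if_pos (by simp)]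
  · intro b _ hb
    rw [mo_apply, if_neg fun h => hb (by simp [h]), mul_zero]
  · simp

/-- The action on positions of a matrix. -/
def act (ρ σ : P →* PW (Fin n) C) : P →* Equiv.Perm (Fin n × Fin n) where
  toFun g := Equiv.prodCongr (σ g).right (ρ g).right
  map_one' := by ext <;> simp
  map_mul' g h := by ext <;> simp

theorem finrank_iw (ρ σ : P →* PW (Fin n) C) (e : C →* Kˣ) (he : Function.Injective e) :
    finrank K (iw ((mo e).comp ρ) ((mo e).comp σ)) = cnt (act ρ σ) fun g i =>
      (σ g).left ((σ g).right i.1) * ((ρ g).left ((ρ g).right i.2))⁻¹ := by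
  let E : Matrix (Fin n) (Fin n) K ≃ₗ[K] (Fin n × Fin n → K) :=
    (Matrix.ofLinearEquiv K).symm.trans (LinearEquiv.curry K K _ _).symm
  rw [← E.finrank_map_eq]
  refine finrank_fix _ _ e he (fun g h i => ?_) _ fun f => ?_
  · rw [map_mul, map_mul, left_mul, left_mul, mul_inv]
    exact mul_mul_mul_comm _ _ _ _
  rw [Submodule.mem_map_equiv]
  refine forall_congr' fun g => ?_
  rw [← Matrix.ext_iff, Prod.forall, ← (σ g).right.forall_congr_right]
  refine forall_congr' fun i => forall_congr' fun j => ?_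
  rw [MonoidHom.comp_apply, MonoidHom.comp_apply, mo_mul, mul_mo, inv_ap, map_mul, map_inv,
    Units.val_mul, mul_right_comm, eq_comm, Units.eq_mul_inv_iff_mul_eq]
  rfl

theorem conj_transfer [Finite P] (hP : (Nat.card P : K') ≠ 0) (ρ σ : P →* PW (Fin n) C)
    {e : C →* Kˣ} (he : Function.Injective e) {e' : C →* K'ˣ} (he' : Function.Injective e')
    (g : GL (Fin n) K) (hg : ∀ x, mo e (σ x) * g = g * mo e (ρ x)) :
    ∃ g' : GL (Fin n) K', ∀ x, mo e' (σ x) * g' = g' * mo e' (ρ x) := by
  have hg' : ∀ x, mo e (ρ x) * (g⁻¹ : GL (Fin n) K) = (g⁻¹ : GL (Fin n) K) * mo e (σ x) :=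
    fun x => by rw [Units.eq_inv_mul_iff_mul_eq, ← mul_assoc, ← hg, Units.mul_inv_cancel_right]
  have h1 : ∀ (τ : P →* Matrix (Fin n) (Fin n) K) x,
      τ x * (1 : GL (Fin n) K) = (1 : GL (Fin n) K) * τ x := fun τ x => by simp
  refine conj_of_iw hP ((mo e').comp ρ) ((mo e').comp σ) ?_
  simp only [finrank_iw _ _ e' he', ← finrank_iw _ _ e he]
  have a1 := iw_conj (ρ := (mo e).comp ρ) (σ := (mo e).comp ρ) (ρ' := (mo e).comp ρ)
    (σ' := (mo e).comp σ) 1 g (h1 _) hg
  have a2 := iw_conj (ρ := (mo e).comp ρ) (σ := (mo e).comp σ) (ρ' := (mo e).comp σ)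
    (σ' := (mo e).comp σ) g 1 hg (h1 _)
  have a3 := iw_conj (ρ := (mo e).comp σ) (σ := (mo e).comp σ) (ρ' := (mo e).comp σ)
    (σ' := (mo e).comp ρ) 1 g⁻¹ (h1 _) hg'
  have a4 := iw_conj (ρ := (mo e).comp σ) (σ := (mo e).comp ρ) (ρ' := (mo e).comp ρ)
    (σ' := (mo e).comp ρ) g⁻¹ 1 hg' (h1 _)
  omega

end H8.FE
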