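import Cfsg.Agent.H8.FE1

/-! Hilbert 90 inside the commutative algebra generated by one matrix. -/

set_option autoImplicit false

namespace H8.FE

section Comm

variable {A : Type*} [CommRing A] [Finite A] (s : A →+* A) (hs : ∀ x, s (s x) = x) {θ : A}
  (hθ : s θ = -θ) (h2 : IsUnit (2 * θ))

theorem exists_idem (x : A) : ∃ N, 0 < N ∧ x ^ N * x ^ N = x ^ N := by
  obtain ⟨i, j, hij, e⟩ : ∃ i j : ℕ, i < j ∧ x ^ i = x ^ j := by
    obtain ⟨i, j, h, e⟩ := Finite.exists_ne_map_eq_of_infinite fun i : ℕ => x ^ i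
    rcases lt_or_gt_of_ne h with h | h
    exacts [⟨i, j, h, e⟩, ⟨j, i, h, e.symm⟩]
  obtain ⟨d, rfl⟩ := Nat.exists_eq_add_of_lt hij
  have key : ∀ t k, x ^ (i + k + (d + 1) * t) = x ^ (i + k) := fun t k => by
    induction t with
    | zero => simp
    | succ t ih =>
      rw [show i + k + (d + 1) * (t + 1) = i + d + 1 + (k + (d + 1) * t) by ring, pow_add, ← e,
        ← pow_add, ← add_assoc, ih]
  refine ⟨(d + 1) * (i + 1), by positivity, ?_⟩
  have := key (i + 1) (d * (i + 1) + 1)
  rwa [show i + (d * (i + 1) + 1) = (d + 1) * (i + 1) by ring, pow_add] at this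

include hs hθ h2

theorem h90 {u : A} (hu : u * s u = 1) : ∃ c : Aˣ, u * s c = c := by
  obtain ⟨N, hN, he⟩ := exists_idem (1 + u)
  set e := (1 + u) ^ N with hed
  have h1 : s e = s u ^ N * e := by
    rw [hed, map_pow, ← mul_pow, map_add, map_one, mul_add, mul_one, mul_comm (s u), hu, add_comm]
  have h3 : e = u ^ N * s e := by rw [h1, ← mul_assoc, ← mul_pow, hu, one_pow, one_mul]
  have h4 : s e * s e = s e := by rw [← map_mul, he]
  have h5 : s e = e := by
    have a : s e * e = s e := by rw [h1, mul_assoc, he]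
    have b : s e * e = e := by
      nth_rewrite 2 [h3]
      rw [mul_left_comm, h4, ← h3]
    exact a.symm.trans b
  have h6 : IsUnit (e * (1 + u) + (1 - e) * (θ * (1 - u))) := by
    by_contra h
    obtain ⟨m, hm, hc⟩ := exists_max_ideal_of_mem_nonunits h
    have hp := hm.isPrime
    rcases hp.mem_or_mem (show e * (1 - e) ∈ m by rw [mul_sub, he, mul_one, sub_self]; exact m.zero_mem)
      with h7 | h7
    · have h8 : 1 + u ∈ m := hp.mem_of_pow_mem _ h7
      refine hm.ne_top (m.eq_top_of_isUnit_mem ?_ h2)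
      have := m.add_mem (m.add_mem hc (m.mul_mem_left θ h8))
        (m.mul_mem_left (θ * (1 - u) - (1 + u)) h7)
      convert this using 1; ring
    · have h8 : 1 + u ∈ m := by
        have := m.add_mem hc (m.mul_mem_left (1 + u - θ * (1 - u)) h7)
        convert this using 1; ring
      refine hm.ne_top ((Ideal.eq_top_iff_one m).2 ?_)
      have := m.add_mem h7 (m.pow_mem_of_mem h8 N hN)
      rwa [← hed, sub_add_cancel] at this
  refine ⟨h6.unit, ?_⟩
  rw [IsUnit.unit_spec]
  simp only [map_add, map_mul, map_sub, map_one, h5, hθ]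
  linear_combination (e + (1 - e) * θ) * hu

theorem norm_surj {u : Aˣ} (hu : s u = u) : ∃ c : Aˣ, c * s c = u := by
  let t : Aˣ →* Aˣ := Units.map s.toMonoidHom
  have ht : ∀ x, t (t x) = x := fun x => Units.ext (hs x)
  let Nm : Aˣ →* Aˣ := MonoidHom.id _ * t
  let D : Aˣ →* Aˣ := MonoidHom.id _ / t
  have h1 : Nm.ker = D.range := by
    ext x
    refine ⟨fun hx => ?_, ?_⟩
    · obtain ⟨c, hc⟩ := h90 s hs hθ h2 (u := x) (congrArg Units.val hx)
      exact ⟨c, div_eq_iff_eq_mul.2 (Units.ext hc.symm)⟩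
    · rintro ⟨c, rfl⟩
      change c / t c * t (c / t c) = 1
      rw [map_div, ht, div_mul_div_cancel, div_self']
  have h3 : Nm.range ≤ D.ker := by
    rintro _ ⟨c, rfl⟩
    change c * t c / t (c * t c) = 1
    rw [map_mul, ht, mul_comm, div_self']
  have h4 : Nm.range = D.ker := Subgroup.eq_of_le_of_card_ge h3 (by
    have a := Nm.ker.card_mul_index
    have b := D.ker.card_mul_index
    rw [Subgroup.index_ker] at a b
    rw [h1, ← b, mul_comm] at a
    exact (Nat.eq_of_mul_eq_mul_right Nat.card_pos a).ge)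
  obtain ⟨c, hc⟩ : u ∈ Nm.range := h4 ▸ div_eq_one.2 (Units.ext hu.symm)
  exact ⟨c, congrArg Units.val hc⟩

end Comm

theorem h90_ring {K R : Type*} [Field K] [Ring R] [Algebra K R] [Finite R] (s : R →+ R)
    (s1 : s 1 = 1) (hs : ∀ x, s (s x) = x)
    (hm : (∀ x y, s (x * y) = s x * s y) ∨ ∀ x y, s (x * y) = s y * s x) {θ : K}
    (hθ : s (algebraMap K R θ) = -algebraMap K R θ) (h2 : 2 * θ ≠ 0) (h : Rˣ)
    (hh : s h = h ∨ s h = h⁻¹.1) :
    (h * s h = 1 → ∃ c : Rˣ, h * s c = c ∧ ∀ x : R, Commute x h → Commute x c) ∧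
    (s h = h → ∃ c : Rˣ, c * s c = h ∧ ∀ x : R, Commute x h → Commute x c) := by
  have hc : ∀ {x y}, Commute x y → Commute (s x) (s y) := fun {x y} e => by
    rcases hm with k | k
    · rw [Commute, SemiconjBy, ← k, ← k, e.eq]
    · rw [Commute, SemiconjBy, ← k, ← k, e.eq]
  let A := Subring.centralizer {x : R | Commute x h}
  have mA : ∀ {y : R}, y ∈ A ↔ ∀ x : R, Commute x h → Commute x y := Subring.mem_centralizer_iff
  have hA : h.1 ∈ A := mA.2 fun _ e => e
  have cA : ∀ x y : A, x * y = y * x := fun x y =>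
    Subtype.ext (mA.1 y.2 x (mA.1 x.2 h (Commute.refl _)).symm)
  letI : CommRing A := { (inferInstance : Ring A) with mul_comm := cA }
  have sA : ∀ y ∈ A, s y ∈ A := fun y hy => mA.2 fun x hx => by
    have := hc hx
    rw [← hs x]
    refine hc (mA.1 hy _ ?_)
    rcases hh with k | k
    · rwa [k] at this
    · rw [k] at this; exact (Commute.units_inv_right_iff).1 this
  let t : A →+* A :=
    { toFun := fun y => ⟨s y, sA _ y.2⟩
      map_one' := Subtype.ext s1
      map_zero' := Subtype.ext (map_zero s)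
      map_add' := fun x y => Subtype.ext (map_add s _ _)
      map_mul' := fun x y => by
        rcases hm with k | k
        · exact Subtype.ext (k _ _)
        · exact (Subtype.ext (k _ _)).trans (cA ⟨_, sA _ y.2⟩ ⟨_, sA _ x.2⟩) }
  have ht : ∀ x, t (t x) = x := fun x => Subtype.ext (hs _)
  have kA : ∀ a, algebraMap K R a ∈ A := fun a => mA.2 fun x _ => (Algebra.commutes a x).symm
  have a1 : t ⟨_, kA θ⟩ = -⟨_, kA θ⟩ := Subtype.ext hθ
  have a2 : IsUnit (2 * (⟨_, kA θ⟩ : A)) := .of_mul_eq_one ⟨_, kA (2 * θ)⁻¹⟩ (Subtype.ext (by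
    change 2 * algebraMap K R θ * algebraMap K R _ = 1
    rw [← map_ofNat (algebraMap K R) 2, ← map_mul, ← map_mul, mul_inv_cancel₀ h2, map_one]))
  refine ⟨fun e => ?_, fun e => ?_⟩
  · obtain ⟨c, k⟩ := h90 t ht a1 a2 (u := ⟨_, hA⟩) (Subtype.ext e)
    exact ⟨Units.map A.subtype.toMonoidHom c, congrArg Subtype.val k, mA.1 c.1.2⟩
  · have hA' : h⁻¹.1 ∈ A := mA.2 fun _ e => e.units_inv_right
    obtain ⟨c, k⟩ := norm_surj t ht a1 a2
      (u := ⟨⟨_, hA⟩, ⟨_, hA'⟩, Subtype.ext h.mul_inv, Subtype.ext h.inv_mul⟩) (Subtype.ext e)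
    exact ⟨Units.map A.subtype.toMonoidHom c, congrArg Subtype.val k, mA.1 c.1.2⟩

open Matrix H86 H8.PS

/-- A Frobenius map of `GL_n(K)` acting on the torus as the `s`-th power. -/
structure Fro (K : Type*) [Field K] (n : ℕ) (s : ℤ) where
  Φ : GL (Fin n) K →* GL (Fin n) K
  inv : ∀ g, Φ (Φ g) = g
  h90 : ∀ h, h * Φ h = 1 → ∃ c, h * Φ c = c ∧ ∀ x, Commute x h → Commute x c
  mono : ∀ v : PW (Fin n) Kˣ,
    Φ (mono.toHomUnits v) = mono.toHomUnits ⟨fun i => v.left i ^ s, v.right⟩
  det : ∀ g, GeneralLinearGroup.det (Φ g) = GeneralLinearGroup.det g ^ s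

variable {K : Type*} [Field K] [Finite K] (n : ℕ) (σ : K →+* K) {q : ℕ} (hσ : ∀ x, σ x = x ^ q)
  (hσσ : ∀ x, σ (σ x) = x) {θ : K} (hθ : σ θ = -θ) (h2 : 2 * θ ≠ 0)

/-- The linear case. -/
def froL : Fro K n q where
  Φ := GeneralLinearGroup.map σ
  inv g := by ext i j; exact hσσ _
  h90 h e := by
    have e' : h.1 * σ.mapMatrix h.1 = 1 := congrArg Units.val e
    obtain ⟨c, k1, k2⟩ := (h90_ring (K := K) (σ.mapMatrix (m := Fin n)).toAddMonoidHom
      (map_one σ.mapMatrix)
      (fun x => by ext; exact hσσ _) (.inl (map_mul σ.mapMatrix)) (θ := θ) (by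
        ext i j
        simp only [algebraMap_matrix_apply, Matrix.neg_apply]
        change σ (algebraMap K (Matrix _ _ K) θ i j) = _
        rw [algebraMap_matrix_apply]
        split_ifs <;> simp [hθ]) h2 h (.inr (Units.inv_eq_of_mul_eq_one_right e').symm)).1 e'
    exact ⟨c, Units.ext k1, fun x hx => Commute.units_of_val (k2 _ hx.units_val)⟩
  mono v := by
    ext i j
    change σ (mono v i j) = mono _ i j
    rw [mono_apply, mono_apply]
    split_ifs
    · simp [hσ]
    · exact map_zero σ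
  det g := Units.ext (by
    rw [zpow_natCast, Units.val_pow_eq_pow_val, ← hσ]
    exact (σ.map_det _).symm)

/-- The unitary case. -/
def froU : Fro K n (-q) where
  Φ :=
    { toFun := fun g => ⟨((g⁻¹).1.map σ)ᵀ, (g.1.map σ)ᵀ,
        by rw [← transpose_mul, ← Matrix.map_mul, Units.mul_inv]; simp,
        by rw [← transpose_mul, ← Matrix.map_mul, Units.inv_mul]; simp⟩
      map_one' := Units.ext (by simp)
      map_mul' := fun a b => Units.ext (by
        change (((a * b)⁻¹).1.map σ)ᵀ = ((a⁻¹).1.map σ)ᵀ * ((b⁻¹).1.map σ)ᵀ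
        rw [← transpose_mul, ← Matrix.map_mul, ← Units.val_mul, _root_.mul_inv_rev]) }
  inv g := by ext i j; exact hσσ _
  h90 h e := by
    have e' : (h.1.map σ)ᵀ = h.1 := (congrArg Units.val (eq_inv_of_mul_eq_one_left e)).symm
    obtain ⟨c, k1, k2⟩ := (h90_ring (K := K) (R := Matrix (Fin n) (Fin n) K)
      { toFun := fun x => (x.map σ)ᵀ, map_zero' := by simp
        map_add' := fun x y => by ext; simp } (by simp)
      (fun x => by ext; exact hσσ _) (.inr fun x y => by
        change ((x * y).map σ)ᵀ = (y.map σ)ᵀ * (x.map σ)ᵀ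
        rw [Matrix.map_mul, transpose_mul]) (θ := θ) (by
        ext i j
        simp only [algebraMap_matrix_apply, Matrix.neg_apply]
        change σ (algebraMap K (Matrix _ _ K) θ j i) = _
        rw [algebraMap_matrix_apply]
        by_cases k : i = j
        · simp [k, hθ]
        · simp [k, Ne.symm k]) h2 h (.inl e')).2 e'
    refine ⟨c, ?_, fun x hx => Commute.units_of_val (k2 _ hx.units_val)⟩
    rw [← eq_mul_inv_iff_mul_eq]
    exact Units.ext k1.symm
  mono v := by
    ext i j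
    change σ ((mono.toHomUnits v)⁻¹.1 j i) = mono _ i j
    rw [← map_inv]
    change σ (mono v⁻¹ j i) = _
    rw [mono_apply, mono_apply]
    by_cases k : j = v.right⁻¹ i
    · subst k
      rw [if_pos (by simp), if_pos rfl, hσ]
      change (((v.left (v.right (v.right⁻¹ i)))⁻¹ : Kˣ) : K) ^ q = _
      simp
    · rw [if_neg k, if_neg fun h => k (by simp [h]), map_zero]
  det g := Units.ext (by
    change ((g⁻¹.1.map σ)ᵀ).det = _
    rw [det_transpose, ← RingHom.mapMatrix_apply, ← σ.map_det, hσ]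
    simp)

end H8.FE
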