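import Cfsg.Agent.H16.Alperin
import Cfsg.Prelude.Def_FusionSystem

/-! Groups with the same 2-fusion system. -/

set_option autoImplicit false
set_option linter.dupNamespace false

namespace H8.FE

open Subgroup H7 H16

variable {T Γ Γ' Γ'' : Type*} [Group T] [Group Γ] [Group Γ'] [Group Γ'']

/-- The fusion induced by `G` along `ι` is induced by `G'` along `ι'`. -/
def FR (ι : T →* Γ) (G : Subgroup Γ) (ι' : T →* Γ') (G' : Subgroup Γ') : Prop :=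
  ∀ g ∈ G, ∃ g' ∈ G', ∀ x y, ι y = g * ι x * g⁻¹ → ι' y = g' * ι' x * g'⁻¹

theorem FR.trans {ι : T →* Γ} {G : Subgroup Γ} {ι' : T →* Γ'} {G' : Subgroup Γ'} {ι'' : T →* Γ''}
    {G'' : Subgroup Γ''} (h : FR ι G ι' G') (h' : FR ι' G' ι'' G'') : FR ι G ι'' G'' := fun g hg =>
  let ⟨g', a, b⟩ := h g hg
  let ⟨g'', c, d⟩ := h' g' a
  ⟨g'', c, fun x y e => d x y (b x y e)⟩

theorem le_of_syl_odd [Finite Γ] {X L P : Subgroup Γ} (hP : IsSylowIn 2 P L) (h1 : P ≤ X)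
    (h2 : ∀ y ∈ L, Odd (orderOf y) → y ∈ X) : L ≤ X := by
  rw [← relIndex_eq_one]
  by_contra h
  obtain ⟨p, hp, hd⟩ := Nat.exists_prime_and_dvd h
  haveI := Fact.mk hp
  by_cases e : p = 2
  · exact hP.not_dvd ((e ▸ hd).trans (relIndex_dvd_of_le_left L h1))
  obtain ⟨Q, hQ⟩ := exists_isSylowIn (p := p) L
  refine hQ.not_dvd (hd.trans (relIndex_dvd_of_le_left L fun y hy => h2 y (hQ.le hy) ?_))
  obtain ⟨k, hk⟩ := hQ.isPGroup ⟨y, hy⟩
  exact ((hp.odd_of_ne_two e).pow (n := k)).of_dvd_nat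
    (orderOf_dvd_of_pow_eq_one (congrArg Subtype.val hk))

theorem exists_odd_pow [Finite Γ'] (g : Γ') {m : ℕ} (hm : Odd m) :
    ∃ e, e ≡ 1 [MOD m] ∧ Odd (orderOf (g ^ e)) := by
  obtain ⟨a, u, hu, e⟩ := Nat.exists_eq_two_pow_mul_odd (orderOf_pos g).ne'
  obtain ⟨c, h1, h2⟩ := Nat.chineseRemainder ((Nat.coprime_two_right.2 hm).pow_right a) 1 0
  refine ⟨c, h1, hu.of_dvd_nat (orderOf_dvd_of_pow_eq_one ?_)⟩
  rw [← pow_mul, ← orderOf_dvd_iff_pow_eq_one, e]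
  exact Nat.mul_dvd_mul_right ((Nat.modEq_zero_iff_dvd).1 h2) u

theorem FR.sub [Finite Γ] [Finite Γ'] {ι : T →* Γ} {G N : Subgroup Γ} {ι' : T →* Γ'}
    {G' N' : Subgroup Γ'} (h : FR ι G ι' G') (hi : Function.Injective ι) (hN : N ≤ G)
    (T0 : Subgroup T) (hS : IsSylowIn 2 (T0.map ι) N) (h0 : T0.map ι' ≤ N')
    (ho : ∀ y ∈ G', Odd (orderOf y) → ∃ m ∈ N', ∀ t, m * ι' t * m⁻¹ = y * ι' t * y⁻¹) :
    FR (ι.comp T0.subtype) N (ι'.comp T0.subtype) N' := by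
  haveI : Fact (Nat.Prime 2) := ⟨Nat.prime_two⟩
  let Φ : Subgroup Γ → Γ → Prop := fun U g =>
    ∃ m ∈ N', ∀ x y, ι x ∈ U → ι y = g * ι x * g⁻¹ → ι' y = m * ι' x * m⁻¹
  have hmul : ∀ U g k, cj g U ≤ T0.map ι → Φ U g → Φ (cj g U) k → Φ U (k * g) := by
    rintro U g k hU ⟨m, hm, a⟩ ⟨m', hm', b⟩
    refine ⟨m' * m, mul_mem hm' hm, fun x y hx e => ?_⟩
    obtain ⟨w, -, hw⟩ := hU (conj_mem_conj_smul hx)
    rw [b w y (hw ▸ conj_mem_conj_smul hx) (by rw [e, hw]; group), a x w hx hw]; group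
  have hinv : ∀ U g, Φ U g → Φ (cj g U) g⁻¹ := by
    rintro U g ⟨m, hm, a⟩
    refine ⟨m⁻¹, inv_mem hm, fun x y hx e => ?_⟩
    rw [a y x (by rw [e, inv_inv]; exact mem_cj.1 hx) (by rw [e]; group)]; group
  have key := alperin_ind_extr hS Φ
    (fun U U' g hU _ _ _ ⟨m, hm, a⟩ => ⟨m, hm, fun x y hx => a x y (hU hx)⟩)
    (fun U g k _ _ _ hU _ => hmul U g k hU) (fun U g _ _ _ => hinv U g) 0 (fun U hU _ _ => by
      let X : Subgroup Γ :=
        { carrier := {g | g ∈ Nm U ∧ Φ U g}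
          one_mem' := ⟨one_mem _, 1, one_mem _, fun x y _ e => by
            rw [hi (show ι y = ι x by simpa using e)]; simp⟩
          mul_mem' := fun {a b} ha hb => ⟨mul_mem ha.1 hb.1, hmul U b a
            ((cj_eq_iff.2 hb.1).symm ▸ hU.le) hb.2 ((cj_eq_iff.2 hb.1).symm ▸ ha.2)⟩
          inv_mem' := fun {a} ha => ⟨inv_mem ha.1, by
            have := hinv U a ha.2; rwa [cj_eq_iff.2 ha.1] at this⟩ }
      refine fun g hg => (le_of_syl_odd (X := X) hU.syl ?_ ?_ hg).2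
      · rintro _ ⟨⟨t, ht, rfl⟩, h1⟩
        refine ⟨h1, ι' t, h0 ⟨t, ht, rfl⟩, fun x y _ e => ?_⟩
        rw [hi (show ι y = ι (t * x * t⁻¹) by simpa using e)]; simp
      intro y hy h1
      obtain ⟨g', a, b⟩ := h y (hN hy.1)
      have c : ∀ (k : ℕ) x w, ι x ∈ U → ι w = y ^ k * ι x * (y ^ k)⁻¹ →
          ι' w = g' ^ k * ι' x * (g' ^ k)⁻¹ := fun k => by
        induction k with
        | zero => intro x w _ e; rw [hi (show ι w = ι x by simpa using e)]; simp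
        | succ k ih =>
          intro x w hx e
          obtain ⟨v, -, hv⟩ := hU.le (conj_mem_of_mem_normalizer (pow_mem hy.2 k) hx)
          rw [b v w (by rw [e, hv]; group), ih x v hx hv]; group
      obtain ⟨e, e1, e2⟩ := exists_odd_pow g' h1
      obtain ⟨m, hm, d⟩ := ho _ (pow_mem a e) e2
      refine ⟨hy.2, m, hm, fun x w hx k => ?_⟩
      rw [d, c e x w hx (by rwa [pow_eq_pow_iff_modEq.2 e1, pow_one])])
  intro g hg
  obtain ⟨m, hm, a⟩ := key (T0.map ι ⊓ cj g⁻¹ (T0.map ι)) g inf_le_left hg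
    (cj_le_iff_le_cj.2 inf_le_right) (Nat.zero_le _)
  refine ⟨m, hm, fun x y e => a x y ⟨⟨x, x.2, rfl⟩, mem_cj.2 ⟨y, y.2, ?_⟩⟩ e⟩
  rw [inv_inv]; exact e

theorem FR.lift {H H' : Type*} [Group H] [Group H'] {j : H →* Γ} {j' : H' →* Γ'}
    (hj' : Function.Injective j') {ι : T →* H} {ι' : T →* H'}
    (h : FR (j.comp ι) j.range (j'.comp ι') j'.range) : FR ι ⊤ ι' ⊤ := fun g _ => by
  obtain ⟨_, ⟨g', rfl⟩, a⟩ := h _ ⟨g, rfl⟩
  exact ⟨g', trivial, fun x y e => hj' (by simpa using a x y (by simp [e]))⟩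

theorem FR.quot [Finite Γ] {ι : T →* Γ} {ι' : T →* Γ'} (h : FR ι ⊤ ι' ⊤)
    (hS : IsSylowIn 2 ι.range ⊤) (hZ : ∀ t, ι t ∈ center Γ → ι' t ∈ center Γ') :
    FR ((QuotientGroup.mk' (center Γ)).comp ι) ⊤ ((QuotientGroup.mk' (center Γ')).comp ι') ⊤ := by
  haveI : Fact (Nat.Prime 2) := ⟨Nat.prime_two⟩
  intro g _
  obtain ⟨g, rfl⟩ := QuotientGroup.mk'_surjective _ g
  obtain ⟨g', -, a⟩ := h g trivial
  refine ⟨QuotientGroup.mk' _ g', trivial, fun x y e => ?_⟩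
  obtain ⟨z, hz, k⟩ := (QuotientGroup.mk'_eq_mk' (center Γ)).1
    (show QuotientGroup.mk' _ (g * ι x * g⁻¹) = QuotientGroup.mk' _ (ι y) by simpa using e.symm)
  obtain ⟨t, rfl⟩ : z ∈ ι.range := by
    refine hS.le_of_le_normalizer (Q := zpowers z) ?_ le_top (fun s _ => ?_) (mem_zpowers z)
    · obtain ⟨i, hi⟩ := hS.isPGroup ⟨_, x, rfl⟩
      obtain ⟨j, hj⟩ := hS.isPGroup ⟨_, y, rfl⟩
      refine IsPGroup.of_card_dvd_pow (n := i + j) ?_
      have a1 : ι x ^ 2 ^ (i + j) = 1 := by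
        rw [pow_add, pow_mul, show ι x ^ 2 ^ i = 1 from congrArg Subtype.val hi, one_pow]
      have a2 : ι y ^ 2 ^ (i + j) = 1 := by
        rw [add_comm, pow_add, pow_mul, show ι y ^ 2 ^ j = 1 from congrArg Subtype.val hj, one_pow]
      rw [← k, Commute.mul_pow (mem_center_iff.1 hz _), conj_pow, a1] at a2
      rw [Nat.card_zpowers]
      exact orderOf_dvd_of_pow_eq_one (by simpa using a2)
    · exact centralizer_le_normalizer _ (mem_centralizer_iff.2 fun w hw =>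
        (mem_center_iff.1 (zpowers_le.2 hz hw) s).symm)
  have b := a x (y * t⁻¹) (by rw [map_mul, map_inv, ← k, mul_inv_cancel_right])
  rw [map_mul, map_inv, mul_inv_eq_iff_eq_mul] at b
  simp [b, (QuotientGroup.eq_one_iff _).2 (hZ t hz)]

/-- `H` and `H'` have isomorphic 2-fusion systems. -/
def FE (H H' : Type*) [Group H] [Group H'] : Prop :=
  ∀ S : Sylow 2 H, ∃ (ι : S →* H') (S' : Sylow 2 H'), Function.Injective ι ∧
    (S' : Subgroup H') = ι.range ∧ FR (S : Subgroup H).subtype ⊤ ι ⊤ ∧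
      FR ι ⊤ (S : Subgroup H).subtype ⊤

variable [Finite Γ] [Finite Γ'] [Finite Γ'']

theorem FE.of_model {ι : T →* Γ} {ι' : T →* Γ'} (h : IsSylowIn 2 ι.range ⊤)
    (h' : IsSylowIn 2 ι'.range ⊤) (a : FR ι ⊤ ι' ⊤) (b : FR ι' ⊤ ι ⊤) : FE Γ Γ' := by
  haveI : Fact (Nat.Prime 2) := ⟨Nat.prime_two⟩
  intro S
  obtain ⟨g, -, hg⟩ := h.exists_conj_eq (isSylowIn_top S)
  let j : T →* S := ((MulAut.conj g).toMonoidHom.comp ι).codRestrict _ fun t =>
    hg ▸ conj_mem_conj_smul ⟨t, rfl⟩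
  have hj : ∀ t, (j t : Γ) = g * ι t * g⁻¹ := fun _ => rfl
  have js : Function.Surjective j := fun s => by
    obtain ⟨t, ht⟩ := mem_cj.1 (show s.1 ∈ cj g ι.range by rw [cj, hg]; exact s.2)
    exact ⟨t, Subtype.ext (by rw [hj, ht]; group)⟩
  obtain ⟨u, -, hu⟩ := a 1 trivial
  obtain ⟨v, -, hv⟩ := b 1 trivial
  let f : S →* Γ' := j.liftOfSurjective js ⟨ι', fun t ht => by
    have := congrArg Subtype.val (MonoidHom.mem_ker.1 ht)
    simpa using hu 1 t (by simpa [hj] using this)⟩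
  have hf : ∀ t, f (j t) = ι' t := fun t => MonoidHom.liftOfRightInverse_comp_apply _ _ _ _ t
  obtain ⟨S', hS'⟩ := h'.exists_sylow
  refine ⟨f, S', (injective_iff_map_eq_one _).2 fun s hs => ?_, hS'.trans ?_, fun k _ => ?_,
    fun k _ => ?_⟩
  · obtain ⟨t, rfl⟩ := js s
    have := hv 1 t (by simpa [hf] using hs)
    exact Subtype.ext (by simp [hj, this])
  · ext y
    refine ⟨fun ⟨t, e⟩ => ⟨j t, (hf t).trans e⟩, fun ⟨s, e⟩ => ?_⟩
    obtain ⟨t, rfl⟩ := js s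
    exact ⟨t, (hf t).symm.trans e⟩
  · obtain ⟨k', -, c⟩ := a (g⁻¹ * k * g) trivial
    refine ⟨k', trivial, fun x y e => ?_⟩
    obtain ⟨x, rfl⟩ := js x
    obtain ⟨y, rfl⟩ := js y
    rw [hf, hf]
    refine c x y ?_
    rw [coe_subtype, hj, hj, mul_inv_eq_iff_eq_mul, ← eq_inv_mul_iff_mul_eq] at e
    rw [e]; group
  · obtain ⟨k', -, c⟩ := b k trivial
    refine ⟨g * k' * g⁻¹, trivial, fun x y e => ?_⟩
    obtain ⟨x, rfl⟩ := js x
    obtain ⟨y, rfl⟩ := js y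
    rw [hf, hf] at e
    rw [coe_subtype, hj, hj, c x y e]; group

theorem syl_range (S : Sylow 2 Γ) : IsSylowIn 2 (S : Subgroup Γ).subtype.range ⊤ := by
  haveI : Fact (Nat.Prime 2) := ⟨Nat.prime_two⟩
  rw [range_subtype]; exact isSylowIn_top S

theorem FE.symm (h : FE Γ Γ') : FE Γ' Γ := by
  haveI : Fact (Nat.Prime 2) := ⟨Nat.prime_two⟩
  obtain ⟨ι, S', -, e, a, b⟩ := h default
  exact .of_model (e ▸ isSylowIn_top S') (syl_range _) b a

theorem FE.trans (h : FE Γ Γ') (h' : FE Γ' Γ'') : FE Γ Γ'' := by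
  haveI : Fact (Nat.Prime 2) := ⟨Nat.prime_two⟩
  obtain ⟨ι, S', -, e, a, b⟩ := h default
  obtain ⟨ι', S'', -, e', a', b'⟩ := h' S'
  let j := ι.codRestrict (S' : Subgroup Γ') fun s => e ▸ ⟨s, rfl⟩
  have js : Function.Surjective j := fun s => by
    obtain ⟨t, ht⟩ : s.1 ∈ ι.range := e ▸ s.2
    exact ⟨t, Subtype.ext ht⟩
  refine .of_model (ι' := ι'.comp j) (syl_range default) ?_ (a.trans fun g hg => ?_)
    (FR.trans (fun g hg => ?_) b)
  · rw [MonoidHom.range_comp, MonoidHom.range_eq_top.2 js, ← MonoidHom.range_eq_map, ← e']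
    exact isSylowIn_top S''
  · obtain ⟨g', -, c⟩ := a' g hg
    exact ⟨g', trivial, fun x y k => c (j x) (j y) k⟩
  · obtain ⟨g', -, c⟩ := b' g hg
    exact ⟨g', trivial, fun x y k => c (j x) (j y) k⟩

theorem FE.of_equiv (e : Γ ≃* Γ') : FE Γ Γ' := by
  haveI : Fact (Nat.Prime 2) := ⟨Nat.prime_two⟩
  let S : Sylow 2 Γ := default
  refine .of_model (ι' := e.toMonoidHom.comp (S : Subgroup Γ).subtype) (syl_range S) ?_
    (fun g _ => ⟨e g, trivial, fun x y k => by simpa using congrArg e k⟩)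
    fun g _ => ⟨e.symm g, trivial, fun x y k => by simpa using congrArg e.symm k⟩
  rw [MonoidHom.range_comp, ← map_top_of_surjective e.toMonoidHom e.surjective]
  exact (syl_range S).map _

theorem FE.card (h : FE Γ Γ') (S : Sylow 2 Γ) (S' : Sylow 2 Γ') :
    Nonempty ((S : Subgroup Γ) ≃* (S' : Subgroup Γ')) := by
  haveI : Fact (Nat.Prime 2) := ⟨Nat.prime_two⟩
  obtain ⟨ι, P, hi, e, -⟩ := h S
  exact ⟨((MonoidHom.ofInjective hi).trans (MulEquiv.subgroupCongr e.symm)).trans (P.equiv S')⟩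

omit [Finite Γ] [Finite Γ'] in
theorem fr_of_realized {S : Subgroup T} {F : Cfsg.FusionSystem S} {ι : S →* Γ} {ι' : S →* Γ'}
    (h : F.IsRealizedBy ι) (h' : F.IsRealizedBy ι') : FR ι ⊤ ι' ⊤ := by
  intro g _
  let c := (MulAut.conj g).toMonoidHom.comp ι
  let P := (ι.range.comap c).map S.subtype
  have hP : P ≤ S := map_subtype_le _
  have h1 : ∀ x : P, c ⟨x, hP x.2⟩ ∈ ι.range := by rintro ⟨_, x, hx, rfl⟩; exact hx
  let φ : P →* S := (MonoidHom.ofInjective h.1).symm.toMonoidHom.comp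
    ((c.comp (inclusion hP)).codRestrict _ h1)
  have h2 : ∀ x, ι (φ x) = g * ι ⟨x, hP x.2⟩ * g⁻¹ := fun x =>
    MonoidHom.apply_ofInjective_symm h.1 _
  obtain ⟨g', k⟩ := (h'.2 P hP (S.subtype.comp φ) fun x => (φ x).2).1
    ((h.2 P hP _ fun x => (φ x).2).2 ⟨g, h2⟩)
  refine ⟨g', trivial, fun x y e => ?_⟩
  have hx : x.1 ∈ P := ⟨x, ⟨y, e⟩, rfl⟩
  rw [h.1 (e.trans (h2 ⟨x, hx⟩).symm)]
  exact k ⟨x, hx⟩

omit [Finite Γ] in
theorem realized_self (S : Subgroup Γ) : (Cfsg.groupFusionSystem S).IsRealizedBy S.subtype :=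
  ⟨subtype_injective S, fun _ hP _ hφ => ⟨fun h => h.2.2, fun h => ⟨hP, hφ, h⟩⟩⟩

theorem fe_iff (S : Sylow 2 Γ) : (∃ ι : ↥(S : Subgroup Γ) →* Γ',
    (Cfsg.groupFusionSystem (S : Subgroup Γ)).IsRealizedBy ι ∧
      ∃ T : Sylow 2 Γ', (T : Subgroup Γ') = ι.range) ↔ FE Γ Γ' := by
  haveI : Fact (Nat.Prime 2) := ⟨Nat.prime_two⟩
  refine ⟨fun ⟨ι, h, P, e⟩ => .of_model (syl_range S) (e ▸ isSylowIn_top P)
    (fr_of_realized (realized_self _) h) (fr_of_realized h (realized_self _)), fun h => ?_⟩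
  obtain ⟨ι, P, hi, e, a, b⟩ := h S
  refine ⟨ι, ⟨hi, fun Q hQ φ hφ => ⟨fun ⟨_, _, g, k⟩ => ?_, fun ⟨g, k⟩ => ?_⟩⟩, P, e⟩
  · obtain ⟨g', -, c⟩ := a g trivial
    exact ⟨g', fun x => c _ _ (k x)⟩
  · obtain ⟨g', -, c⟩ := b g trivial
    exact ⟨hQ, hφ, g', fun x => c _ _ (k x)⟩

end H8.FE
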