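import Cfsg.Agent.H8.FE2
import Cfsg.Agent.H8.FE3

/-! A common monomial model for linear and unitary groups. -/

set_option autoImplicit false
set_option linter.unusedSectionVars false

namespace H8.FE

open Matrix H86 H8.PS Equiv H7 Subgroup

/-- Abstract monomial data. -/
structure Mdl (n : ℕ) (C : Type*) [CommGroup C] where
  W : Sylow 2 (Perm (Fin n))
  τ : Perm (Fin n)
  hτ : τ * τ = 1
  hc : ∀ w ∈ (W : Subgroup (Perm (Fin n))), w * τ = τ * w
  r : ℤ
  pC : IsPGroup 2 C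
  z : C
  zz : z * z = 1
  z1 : z ≠ 1

variable {n : ℕ} {C : Type*} [CommGroup C] [Finite C]

instance : Finite (PW (Fin n) C) := Finite.of_equiv _ SemidirectProduct.equivProd.symm

theorem mo_units {K : Type*} [Field K] (e : C →* Kˣ) (v : PW (Fin n) C) : (mo e).toHomUnits v =
    mono.toHomUnits (⟨fun i => e (v.left i), v.right⟩ : PW (Fin n) Kˣ) := Units.ext rfl

namespace Mdl

variable (m : Mdl n C)

/-- The diagonal part. -/
def D : Subgroup (Fin n → C) where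
  carrier := {x | ∀ i, x (m.τ i) = x i ^ m.r}
  one_mem' i := by simp
  mul_mem' {x y} hx hy i := by simp only [Pi.mul_apply, hx i, hy i, mul_zpow]
  inv_mem' {x} hx i := by simp only [Pi.inv_apply, hx i, _root_.inv_zpow]

theorem D_comp {x : Fin n → C} (hx : x ∈ m.D) {w : Perm (Fin n)}
    (hw : w ∈ (m.W : Subgroup (Perm (Fin n)))) : (fun i => x (w⁻¹ i)) ∈ m.D := fun i => by
  rw [← hx]
  exact congrArg x (congrArg (· i) (m.hc _ (inv_mem hw)) :)

/-- The model of a Sylow subgroup of `GL_n(q)` or `GU_n(q)`. -/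
def T : Subgroup (PW (Fin n) C) where
  carrier := {v | v.left ∈ m.D ∧ v.right ∈ (m.W : Subgroup (Perm (Fin n)))}
  one_mem' := ⟨one_mem _, one_mem _⟩
  mul_mem' := fun ha hb => ⟨mul_mem ha.1 (m.D_comp hb.1 ha.2), mul_mem ha.2 hb.2⟩
  inv_mem' := fun ha => ⟨m.D_comp (inv_mem ha.1) (inv_mem ha.2), inv_mem ha.2⟩

theorem card_T : Nat.card m.T = Nat.card m.D * Nat.card m.W := by
  rw [← Nat.card_prod]
  exact Nat.card_congr ⟨fun v => (⟨v.1.left, v.2.1⟩, ⟨v.1.right, v.2.2⟩),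
    fun p => ⟨⟨p.1.1, p.2.1⟩, p.1.2, p.2.2⟩, fun _ => rfl, fun _ => rfl⟩

theorem pD : IsPGroup 2 m.D := by
  haveI : Fact (Nat.Prime 2) := ⟨Nat.prime_two⟩
  obtain ⟨k, hk⟩ := IsPGroup.iff_card.1 m.pC
  exact fun x => ⟨k, Subtype.ext (funext fun i => by
    change x.1 i ^ 2 ^ k = 1
    rw [← hk, pow_card_eq_one'])⟩

theorem pT : IsPGroup 2 m.T := by
  haveI : Fact (Nat.Prime 2) := ⟨Nat.prime_two⟩
  obtain ⟨j, hj⟩ := IsPGroup.iff_card.1 m.pD
  obtain ⟨k, hk⟩ := IsPGroup.iff_card.1 m.W.isPGroup'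
  exact IsPGroup.of_card (by rw [card_T, hj, hk, ← pow_add])

theorem τ_mem : m.τ ∈ (m.W : Subgroup (Perm (Fin n))) :=
  le_sylow_of_norm m.W (R := zpowers m.τ) (IsPGroup.of_card_dvd_pow (n := 1) (by
    rw [Nat.card_zpowers]; exact orderOf_dvd_of_pow_eq_one (by simpa [pow_two] using m.hτ)))
    (fun w hw _ ⟨k, hk⟩ => ⟨k, by
      rw [← hk, eq_mul_inv_iff_mul_eq]
      exact ((show Commute w m.τ from m.hc w hw).zpow_right k).eq.symm⟩) (mem_zpowers _)

/-- The determinant. -/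
def dt : PW (Fin n) C →* C where
  toFun v := (∏ i, v.left i) * if Perm.sign v.right = 1 then 1 else m.z
  map_one' := by simp
  map_mul' v w := by
    have : ∏ i, (v * w).left i = (∏ i, v.left i) * ∏ i, w.left i := by
      rw [← Equiv.prod_comp v.right⁻¹ w.left, ← Finset.prod_mul_distrib]; rfl
    rw [this, mul_mul_mul_comm, SemidirectProduct.mul_right, map_mul]
    rcases Int.units_eq_one_or (Perm.sign v.right) with h | h <;>
      rcases Int.units_eq_one_or (Perm.sign w.right) with k | k <;> simp [h, k, m.zz]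

/-- The model of a Sylow subgroup of `SL_n(q)` or `SU_n(q)`. -/
def T0 : Subgroup m.T := (m.dt.comp m.T.subtype).ker

end Mdl

/-- A realization of the model. -/
structure Rl (m : Mdl n C) (K : Type*) [Field K] (H : Type*) [Group H] where
  s : ℤ
  f : Fro K n s
  e : C →* Kˣ
  he : Function.Injective e
  hs : ∀ x, e x ^ s = e (x ^ m.r)
  two : (2 : K) ≠ 0
  syl : v2 (Nat.card (f.Φ.eqLocus (MonoidHom.id _))) ≤ v2 (Nat.card m.T)
  j : H →* GL (Fin n) K
  hj : Function.Injective j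
  rj : ∀ g, g ∈ j.range ↔ f.Φ g = g ∧ GeneralLinearGroup.det g = 1
  cen : ∀ h, h ∈ center H ↔ ∃ a, (j h).1 = scalar (Fin n) a

namespace Rl

variable {m : Mdl n C} {K K' H H' : Type*} [Field K] [Field K'] [Group H] [Group H']
  [Finite K] [Finite K'] (R : Rl m K H) (R' : Rl m K' H')

/-- The group of fixed points. -/
abbrev G : Subgroup (GL (Fin n) K) := R.f.Φ.eqLocus (MonoidHom.id _)

theorem exists_B : ∃ B : GL (Fin n) K,
    mono.toHomUnits (SemidirectProduct.inr m.τ) * R.f.Φ B = B := by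
  obtain ⟨c, h, -⟩ := R.f.h90 (mono.toHomUnits (SemidirectProduct.inr m.τ)) (by
    rw [R.f.mono, ← map_mul, ← map_one mono.toHomUnits]
    congr 1
    refine SemidirectProduct.ext (funext fun i => ?_) m.hτ
    change (1 : Kˣ) * 1 ^ R.s = 1
    simp)
  exact ⟨c, h⟩

/-- The change of basis. -/
noncomputable def B : GL (Fin n) K := R.exists_B.choose

theorem fix (v : PW (Fin n) Kˣ) (h1 : ∀ i, v.left i ^ R.s = v.left (m.τ i))
    (h2 : v.right * m.τ = m.τ * v.right) : R.B⁻¹ * mono.toHomUnits v * R.B ∈ R.G := by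
  have h3 : SemidirectProduct.inr m.τ * (⟨fun i => v.left i ^ R.s, v.right⟩ : PW (Fin n) Kˣ) =
      v * SemidirectProduct.inr m.τ := by
    refine SemidirectProduct.ext (funext fun i => ?_) h2.symm
    change 1 * v.left (m.τ⁻¹ i) ^ R.s = v.left i * 1
    rw [h1, ap_inv, one_mul, mul_one]
  have h4 := congrArg mono.toHomUnits h3
  rw [map_mul, map_mul, ← R.f.mono, ← eq_inv_mul_iff_mul_eq] at h4
  have h5 : R.f.Φ R.B = _ := eq_inv_mul_iff_mul_eq.2 R.exists_B.choose_spec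
  change R.f.Φ _ = _
  rw [map_mul, map_mul, map_inv, h4, h5]
  change _ = R.B⁻¹ * _ * R.B
  rw [B]; group

/-- The embedding of the model. -/
noncomputable def ι : m.T →* GL (Fin n) K :=
  ((MulAut.conj R.B⁻¹).toMonoidHom.comp (mo R.e).toHomUnits).comp m.T.subtype

theorem ι_eq (t : m.T) : R.ι t = R.B⁻¹ * (mo R.e).toHomUnits t * R.B := by simp [ι]

theorem ι_mem (t : m.T) : R.ι t ∈ R.G := by
  rw [ι_eq, mo_units]
  exact R.fix ⟨fun i => R.e (t.1.left i), t.1.right⟩ (fun i => by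
    change R.e _ ^ _ = R.e _
    rw [R.hs, t.2.1 i]) (m.hc _ t.2.2)

theorem ι_inj : Function.Injective R.ι := fun a b h => by
  rw [ι_eq, ι_eq, mul_left_inj, mul_right_inj] at h
  have := mono_inj (congrArg Units.val h)
  exact Subtype.ext (SemidirectProduct.ext
    (funext fun i => R.he (congrFun (congrArg (·.left) this) i)) (congrArg (·.right) this))

theorem det_ι (t : m.T) : GeneralLinearGroup.det (R.ι t) = R.e (m.dt t) := by
  have h : R.e m.z = -1 := ((Units.inv_eq_self_iff _).1 (by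
    rw [inv_eq_iff_mul_eq_one, ← map_mul, m.zz, map_one])).resolve_left fun k =>
      m.z1 (R.he (k.trans (map_one _).symm))
  rw [ι_eq, map_mul, map_mul, map_inv, inv_mul_cancel_comm]
  refine Units.ext ((det_mono _).trans ?_)
  change ((∏ i, R.e (t.1.left i) : Kˣ) : K) * (if Perm.sign t.1.right = 1 then 1 else -1) =
    R.e (_ * _)
  rw [map_mul, map_prod]
  split_ifs <;> simp [h]

theorem syl_G : IsSylowIn 2 R.ι.range R.G := by
  haveI : Fact (Nat.Prime 2) := ⟨Nat.prime_two⟩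
  refine ⟨fun _ ⟨t, h⟩ => h ▸ R.ι_mem t, m.pT.of_surjective _ R.ι.rangeRestrict_surjective, ?_⟩
  have := not_dvd_index_range (p := 2) (f := R.ι.codRestrict _ R.ι_mem)
    (fun a b h => R.ι_inj (congrArg Subtype.val h)) R.syl
  convert this using 2
  rw [relIndex]
  congr 1
  ext x
  exact ⟨fun ⟨t, h⟩ => ⟨t, Subtype.ext h⟩, fun ⟨t, h⟩ => ⟨t, congrArg Subtype.val h⟩⟩

theorem range_j : R.j.range = R.G ⊓ (GeneralLinearGroup.det).ker := by
  ext g; exact R.rj g

theorem mem_T0 {t : m.T} : t ∈ m.T0 ↔ R.ι t ∈ R.j.range := by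
  rw [R.rj, det_ι, map_eq_one_iff _ R.he]
  exact ⟨fun h => ⟨R.ι_mem t, h⟩, fun h => h.2⟩

theorem syl_N : IsSylowIn 2 (m.T0.map R.ι) R.j.range := by
  have := R.syl_G.inf_of_le_normalizer (N := (GeneralLinearGroup.det).ker)
    (by rw [normalizer_eq_top]; exact le_top)
  rw [← range_j] at this
  convert this using 1
  ext g
  refine ⟨?_, ?_⟩
  · rintro ⟨t, h, rfl⟩
    exact ⟨⟨t, rfl⟩, ((R.rj _).1 (R.mem_T0.1 h)).2⟩
  · rintro ⟨⟨t, rfl⟩, h⟩
    exact ⟨t, R.mem_T0.2 ((R.rj _).2 ⟨R.ι_mem t, h⟩), rfl⟩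

theorem fr_G : FR R.ι R.G R'.ι R'.G := by
  haveI : Fact (Nat.Prime 2) := ⟨Nat.prime_two⟩
  intro g _
  let c := (MulAut.conj g).toMonoidHom.comp R.ι
  let P := R.ι.range.comap c
  let φ : P →* m.T := (MonoidHom.ofInjective R.ι_inj).symm.toMonoidHom.comp
    ((c.comp P.subtype).codRestrict _ fun x => x.2)
  have h2 : ∀ x, R.ι (φ x) = g * R.ι x * g⁻¹ := fun x =>
    MonoidHom.apply_ofInjective_symm R.ι_inj _
  obtain ⟨k, hk⟩ := IsPGroup.iff_card.1 (m.pT.to_subgroup P)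
  obtain ⟨g1, h3⟩ := conj_transfer (K' := K') (by rw [hk]; simpa using fun h => absurd h R'.two)
    (m.T.subtype.comp P.subtype) (m.T.subtype.comp φ) R.he R'.he (R.B * g * R.B⁻¹) fun x => by
      have := h2 x
      rw [ι_eq, ι_eq] at this
      refine congrArg Units.val (show (mo R.e).toHomUnits (φ x) * (R.B * g * R.B⁻¹) =
        R.B * g * R.B⁻¹ * (mo R.e).toHomUnits x from ?_)
      calc _ = R.B * (R.B⁻¹ * (mo R.e).toHomUnits (φ x) * R.B) * g * R.B⁻¹ := by group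
        _ = _ := by rw [this]; group
  obtain ⟨u, hu⟩ : ∃ u, u = R'.B⁻¹ * g1 * R'.B := ⟨_, rfl⟩
  have h4 : ∀ x, R'.ι (φ x) = u * R'.ι x * u⁻¹ := fun x => by
    have : (mo R'.e).toHomUnits (φ x) * g1 = g1 * (mo R'.e).toHomUnits x := Units.ext (h3 x)
    rw [ι_eq, ι_eq, hu, eq_mul_inv_of_mul_eq this]; group
  obtain ⟨d, h5, h6⟩ := R'.f.h90 (u⁻¹ * R'.f.Φ u) (by rw [map_mul, map_inv, R'.f.inv]; group)
  refine ⟨u * d, ?_, fun x y e => ?_⟩
  · change R'.f.Φ _ = u * d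
    rw [map_mul, ← h5, h5, ← mul_inv_cancel_left u (R'.f.Φ u), mul_assoc, h5]
  have hx : x ∈ P := ⟨y, e⟩
  have h7 := congrArg R'.f.Φ (h4 ⟨x, hx⟩)
  rw [map_mul, map_mul, map_inv, R'.ι_mem x, R'.ι_mem (φ _), MonoidHom.id_apply,
    MonoidHom.id_apply, h4] at h7
  have h8 := h6 (R'.ι x) (by
    change _ * _ = _
    calc _ = u⁻¹ * (u * R'.ι x * u⁻¹) * R'.f.Φ u := by group
      _ = _ := by rw [h7]; group)
  rw [R.ι_inj (e.trans (h2 ⟨x, hx⟩).symm), h4, mul_assoc u d, ← h8.eq]; group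

theorem odd_fix (hn : 0 < n) {y : GL (Fin n) K} (hy : y ∈ R.G) (h : Odd (orderOf y)) :
    ∃ g ∈ R.j.range, ∀ t, g * R.ι t * g⁻¹ = y * R.ι t * y⁻¹ := by
  classical
  haveI : Fact (Nat.Prime 2) := ⟨Nat.prime_two⟩
  set d := GeneralLinearGroup.det y with hd
  have h1 : d ^ R.s = d := by rw [hd, ← R.f.det, show R.f.Φ y = y from hy]
  let O := MulAction.orbit m.W (⟨0, hn⟩ : Fin n)
  have hO : ∀ w ∈ (m.W : Subgroup (Perm (Fin n))), ∀ i, w i ∈ O ↔ i ∈ O := fun w hw i =>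
    ⟨fun k => inv_ap w i ▸ MulAction.mapsTo_smul_orbit (⟨w, hw⟩⁻¹ : m.W) _ k,
      fun k => MulAction.mapsTo_smul_orbit (⟨w, hw⟩ : m.W) _ k⟩
  obtain ⟨k, hk⟩ := m.W.isPGroup'.card_orbit (⟨0, hn⟩ : Fin n)
  obtain ⟨a, ha⟩ := exists_pow_eq_self_of_coprime (x := d⁻¹) (n := 2 ^ k) (by
    rw [orderOf_inv]
    exact (Nat.coprime_two_left.2 (h.of_dvd_nat (orderOf_map_dvd _ y))).pow_left k)
  let v : PW (Fin n) Kˣ := ⟨fun i => if i ∈ O then d⁻¹ ^ a else 1, 1⟩
  let c := R.B⁻¹ * mono.toHomUnits v * R.B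
  have h2 : c ∈ R.G := R.fix v (fun i => by
    simp only [v, hO _ m.τ_mem]
    split_ifs
    · rw [← zpow_pow, _root_.inv_zpow, h1]
    · simp) (by simp [v])
  have h3 : GeneralLinearGroup.det c = d⁻¹ := by
    rw [map_mul, map_mul, map_inv, inv_mul_cancel_comm]
    refine Units.ext ((det_mono _).trans ?_)
    simp only [v, map_one, if_true, mul_one, Finset.prod_ite, Finset.prod_const, one_pow]
    rw [← pow_mul, mul_comm, pow_mul, ← Fintype.card_subtype, ← Nat.card_eq_fintype_card]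
    exact congrArg _ ((congrArg (fun l => (d⁻¹ ^ l) ^ a) hk).trans ha)
  refine ⟨y * c, (R.rj _).2 ⟨mul_mem hy h2, by rw [map_mul, h3, mul_inv_cancel]⟩, fun t => ?_⟩
  have h4 : mono.toHomUnits v * (mo R.e).toHomUnits t = (mo R.e).toHomUnits t * mono.toHomUnits v := by
    rw [mo_units, ← map_mul, ← map_mul]
    congr 1
    refine SemidirectProduct.ext (funext fun i => ?_) (by simp [v])
    change v.left i * R.e (t.1.left i) = R.e (t.1.left i) * v.left (t.1.right⁻¹ i)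
    simp only [v, hO _ (inv_mem t.2.2), mul_comm]
  rw [ι_eq]
  calc _ = y * R.B⁻¹ * (mono.toHomUnits v * (mo R.e).toHomUnits t) * (mono.toHomUnits v)⁻¹ *
        R.B * y⁻¹ := by simp only [c]; group
    _ = _ := by rw [h4]; group

/-- The embedding into the special group. -/
noncomputable def ι0 : m.T0 →* H := (MonoidHom.ofInjective R.hj).symm.toMonoidHom.comp
  ((R.ι.comp m.T0.subtype).codRestrict _ fun t => R.mem_T0.1 t.2)

theorem j_ι0 : R.j.comp R.ι0 = R.ι.comp m.T0.subtype :=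
  MonoidHom.ext fun _ => MonoidHom.apply_ofInjective_symm R.hj _

theorem ι0_cen (t : m.T0) :
    R.ι0 t ∈ center H ↔ t.1.1.right = 1 ∧ ∀ i j, t.1.1.left i = t.1.1.left j := by
  have h : R.j (R.ι0 t) = R.B⁻¹ * (mo R.e).toHomUnits t * R.B :=
    (DFunLike.congr_fun R.j_ι0 t).trans (R.ι_eq t)
  rw [R.cen, h]
  refine ⟨fun ⟨a, k⟩ => ?_, fun ⟨k1, k2⟩ => ?_⟩
  · rw [Units.val_mul, Units.val_mul, ← Units.eq_mul_inv_iff_mul_eq, Units.inv_mul_eq_iff_eq_mul,
      (scalar_commute _ (Commute.all _) _).eq, Units.mul_inv_cancel_left] at k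
    obtain ⟨k1, b, k2⟩ := of_mono_scalar k
    exact ⟨k1, fun i j => R.he ((k2 i).trans (k2 j).symm)⟩
  · rcases Nat.eq_zero_or_pos n with rfl | hn
    · exact ⟨1, Subsingleton.elim _ _⟩
    refine ⟨R.e (t.1.1.left ⟨0, hn⟩), ?_⟩
    have : mo R.e t.1.1 = _ := mono_scalar (v := ⟨fun i => R.e (t.1.1.left i), t.1.1.right⟩)
      (k := R.e (t.1.1.left ⟨0, hn⟩)) k1 fun i => congrArg R.e (k2 i _)
    rw [Units.val_mul, Units.val_mul, MonoidHom.coe_toHomUnits, this,
      ← (scalar_commute _ (Commute.all _) _).eq, Units.inv_mul_cancel_right]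

theorem syl_H : IsSylowIn 2 R.ι0.range ⊤ := by
  have h := R.syl_N
  have e : m.T0.map R.ι = R.ι0.range.map R.j := by
    rw [← MonoidHom.range_comp, j_ι0, MonoidHom.range_comp, range_subtype]
  refine ⟨le_top, (m.pT.to_subgroup _).of_surjective _ R.ι0.rangeRestrict_surjective, ?_⟩
  have := h.not_dvd
  rwa [e, MonoidHom.range_eq_map R.j, relIndex_map_map_of_injective _ _ R.hj] at this

theorem fr_H (hn : 0 < n) : FR R.ι0 ⊤ R'.ι0 ⊤ := by
  refine FR.lift (j := R.j) R'.hj ?_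
  rw [j_ι0, j_ι0]
  exact (R.fr_G R').sub R.ι_inj (R.range_j ▸ inf_le_left) _ R.syl_N R'.syl_N.le
    fun y hy h => R'.odd_fix hn hy h

theorem syl_Q : IsSylowIn 2 ((QuotientGroup.mk' (center H)).comp R.ι0).range ⊤ := by
  rw [MonoidHom.range_comp, ← map_top_of_surjective _ (QuotientGroup.mk'_surjective _)]
  exact R.syl_H.map _

include R R' in
theorem fe (hn : 0 < n) : FE (H ⧸ center H) (H' ⧸ center H') := by
  haveI := Finite.of_injective _ R.hj
  haveI := Finite.of_injective _ R'.hj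
  exact .of_model R.syl_Q R'.syl_Q
    ((R.fr_H R' hn).quot R.syl_H fun t h => (R'.ι0_cen t).2 ((R.ι0_cen t).1 h))
    ((R'.fr_H R hn).quot R'.syl_H fun t h => (R.ι0_cen t).2 ((R'.ι0_cen t).1 h))

end Rl

end H8.FE
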