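import Cfsg.Agent.H8.FE4
import Cfsg.Agent.H57.PslTwist
import Cfsg.Agent.H59.SU
import Cfsg.Agent.H59.Twist
import Cfsg.Agent.S0277

/-! The 2-fusion system of `PSL_n^ε(q)` only depends on the 2-parts of `q - ε` and `q + ε`. -/

set_option autoImplicit false

namespace H8.FE

open Matrix H86 H8.PS Equiv H7 Subgroup
open scoped MatrixGroups

/-- The 2-part of the order of `GL_n^ε(q)`. -/
def bd (n a b : ℕ) : ℕ := n / 2 * (a + (a + b)) + v2 (n / 2).factorial + n % 2 * a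

theorem exists_mdl (n : ℕ) {a b : ℕ} (h : (2 ≤ a ∧ b = 1) ∨ (a = 1 ∧ 2 ≤ b)) :
    ∃ (c : ℕ) (m : Mdl n (Multiplicative (ZMod (2 ^ c)))), c ≤ a + b ∧
      (∀ s : ℤ, 2 ^ a ∣ s - 1 → 2 ^ b ∣ s + 1 → ¬ 2 ^ (b + 1) ∣ s + 1 → 2 ^ c ∣ s - m.r) ∧
      bd n a b ≤ v2 (Nat.card m.T) := by
  classical
  haveI : Fact (Nat.Prime 2) := ⟨Nat.prime_two⟩
  obtain ⟨W⟩ : Nonempty (Sylow 2 (Perm (Fin n))) := inferInstance
  have cW : Nat.card W = 2 ^ (n / 2 + v2 (n / 2).factorial) := by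
    rw [W.card_eq_multiplicity, Nat.card_perm, Nat.card_eq_fintype_card, Fintype.card_fin,
      Nat.factorization_def _ Nat.prime_two, padicValNat_factorial_div]
  have cC : ∀ c, Nat.card (Multiplicative (ZMod (2 ^ c))) = 2 ^ c := fun c => by simp
  have hz : ∀ c, 0 < c → ∃ z : Multiplicative (ZMod (2 ^ c)), z * z = 1 ∧ z ≠ 1 := fun c hc => by
    obtain ⟨z, hz⟩ := exists_prime_orderOf_dvd_card' (G := Multiplicative (ZMod (2 ^ c))) 2
      (by rw [cC]; exact dvd_pow_self 2 hc.ne')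
    exact ⟨z, (pow_two z).symm.trans (orderOf_dvd_iff_pow_eq_one.1 hz.dvd), fun e => by simp [e] at hz⟩
  have fin : ∀ {c k : ℕ} (m : Mdl n (Multiplicative (ZMod (2 ^ c)))), m.W = W →
      k ≤ v2 (Nat.card m.D) → k + (n / 2 + v2 (n / 2).factorial) ≤ v2 (Nat.card m.T) :=
    fun m e h => by
      rw [m.card_T, v2_mul Nat.card_pos.ne' Nat.card_pos.ne', e, cW, show ∀ l, v2 (2 ^ l) = l from
        padicValNat.prime_pow]
      exact Nat.add_le_add_right h _
  have hn := Nat.div_add_mod n 2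
  rcases h with ⟨h, rfl⟩ | ⟨rfl, h⟩
  · obtain ⟨z, z1, z2⟩ := hz a (by omega)
    let m : Mdl n (Multiplicative (ZMod (2 ^ a))) :=
      ⟨W, 1, by simp, by simp, 1, IsPGroup.of_card (cC a), z, z1, z2⟩
    refine ⟨a, m, by omega, fun s h _ _ => h, le_trans ?_ (fin (k := a * n) m rfl ?_)⟩
    · rw [bd]; nlinarith
    · refine le_v2 m.pD (f := fun x => ⟨x, fun i => (zpow_one _).symm⟩)
        (fun x y e => congrArg Subtype.val e) ?_
      rw [Nat.card_fun, cC, ← pow_mul, Nat.card_eq_fintype_card, Fintype.card_fin]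
  obtain ⟨z, z1, z2⟩ := hz (b + 1) (by omega)
  obtain ⟨τ, hτ, hc, hf⟩ := exists_tau W
  let m : Mdl n (Multiplicative (ZMod (2 ^ (b + 1)))) :=
    ⟨W, τ, hτ, hc, 2 ^ b - 1, IsPGroup.of_card (cC _), z, z1, z2⟩
  obtain ⟨hr, hk⟩ := count_tau hτ hf
  refine ⟨b + 1, m, by omega, fun s _ ⟨t, h1⟩ h2 => ?_,
    le_trans ?_ (fin (k := (b + 1) * (n / 2) + n % 2) m rfl ?_)⟩
  · obtain ⟨u, rfl | rfl⟩ := Int.even_or_odd' t
    · exact absurd ⟨u, by rw [h1]; ring⟩ h2
    · exact ⟨u, by change s - (2 ^ b - 1) = _; linear_combination h1⟩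
  · rw [bd]; nlinarith
  obtain ⟨b, rfl⟩ := Nat.exists_eq_add_of_le' (show 1 ≤ b by omega)
  have hqq : ∀ y : Multiplicative (ZMod (2 ^ (b + 1 + 1))), (y ^ m.r) ^ m.r = y := fun y => by
    rw [← _root_.zpow_mul, show m.r * m.r = (2 ^ (b + 1 + 1) : ℕ) * (2 ^ b - 1) + 1 by
      change (2 ^ (b + 1) - 1) * (2 ^ (b + 1) - 1) = _; push_cast; ring, _root_.zpow_add,
      _root_.zpow_mul, zpow_natCast, (congrArg (y ^ ·) (cC _)).symm.trans pow_card_eq_one']
    simp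
  have hzr : z ^ m.r = z := by
    rw [show m.r = 2 * (2 ^ b - 1) + 1 by change 2 ^ (b + 1) - 1 = _; ring, _root_.zpow_add,
      _root_.zpow_mul, zpow_two, z1]
    simp
  let f : ({i // i < τ i} → Multiplicative (ZMod (2 ^ (b + 1 + 1)))) × ({i // τ i = i} → Bool) →
      {x : Fin n → Multiplicative (ZMod (2 ^ (b + 1 + 1))) // ∀ i, x (τ i) = x i ^ m.r} := fun p =>
    ⟨fun l => if h1 : l < τ l then p.1 ⟨l, h1⟩ else if h2 : τ l = l then
        (if p.2 ⟨l, h2⟩ then z else 1)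
      else p.1 ⟨τ l, by rw [tt hτ]; exact lt_of_le_of_ne (not_lt.1 h1) h2⟩ ^ m.r, fun l => by
      by_cases h1 : l < τ l
      · simp only [dif_pos h1]
        rw [dif_neg (by rw [tt hτ]; exact h1.not_gt), dif_neg (by rw [tt hτ]; exact h1.ne)]
        simp only [tt hτ]
      by_cases h2 : τ l = l
      · simp only [h2, lt_irrefl, dif_neg, not_false_eq_true, dif_pos]
        split_ifs
        · exact hzr.symm
        · simp
      · simp only [dif_neg h1, dif_neg h2]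
        rw [dif_pos (by rw [tt hτ]; exact lt_of_le_of_ne (not_lt.1 h1) h2), hqq]⟩
  refine le_v2 m.pD (f := f) (fun p p' e => ?_) ?_
  · refine Prod.ext (funext fun l => ?_) (funext fun l => ?_)
    · have := congrFun (congrArg Subtype.val e) l
      simpa only [f, dif_pos l.2] using this
    · have := congrFun (congrArg Subtype.val e) l
      simp only [f, l.2, lt_irrefl, dif_neg, not_false_eq_true, dif_pos] at this
      cases h1 : p.2 l <;> cases h2 : p'.2 l <;> simp_all [z2, z2.symm]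
  · rw [Nat.card_prod, Nat.card_fun, Nat.card_fun, cC, Nat.card_eq_fintype_card (α := Bool),
      Fintype.card_bool, ← pow_mul, ← pow_add]
    congr 3 <;> omega

theorem v2_cases {q : ℕ} (hq : Odd q) (h1 : 1 < q) :
    (2 ≤ v2 (q - 1) ∧ v2 (q + 1) = 1) ∨ (v2 (q - 1) = 1 ∧ 2 ≤ v2 (q + 1)) := by
  have h3 := three_le_v2_sq_sub_one hq h1
  rw [v2_sq_sub_one h1] at h3
  obtain ⟨k, hk⟩ := hq
  by_cases h : q % 4 = 3
  · have := v2_eq_one (a := q - 1) (by omega); omega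
  · have := v2_eq_one (a := q + 1) (by omega); omega

theorem dvd_v2 {x : ℕ} (hx : x ≠ 0) : (2 : ℤ) ^ v2 x ∣ x ∧ ¬ (2 : ℤ) ^ (v2 x + 1) ∣ x := by
  haveI : Fact (Nat.Prime 2) := ⟨Nat.prime_two⟩
  exact ⟨by exact_mod_cast pow_padicValNat_dvd, by exact_mod_cast pow_succ_padicValNat_not_dvd hx⟩

variable {K : Type*} [Field K] [Fintype K] {q n c : ℕ} (hK : Fintype.card K = q ^ 2) (hq : Odd q)
include hK

theorem one_lt_q : 1 < q := by
  have := Fintype.one_lt_card (α := K)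
  rw [hK] at this
  exact (Nat.one_lt_pow_iff two_ne_zero).1 this

include hq

theorem two_ne : (2 : K) ≠ 0 := fun h => by
  haveI := CharTwo.of_one_ne_zero_of_two_eq_zero one_ne_zero h
  have := FiniteField.even_card_of_char_two (ringChar.eq K 2)
  rw [hK, Nat.odd_iff.1 hq.pow] at this
  omega

theorem exists_theta : ∃ θ, H59.frob hK θ = -θ ∧ 2 * θ ≠ 0 := by
  obtain ⟨a, ha⟩ := DFunLike.ne_iff.1 (H59.frob_ne_id hK)
  exact ⟨H59.frob hK a - a, by rw [map_sub, H59.frob_frob, neg_sub],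
    mul_ne_zero (two_ne hK hq) (sub_ne_zero.2 ha)⟩

omit hq in
theorem exists_e (h : c ≤ v2 (q - 1) + v2 (q + 1)) :
    ∃ e : Multiplicative (ZMod (2 ^ c)) →* Kˣ, Function.Injective e ∧
      ∀ s r : ℤ, 2 ^ c ∣ s - r → ∀ x, e x ^ s = e (x ^ r) := by
  haveI : Fact (Nat.Prime 2) := ⟨Nat.prime_two⟩
  have h1 := one_lt_q hK
  obtain ⟨g, hg⟩ := IsCyclic.exists_ofOrder_eq_natCard (α := Kˣ)
  rw [Nat.card_units, Nat.card_eq_fintype_card, hK] at hg
  have ho := orderOf_pow_orderOf_div (orderOf_pos g).ne' (n := 2 ^ c) (by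
    rw [hg, padicValNat_dvd_iff_le (pow_sub_one_ne_zero h1 two_ne_zero)]
    exact h.trans (v2_sq_sub_one h1).ge)
  let e : Multiplicative (ZMod (2 ^ c)) ≃* zpowers (g ^ (orderOf g / 2 ^ c)) :=
    mulEquivOfCyclicCardEq (by rw [Nat.card_zpowers, ho]; simp)
  refine ⟨(zpowers _).subtype.comp e.toMonoidHom, Subtype.val_injective.comp e.injective,
    fun s r ⟨t, ht⟩ x => ?_⟩
  rw [← map_zpow, eq_add_of_sub_eq ht, _root_.zpow_add, _root_.zpow_mul,
    show (2 : ℤ) ^ c = Nat.card (Multiplicative (ZMod (2 ^ c))) by simp, zpow_natCast,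
    pow_card_eq_one', _root_.one_zpow, one_mul]

theorem rlL {F : Type*} [Field F] [Fintype F] [Algebra F K] (hF : Fintype.card F = q)
    (m : Mdl n (Multiplicative (ZMod (2 ^ c)))) (h1 : c ≤ v2 (q - 1) + v2 (q + 1))
    (h2 : 2 ^ c ∣ (q : ℤ) - m.r) (h3 : bd n (v2 (q - 1)) (v2 (q + 1)) ≤ v2 (Nat.card m.T)) :
    Nonempty (Rl m K SL(n, F)) := by
  obtain ⟨θ, t1, t2⟩ := exists_theta hK hq
  obtain ⟨e, e1, e2⟩ := exists_e hK h1
  let f := froL n (H59.frob hK) (H59.frob_apply hK) (H59.frob_frob hK) t1 t2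
  let j := GeneralLinearGroup.map (n := Fin n) (algebraMap F K)
  have hj : f.Φ.eqLocus (MonoidHom.id _) = j.range := by
    ext g
    refine ⟨fun h => mem_range_map g fun i k => H66.mem_range_of_pow_card ?_, ?_⟩
    · rw [Nat.card_eq_fintype_card, hF, ← H59.frob_apply hK]
      exact congrArg (fun g : GL (Fin n) K => g i k) h
    · rintro ⟨A, rfl⟩
      ext i k
      change H59.frob hK (algebraMap F K (A i k)) = algebraMap F K (A i k)
      rw [H59.frob_apply, ← map_pow, ← hF, FiniteField.pow_card]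
  have jdet : ∀ A : GL (Fin n) F, (j A : Matrix (Fin n) (Fin n) K).det =
      algebraMap F K (A : Matrix (Fin n) (Fin n) F).det := fun A =>
    ((algebraMap F K).map_det _).symm
  refine ⟨⟨q, f, e, e1, e2 _ _ h2, two_ne hK hq, le_trans (le_of_eq ?_) h3,
    j.comp SpecialLinearGroup.toGL, map_inj.comp SpecialLinearGroup.toGL_injective,
    fun g => ⟨?_, fun ⟨a, b⟩ => ?_⟩, fun h => ⟨fun k => ?_, fun ⟨a, k⟩ => ?_⟩⟩⟩
  · rw [hj, ← Nat.card_congr (MonoidHom.ofInjective (map_inj (K := K))).toEquiv, bd,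
      ← v2_sq_sub_one (one_lt_q hK), ← hF]
    have := v2_card_gl (hF ▸ hq) (n / 2)
    rcases Nat.mod_two_eq_zero_or_one n with h | h
    · rw [h, zero_mul, add_zero, ← this.1, show 2 * (n / 2) = n by omega]
    · rw [h, one_mul, ← this.2, show 2 * (n / 2) + 1 = n by omega]
  · rintro ⟨A, rfl⟩
    exact ⟨show _ ∈ f.Φ.eqLocus (MonoidHom.id _) from hj ▸ ⟨_, rfl⟩,
      Units.ext ((jdet _).trans ((congrArg _ A.2).trans (map_one _)))⟩
  · obtain ⟨A, rfl⟩ : g ∈ j.range := hj ▸ a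
    exact ⟨⟨A.1, (algebraMap F K).injective
      (((jdet A).symm.trans (congrArg Units.val b)).trans (map_one _).symm)⟩, Units.ext rfl⟩
  · obtain ⟨r, -, hr⟩ := Matrix.SpecialLinearGroup.mem_center_iff.1 k
    refine ⟨algebraMap F K r, ?_⟩
    ext i l
    change algebraMap F K (h.1 i l) = _
    rw [← hr, scalar_apply, scalar_apply, diagonal_apply, diagonal_apply]
    split_ifs <;> simp
  · refine mem_center_iff.2 fun x => SpecialLinearGroup.toGL_injective (map_inj (K := K) ?_)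
    rw [map_mul, map_mul, map_mul, map_mul]
    refine Units.ext ?_
    change _ * (j _).1 = (j _).1 * _
    rw [show (j (SpecialLinearGroup.toGL h)).1 = _ from k, (scalar_commute _ (Commute.all _) _).eq]

omit hK in
theorem v2_prod_gu (h1 : 1 < q) (n : ℕ) :
    v2 (∏ i ∈ Finset.range n, if Even i then q ^ (i + 1) + 1 else q ^ (i + 1) - 1) =
      bd n (v2 (q + 1)) (v2 (q - 1)) := by
  have hp : ∀ i, (if Even i then q ^ (i + 1) + 1 else q ^ (i + 1) - 1) ≠ 0 := fun i => by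
    split_ifs
    exacts [by omega, pow_sub_one_ne_zero h1 (by omega)]
  induction n with
  | zero => simp [bd]
  | succ n ih =>
    rw [Finset.prod_range_succ, v2_mul (Finset.prod_ne_zero_iff.2 fun i _ => hp i) (hp n), ih]
    obtain ⟨k, rfl | rfl⟩ := Nat.even_or_odd' n
    · rw [if_pos (even_two_mul k), v2_pow_add_one_of_odd hq h1 ⟨k, rfl⟩, bd, bd,
        show (2 * k + 1) / 2 = k by omega, show 2 * k / 2 = k by omega,
        show (2 * k + 1) % 2 = 1 by omega, show 2 * k % 2 = 0 by omega]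
      ring
    · rw [if_neg (by simp), show 2 * k + 1 + 1 = 2 * (k + 1) by ring,
        v2_pow_two_mul hq h1 (by omega), bd, bd, show (2 * k + 1) / 2 = k by omega,
        show 2 * (k + 1) / 2 = k + 1 by omega, show (2 * k + 1) % 2 = 1 by omega,
        show 2 * (k + 1) % 2 = 0 by omega, v2_factorial_succ, v2_sq_sub_one h1]
      ring

theorem rlU (hn : 2 ≤ n) (m : Mdl n (Multiplicative (ZMod (2 ^ c))))
    (h1 : c ≤ v2 (q + 1) + v2 (q - 1)) (h2 : 2 ^ c ∣ -(q : ℤ) - m.r)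
    (h3 : bd n (v2 (q + 1)) (v2 (q - 1)) ≤ v2 (Nat.card m.T)) :
    Nonempty (Rl m K (Cfsg.SU n K q)) := by
  obtain ⟨θ, t1, t2⟩ := exists_theta hK hq
  obtain ⟨e, e1, e2⟩ := exists_e hK (h1.trans (add_comm _ _).le)
  let f := froU n (H59.frob hK) (H59.frob_apply hK) (H59.frob_frob hK) t1 t2
  have hj : f.Φ.eqLocus (MonoidHom.id _) = Cfsg.GU n K q := by
    ext g
    rw [H57.mem_GU_iff (H59.frobAut hK) (H59.frobAut_apply hK)]
    change f.Φ g = g ↔ _ * g.1.map (H59.frob hK) = 1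
    rw [← _root_.inv_inj, Units.ext_iff, eq_comm, ← Units.mul_right_inj g, Units.mul_inv, eq_comm,
      ← transpose_inj, transpose_mul, transpose_one, mul_eq_one_comm]
    rfl
  refine ⟨⟨-q, f, e, e1, e2 _ _ h2, two_ne hK hq, le_trans (le_of_eq ?_) h3,
    SpecialLinearGroup.toGL.comp (Cfsg.SU n K q).subtype,
    SpecialLinearGroup.toGL_injective.comp Subtype.val_injective,
    fun g => ⟨?_, fun ⟨a, b⟩ => ?_⟩, fun h => ?_⟩⟩
  · rw [hj, Cfsg.Agent.S0277.result hK, v2_mul (pow_ne_zero _ hq.pos.ne') (fun h => by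
      have := Cfsg.Agent.S0277.result hK n
      rw [h] at this
      exact Nat.card_pos.ne' this), v2_of_odd hq.pow, zero_add, v2_prod_gu hq (one_lt_q hK)]
  · rintro ⟨A, rfl⟩
    exact ⟨show _ ∈ f.Φ.eqLocus (MonoidHom.id _) from hj ▸ (H59.mem_SU_iff_toGL n _).1 A.2,
      Units.ext A.1.2⟩
  · exact ⟨⟨⟨g.1, congrArg Units.val b⟩, (H59.mem_SU_iff_toGL n _).2
      (by
        have : g ∈ Cfsg.GU n K q := hj ▸ show g ∈ f.Φ.eqLocus (MonoidHom.id _) from a
        convert this; exact Units.ext rfl)⟩, Units.ext rfl⟩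
  · rw [H59.mem_center_SU_iff hK hn]
    exact exists_congr fun a => by rw [scalar_apply, ← smul_one_eq_diagonal]; rfl

omit hK hq

variable {F F' : Type*} [Field F] [Fintype F] [Field F'] [Fintype F']

theorem rlL' (hq : Odd (Fintype.card F)) {a b : ℕ} (ha : v2 (Fintype.card F - 1) = a)
    (hb : v2 (Fintype.card F + 1) = b) {m : Mdl n (Multiplicative (ZMod (2 ^ c)))}
    (h : c ≤ a + b ∧
      (∀ s : ℤ, 2 ^ a ∣ s - 1 → 2 ^ b ∣ s + 1 → ¬ 2 ^ (b + 1) ∣ s + 1 → 2 ^ c ∣ s - m.r) ∧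
      bd n a b ≤ v2 (Nat.card m.T)) :
    ∃ (p : ℕ) (_ : Fact p.Prime) (_ : CharP F p),
      Nonempty (Rl m (FiniteField.Extension F p 2) SL(n, F)) := by
  obtain ⟨p, hp⟩ := CharP.exists F
  haveI : Fact p.Prime := ⟨CharP.char_is_prime F p⟩
  haveI := Fintype.ofFinite (FiniteField.Extension F p 2)
  subst ha hb
  have h1 := Fintype.one_lt_card (α := F)
  have a1 := dvd_v2 (x := Fintype.card F - 1) (by omega)
  have a2 := dvd_v2 (x := Fintype.card F + 1) (by omega)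
  rw [Nat.cast_sub h1.le] at a1
  exact ⟨p, _, hp, rlL (by rw [← Nat.card_eq_fintype_card, FiniteField.natCard_extension,
    Nat.card_eq_fintype_card]) hq rfl m h.1 (h.2.1 _ a1.1 a2.1 a2.2) h.2.2⟩

theorem fe_LL (hn : 0 < n) (hq : Odd (Fintype.card F)) (hq' : Odd (Fintype.card F'))
    (ha : v2 (Fintype.card F' - 1) = v2 (Fintype.card F - 1))
    (hb : v2 (Fintype.card F' + 1) = v2 (Fintype.card F + 1)) : FE PSL(n, F') PSL(n, F) := by
  obtain ⟨c, m, h⟩ := exists_mdl n (v2_cases hq Fintype.one_lt_card)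
  obtain ⟨p, _, _, ⟨R⟩⟩ := rlL' hq rfl rfl h
  obtain ⟨p', _, _, ⟨R'⟩⟩ := rlL' hq' ha hb h
  exact R'.fe R hn

theorem fe_UL (hn : 2 ≤ n) (hq : Odd (Fintype.card F)) (hK : Fintype.card K = q ^ 2) (hq' : Odd q)
    (ha : v2 (q + 1) = v2 (Fintype.card F - 1)) (hb : v2 (q - 1) = v2 (Fintype.card F + 1)) :
    FE (Cfsg.PSU n K q) PSL(n, F) := by
  obtain ⟨c, m, h⟩ := exists_mdl n (v2_cases hq Fintype.one_lt_card)
  obtain ⟨p, _, _, ⟨R⟩⟩ := rlL' hq rfl rfl h
  rw [← ha, ← hb] at h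
  have h1 := one_lt_q hK
  have a1 := dvd_v2 (x := q - 1) (by omega)
  have a2 := dvd_v2 (x := q + 1) (by omega)
  have e1 : -(q : ℤ) - 1 = -((q + 1 : ℕ) : ℤ) := by push_cast; ring
  have e2 : -(q : ℤ) + 1 = -((q - 1 : ℕ) : ℤ) := by rw [Nat.cast_sub h1.le]; push_cast; ring
  obtain ⟨R'⟩ := rlU hK hq' hn m h.1 (h.2.1 _ (e1 ▸ dvd_neg.2 a2.1) (e2 ▸ dvd_neg.2 a1.1)
    (e2 ▸ dvd_neg.not.2 a1.2)) h.2.2
  exact R'.fe R (by omega)

end H8.FE
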