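import Cfsg.Agent.H8.JSMod

/-! Tower JS: automorphisms of the centralizer of a central involution. -/

set_option autoImplicit false
set_option maxRecDepth 100000

namespace H8.JS

open Cfsg Subgroup H98 H1.Gold H49 H71 H4
open H4.M2 (X CA AA g y p q r s t z a h)
open H4.QJ (tau tau_eq tau_tau dec)

/-- the automorphisms that fix `z` are transitive on the frames of `O₂(C(z))` -/
theorem aut0 {p' q' r' s' : X} (hp : p' ∈ L10) (hq : q' ∈ L10) (hr : r' ∈ L10) (hs : s' ∈ L10)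
    (pq : q' * p' ≠ p' * q') (pr : r' * p' ≠ p' * r') (qr : r' * q' ≠ q' * r')
    (ps : s' * p' ≠ p' * s') (qs : s' * q' ≠ q' * s') (rs : s' * r' ≠ r' * s') :
    ∃ θ : MulAut X, θ z = z ∧ θ p = p' ∧ θ q = q' ∧ θ r = r' ∧ θ s = s' := by
  have cl : ∀ w, w * z = z * w → ∀ u ∈ L10, w⁻¹ * u * w ∈ L10 := fun w hw => by
    refine gen0 (K := ⟨⟨⟨{w | ∀ u ∈ L10, w⁻¹ * u * w ∈ L10 ∧ w * u * w⁻¹ ∈ L10}, ?_⟩, by simp⟩, ?_⟩)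
      (by decide +kernel : ∀ u ∈ L10, _) (by decide +kernel : ∀ u ∈ L10, _)
      (by decide +kernel : ∀ u ∈ L10, _) (by decide +kernel : ∀ u ∈ L10, _) w hw |> fun e u hu => (e u hu).1
    · intro b c hb hc u hu
      exact ⟨by simpa [mul_assoc] using (hc _ (hb u hu).1).1,
        by simpa [mul_assoc] using (hb _ (hc u hu).2).2⟩
    · intro b hb u hu
      exact ⟨by simpa using (hb u hu).2, by simpa using (hb u hu).1⟩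
  have nc : ∀ w u v : X, u * v ≠ v * u → w⁻¹ * u * w * (w⁻¹ * v * w) ≠ w⁻¹ * v * w * (w⁻¹ * u * w) :=
    fun w u v e e' => e (by
      have := congrArg (fun b => w * b * w⁻¹) e'
      simpa [mul_assoc] using this)
  have bk : ∀ (θ : MulAut X) {w u u' v : X}, w⁻¹ * u * w = u' → θ v = u' →
      (MulAut.conj w * θ) v = u := fun θ w u u' v e f => by
    rw [MulAut.mul_apply, f, ← e]; simp [mul_assoc]
  have s4 : ∀ s' ∈ L10, s' * p ≠ p * s' → s' * q ≠ q * s' → s' * r ≠ r * s' →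
      ∃ θ : MulAut X, θ z = z ∧ θ p = p ∧ θ q = q ∧ θ r = r ∧ θ s = s' := fun s' hs h1 h2 h3 => by
    rcases (by decide +kernel : ∀ s' ∈ L10, s' * p ≠ p * s' → s' * q ≠ q * s' → s' * r ≠ r * s' →
      ∃ w ∈ List.map (wd [y, a, h, p]) [[], [1, 2, 3, 2, 1, 2, 3, 2, 3],
        [2, 1, 2, 3, 2, 1, 0, 3, 2, 3], [2, 0, 3, 2, 1, 2, 3, 2, 1, 3]],
        w * z * w⁻¹ = z ∧ w * p * w⁻¹ = p ∧ w * q * w⁻¹ = q ∧
        ((w * r * w⁻¹ = r ∧ w * s * w⁻¹ = s') ∨ (w * (s * z) * w⁻¹ = r ∧ w * (r * z) * w⁻¹ = s')))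
      s' hs h1 h2 h3 with ⟨w, -, e0, e1, e2, e | e⟩
    · exact ⟨MulAut.conj w, e0, e1, e2, e.1, e.2⟩
    · exact ⟨MulAut.conj w * tau, by simpa [tau_z] using e0, by simpa [tau_p] using e1,
        by simpa [tau_q] using e2, by simpa [tau_r] using e.1, by simpa [tau_s] using e.2⟩
  have s3 : ∀ r' ∈ L10, ∀ s' ∈ L10, r' * p ≠ p * r' → r' * q ≠ q * r' → s' * p ≠ p * s' →
      s' * q ≠ q * s' → s' * r' ≠ r' * s' →
      ∃ θ : MulAut X, θ z = z ∧ θ p = p ∧ θ q = q ∧ θ r = r' ∧ θ s = s' :=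
    fun r' hr s' hs h1 h2 h3 h4 h5 => by
    obtain ⟨w, -, e0, e1, e2, e3⟩ := (by decide +kernel : ∀ r' ∈ L10, r' * p ≠ p * r' →
      r' * q ≠ q * r' → ∃ w ∈ List.map (wd [y, a, h, p]) [[], [2, 1, 2, 3, 2, 1, 3, 2, 3], [0],
        [0, 2, 1, 2, 3, 2, 1, 3, 2, 3], [0, 0], [1, 2, 3, 2, 1, 2, 0, 3, 2, 3]],
        w * z = z * w ∧ w⁻¹ * p * w = p ∧ w⁻¹ * q * w = q ∧ w⁻¹ * r' * w = r) r' hr h1 h2
    obtain ⟨θ, f0, f1, f2, f3, f4⟩ := s4 _ (cl w e0 _ hs) (e1 ▸ nc w _ _ h3) (e2 ▸ nc w _ _ h4)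
      (e3 ▸ nc w _ _ h5)
    exact ⟨MulAut.conj w * θ, by simp [f0, e0], bk θ e1 f1, bk θ e2 f2, bk θ e3 f3, bk θ rfl f4⟩
  have s2 : ∀ q' ∈ L10, ∀ r' ∈ L10, ∀ s' ∈ L10, q' * p ≠ p * q' → r' * p ≠ p * r' →
      r' * q' ≠ q' * r' → s' * p ≠ p * s' → s' * q' ≠ q' * s' → s' * r' ≠ r' * s' →
      ∃ θ : MulAut X, θ z = z ∧ θ p = p ∧ θ q = q' ∧ θ r = r' ∧ θ s = s' :=
    fun q' hq r' hr s' hs h0 h1 h2 h3 h4 h5 => by
    obtain ⟨w, -, e0, e1, e2⟩ := (by decide +kernel : ∀ q' ∈ L10, q' * p ≠ p * q' →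
      ∃ w ∈ List.map (wd [y, a, h, p]) [[], [3], [1], [1, 3], [0, 1], [0, 1, 3], [0, 0, 1],
        [0, 0, 1, 3]], w * z = z * w ∧ w⁻¹ * p * w = p ∧ w⁻¹ * q' * w = q) q' hq h0
    obtain ⟨θ, f0, f1, f2, f3, f4⟩ := s3 _ (cl w e0 _ hr) _ (cl w e0 _ hs) (e1 ▸ nc w _ _ h1)
      (e2 ▸ nc w _ _ h2) (e1 ▸ nc w _ _ h3) (e2 ▸ nc w _ _ h4) (nc w _ _ h5)
    exact ⟨MulAut.conj w * θ, by simp [f0, e0], bk θ e1 f1, bk θ e2 f2, bk θ rfl f3, bk θ rfl f4⟩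
  obtain ⟨w, -, e0, e1⟩ := (by decide +kernel : ∀ p' ∈ L10,
    ∃ w ∈ List.map (wd [y, a, h, p]) [[], [2, 3, 2], [2], [3, 2], [1, 2], [1, 3, 2], [0, 1, 2],
      [0, 1, 3, 2], [0, 0, 1, 2], [0, 0, 1, 3, 2]], w * z = z * w ∧ w⁻¹ * p' * w = p) p' hp
  obtain ⟨θ, f0, f1, f2, f3, f4⟩ := s2 _ (cl w e0 _ hq) _ (cl w e0 _ hr) _ (cl w e0 _ hs)
    (e1 ▸ nc w _ _ pq) (e1 ▸ nc w _ _ pr) (nc w _ _ qr) (e1 ▸ nc w _ _ ps) (nc w _ _ qs) (nc w _ _ rs)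
  exact ⟨MulAut.conj w * θ, by simp [f0, e0], bk θ e1 f1, bk θ rfl f2, bk θ rfl f3, bk θ rfl f4⟩

end H8.JS
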