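import Cfsg.Agent.H21.JSW2b

/-! Tower JS, job `JobW2`: the Sylow `2`-subgroup of the model and its characteristic subgroups. -/

set_option autoImplicit false
set_option maxRecDepth 100000

namespace H8.JS.FE

open Cfsg Subgroup H49 H4 H8.JS H64.SG H21.SW
open H4.M2 (X g y p q r s t z a h gens)
open H4.QJ (tau tau_eq tau_tau)

def WS : List (List ℕ) := [[], [0], [1], [2], [3], [0, 1], [0, 2], [0, 3], [1, 2], [1, 3], [2, 0], [2, 1], [2, 3], [3, 0], [3, 1], [0, 1, 2], [0, 1, 3], [0, 2, 0], [0, 2, 1], [0, 2, 3], [0, 3, 0], [0, 3, 1], [1, 2, 0], [1, 2, 1], [1, 2, 3], [1, 3, 0], [1, 3, 1], [2, 0, 1], [2, 0, 2], [2, 0, 3], [2, 1, 2], [2, 1, 3], [2, 3, 0], [2, 3, 1], [3, 0, 1], [3, 0, 2], [3, 0, 3], [3, 1, 2], [3, 1, 3], [0, 1, 2, 0], [0, 1, 2, 1], [0, 1, 2, 3], [0, 1, 3, 0], [0, 1, 3, 1], [0, 2, 0, 1], [0, 2,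 0, 2], [0, 2, 0, 3], [0, 2, 1, 2], [0, 2, 1, 3], [0, 2, 3, 0], [0, 2, 3, 1], [0, 3, 0, 1], [0, 3, 0, 2], [0, 3, 0, 3], [0, 3, 1, 2], [0, 3, 1, 3], [1, 2, 0, 1], [1, 2, 1, 2], [1, 3, 0, 1], [1, 3, 0, 3], [0, 1, 2, 0, 1], [0, 1, 2, 1, 2], [0, 1, 3, 0, 1], [0, 1, 3, 0, 3], [4], [4, 0], [4, 1], [4, 2], [4, 3], [4, 0, 1], [4, 0, 2], [4, 0, 3], [4, 1, 2], [4, 1, 3], [4, 2, 0], [4, 2, 1], [4, 2, 3], [4, 3, 0], [4, 3, 1], [4, 0, 1, 2], [4, 0, 1, 3], [4, 0, 2, 0], [4, 0, 2, 1], [4, 0, 2, 3], [4, 0, 3, 0], [4, 0, 3, 1], [4, 1, 2, 0], [4, 1, 2, 1], [4, 1, 2, 3], [4, 1, 3, 0], [4, 1, 3, 1], [4, 2, 0, 1], [4, 2, 0, 2], [4, 2, 0, 3], [4, 2, 1, 2], [4, 2, 1, 3], [4, 2, 3, 0], [4, 2, 3, 1], [4, 3, 0, 1], [4, 3, 0, 2], [4, 3, 0, 3], [4, 3, 1, 2], [4, 3, 1, 3], [4, 0, 1, 2, 0], [4, 0, 1, 2, 1], [4, 0, 1, 2, 3], [4, 0, 1,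 3, 0], [4, 0, 1, 3, 1], [4, 0, 2, 0, 1], [4, 0, 2, 0, 2], [4, 0, 2, 0, 3], [4, 0, 2, 1, 2], [4, 0, 2, 1, 3], [4, 0, 2, 3, 0], [4, 0, 2, 3, 1], [4, 0, 3, 0, 1], [4, 0, 3, 0, 2], [4, 0, 3, 0, 3], [4, 0, 3, 1, 2], [4, 0, 3, 1, 3], [4, 1, 2, 0, 1], [4, 1, 2, 1, 2], [4, 1, 3, 0, 1], [4, 1, 3, 0, 3], [4, 0, 1, 2, 0, 1], [4, 0, 1, 2, 1, 2], [4, 0, 1, 3, 0, 1], [4, 0, 1, 3, 0, 3]]

noncomputable def L1 : List X := [a, c2, d1, d2, q]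
noncomputable def L2 : List X := [d2, d1, c2, a, q]
noncomputable def LS : List X := WS.map (wd L1)
noncomputable def SS : Subgroup X := closure {w | w ∈ L1}
noncomputable def QQ : Subgroup X := closure {w | w ∈ [p, q, r, s]}

theorem mem_SS {w : X} : w ∈ SS ↔ w ∈ LS := mem_cl_iff rfl (by decide +kernel)

theorem card_SS : Nat.card SS = 128 := card_of_iff (fun _ => mem_SS) (by decide +kernel)

theorem wS (l : List ℕ) : wd L1 l ∈ SS := wd_mem_closure _ _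

theorem tw (l : List ℕ) : tau (wd L1 l) = wd L2 l := by
  induction l with
  | nil => exact map_one _
  | cons i l ih =>
    change tau (nthD 1 L1 i * wd L1 l) = nthD 1 L2 i * wd L2 l
    rw [map_mul, ih]
    congr 1
    rcases i with _ | _ | _ | _ | _ | i
    exacts [tau_a, tau_c2, tau_d1, tau_d2, tau_q, map_one _]

theorem f1 : ∀ u ∈ LS, ∀ w ∈ [a, c2, d1, d2], u * w = w * u → u * u = 1 := by decide +kernel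

theorem f2 : ∀ u ∈ LS, u * d2 ≠ a * u ∧ u * d1 ≠ c2 * u ∧ u * c2 ≠ d1 * u ∧ u * a ≠ d2 * u := by
  decide +kernel

theorem f3 : ∀ u ∈ LS, u * u = 1 → u ∈ LP0 ∨ (u ∈ L10 ∧ ∃ l ∈ [[4, 0, 1, 2, 1], [1, 3]],
    u * wd L1 l = wd L1 l * u ∧ wd L1 l * wd L1 l ≠ 1) := by decide +kernel

theorem f4 : ∀ k ∈ WS, wd L1 k * wd L2 k = 1 → ∃ l ∈ [[0, 1, 2, 3], [0, 2, 1, 3], [4, 0, 1, 2, 1],
    [4, 0, 1, 3, 0], [4, 0, 2, 1, 3], [4, 0, 3, 0, 3]],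
    wd L1 k * wd L2 l = wd L1 l * wd L1 k ∧ wd L1 l * wd L1 l ≠ 1 := by decide +kernel

theorem f5 : ∀ u ∈ [q, r, s, t], u ∈ LS ∧ u * u = 1 ∧ u * p ≠ p * u ∧ ∀ w ∈ LP0, w * w = 1 →
    w * (u * w * u⁻¹) = u * w * u⁻¹ * w → InV w := by decide +kernel

theorem f6 : ∀ u ∈ LS, (u * p = p * u ∧ u * z = z * u) ∨
    a * (u * d2 * u⁻¹) = u * d2 * u⁻¹ * a := by decide +kernel

theorem f7 : ∀ u ∈ LP0, u * p = p * u ∧ u * z = z * u ∧ InV (u * u) ∧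
    (u * a = a * u → u * d1 = d1 * u → InV u) := by decide +kernel

end H8.JS.FE
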