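import Cfsg.Agent.H8.JSSpec

/-! Tower JS: facts about the model of the Hall–Janko group. -/

set_option autoImplicit false
set_option maxRecDepth 100000

namespace H8.JS

open Cfsg Subgroup H98 H1.Gold H49 H71 H4
open H4.M2 (X CA AA g y p q r s t z a h)
open H4.QJ (tau tau_eq tau_tau dec)

noncomputable instance instDecInV : DecidablePred InV := fun w => by unfold InV; infer_instance

noncomputable def SC1 : List X := List.map (wd [y, a, h, p]) [[2, 3, 2], [2, 0, 1, 2], [0, 3, 2, 1, 2, 0, 3]]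
noncomputable def SC0 : List X := [y, a, h, p] ++ SC1
noncomputable def cC : List (Lv CA) := [⟨SC0, [[], [0], [1], [2], [3], [0, 0], [1, 0], [2, 0], [3, 0], [0, 1], [2, 1], [3, 1], [4, 1], [5, 1], [6, 1], [0, 2], [4, 2], [5, 2], [6, 2], [4, 3], [5, 3], [3, 0, 0], [5, 0, 0], [6, 0, 0], [0, 1, 0], [3, 1, 0], [4, 1, 0], [6, 1, 0], [4, 2, 0], [5, 2, 0], [6, 2, 0], [4, 3, 0], [6, 3, 0], [0, 0, 1], [1, 0, 1], [3, 0, 1], [4, 0, 1], [6, 0, 1], [1, 2, 1], [3, 2, 1], [4, 2, 1], [3, 4, 1], [6, 4, 1], [0, 5, 1], [3, 5, 1], [6, 5, 1], [1, 6, 1], [5, 6, 1], [6, 6, 1], [1, 0, 2], [4, 0, 2], [6, 0, 2], [1, 4, 2], [3, 5, 2], [2, 6, 2], [5, 6, 2], [6, 6, 2], [1, 4, 3], [3, 4, 3], [4, 3, 0, 0], [6, 5, 0, 0], [2, 6, 0, 0], [4, 0, 1, 0], [3, 4, 1, 0], [6, 4, 1, 0], [0, 6, 1, 0], [6, 4, 2, 0], [6, 4, 0, 1], [2, 6, 0, 1], [4, 1, 2, 1], [5, 3, 4, 1], [1, 6, 4, 1], [6, 6, 4, 1], [6, 0, 5, 1], [4, 3, 5, 1], [1, 6, 5, 1], [3, 6, 5, 1],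 [5, 6, 0, 2], [6, 1, 4, 2], [3, 4, 3, 0, 0]], 6,
    pap 7 127 2972823559011038827918720553120479603041524367280603997306638090921153695951257106301283803778567237839285964076543172382224874478236811011933252621332612547639621567399394519562525201876232796129589898323689472⟩,
  ⟨SC1, [[], [0], [1], [2], [1, 0], [2, 0], [1, 1], [2, 1], [1, 2], [2, 2], [1, 1, 0], [2, 1, 0], [1, 2, 0], [2, 2, 0], [2, 1, 1], [1, 2, 1], [2, 2, 1], [1, 1, 2], [1, 2, 2], [1, 2, 1, 0], [1, 2, 1, 1], [2, 2, 1, 1], [1, 1, 2, 1], [1, 1, 2, 2]], 15,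
    pap 7 127 945180868214247957198677434350858839872388428497334173980099576976501448136182537458801810292615583283228224500964860867535641773201512546115671579149074269837879284887532451925226171858192476108936668820537344⟩]
theorem cC_lb : lbOK AA cC = true := by decide +kernel

/-- transversals whose products run through `C(z)` -/
noncomputable def T0 : List (List X) := trs cC

theorem card_C0 : Nat.card (cen1 z) = 1920 := by
  rw [← M2.jm.card_range]
  congr 2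
  refine le_antisymm (fun w hw => M2.pull (mem_centralizer_singleton_iff.1 hw)) ?_
  rintro _ ⟨w, rfl⟩
  exact mem_centralizer_singleton_iff.2 (M2.io_z ▸ M2.jm.comm w)

theorem SC0_le : closure {w | w ∈ SC0} ≤ cen1 z :=
  (closure_le _).2 fun w hw => mem_centralizer_singleton_iff.2
    ((by decide +kernel : ∀ w ∈ SC0, w * z = z * w) w hw)

theorem SC0_eq : closure {w | w ∈ SC0} = cen1 z :=
  eq_of_le_of_card_ge SC0_le (card_C0.le.trans
    ((by decide +kernel : 1920 ≤ lenP cC).trans (le_card_of_lbOK cC_lb)))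

theorem all0 {P : X → Prop} [DecidablePred P]
    (hP : allProd T0 (fun w => decide (P w)) = true) (w : X) (hw : w * z = z * w) : P w :=
  forall_of_card cC_lb (L := cC) ((card_le_of_le SC0_le).trans
    (card_C0.le.trans (by decide +kernel))) hP
    (show w ∈ closure {w | w ∈ SC0} from SC0_eq ▸ mem_centralizer_singleton_iff.2 hw)

/-- `C(z) = ⟨y, a, h, p⟩` -/
theorem gen0 {K : Subgroup X} (h1 : y ∈ K) (h2 : a ∈ K) (h3 : h ∈ K) (h4 : p ∈ K) (w : X)
    (hw : w * z = z * w) : w ∈ K := by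
  have h0 : ∀ u ∈ [y, a, h, p], u ∈ K.toSubmonoid := by simpa using ⟨h1, h2, h3, h4⟩
  refine (closure_le K).2 (fun u hu => ?_)
    (show w ∈ closure {w | w ∈ SC0} from SC0_eq ▸ mem_centralizer_singleton_iff.2 hw)
  rcases List.mem_append.1 hu with hu | hu
  · exact h0 u hu
  · obtain ⟨l, -, rfl⟩ := List.mem_map.1 hu
    exact wd_mem h0 l

/-- `C(z)` is generated by three involutions -/
theorem gen0' {K : Subgroup X} (h1 : a ∈ K) (h2 : h ∈ K) (h3 : y * p * h * p ∈ K) (w : X)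
    (hw : w * z = z * w) : w ∈ K := by
  have h0 : ∀ u ∈ [a, h, y * p * h * p], u ∈ K.toSubmonoid := by simpa using ⟨h1, h2, h3⟩
  refine gen0 ?_ h1 h2 ?_ w hw
  · rw [show y = wd [a, h, y * p * h * p] [2, 1, 2, 1, 2, 1, 2, 1] by decide +kernel]
    exact wd_mem h0 _
  · rw [show p = wd [a, h, y * p * h * p] [0, 1, 0, 1, 2, 0, 1, 0, 2, 1, 0, 1] by decide +kernel]
    exact wd_mem h0 _

theorem ind0 {K : Subgroup X} (hK : ∀ w, w * z = z * w → w * w = 1 → w ∈ K) (w : X)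
    (hw : w * z = z * w) : w ∈ K :=
  gen0' (hK _ (by decide +kernel) (by decide +kernel)) (hK _ (by decide +kernel) (by decide +kernel))
    (hK _ (by decide +kernel) (by decide +kernel)) w hw

theorem tau_z : tau z = z := tau_eq.2 (by decide +kernel)
theorem tau_p : tau p = p := tau_eq.2 (by decide +kernel)
theorem tau_q : tau q = q := tau_eq.2 (by decide +kernel)
theorem tau_r : tau r = s * z := tau_eq.2 (by decide +kernel)
theorem tau_s : tau s = r * z := tau_eq.2 (by decide +kernel)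
theorem tau_t : tau t = t * z := tau_eq.2 (by decide +kernel)
theorem tau_y : tau y = y⁻¹ := tau_eq.2 (by decide +kernel)
theorem tau_a : tau a = d2 := tau_eq.2 (by decide +kernel)
theorem tau_c2 : tau c2 = d1 := tau_eq.2 (by decide +kernel)
theorem tau_d1 : tau d1 = c2 := tau_eq.2 (by decide +kernel)
theorem tau_d2 : tau d2 = a := tau_eq.2 (by decide +kernel)
theorem tau_h : tau h = h * z := QJ.tau_h
theorem tau_g : tau g = g * p := tau_eq.2 (by decide +kernel)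

theorem dec0 (θ : MulAut X) (hθ : θ z = z) :
    ∃ w, w * z = z * w ∧ (θ = MulAut.conj w ∨ θ = MulAut.conj w * tau) := by
  obtain ⟨w, e⟩ := dec θ
  refine ⟨w, mul_inv_eq_iff_eq_mul.1 ?_, e⟩
  rcases e with rfl | rfl
  · exact hθ
  · simpa [tau_z] using hθ

/-- pointwise form -/
theorem dec0' (θ : MulAut X) (hθ : θ z = z) : ∃ w, w * z = z * w ∧
    ((θ = MulAut.conj w ∧ ∀ u, w * u = θ u * w) ∨
      (θ = MulAut.conj w * tau ∧ ∀ u, w * tau u = θ u * w)) := by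
  obtain ⟨w, hw, rfl | rfl⟩ := dec0 θ hθ
  · exact ⟨w, hw, .inl ⟨rfl, fun u => by simp⟩⟩
  · exact ⟨w, hw, .inr ⟨rfl, fun u => by simp⟩⟩

theorem autz (θ : MulAut X) : IsConj z (θ z) := by
  obtain ⟨w, rfl | rfl⟩ := dec θ
  · exact isConj_iff.2 ⟨w, rfl⟩
  · exact isConj_iff.2 ⟨w, by simp [tau_z]⟩

theorem nza : ¬ IsConj z a := fun e =>
  absurd (M2.LZ_iff.2 e) (by decide +kernel)

noncomputable def LE1 : List X := List.map (wd [z, p, a, c2]) [[], [0], [1], [2], [3], [0, 1], [0, 2],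
  [0, 3], [1, 2], [1, 3], [2, 3], [0, 1, 2], [0, 1, 3], [0, 2, 3], [1, 2, 3], [0, 1, 2, 3]]

theorem mem_E1 {w : X} : w ∈ E1 ↔ w ∈ LE1 := mem_cl_iff rfl (by decide +kernel)

noncomputable def LP0 : List X := List.map (wd [a, c2, d1, d2]) [[], [0], [1], [2], [3], [0, 1], [0, 2], [0, 3], [1, 2], [1, 3], [2, 0], [2, 1], [2, 3], [3, 0], [3, 1], [0, 1, 2], [0, 1, 3], [0, 2, 0], [0, 2, 1], [0, 2, 3], [0, 3, 0], [0, 3, 1], [1, 2, 0], [1, 2, 1], [1, 2, 3], [1, 3, 0], [1, 3, 1], [2, 0, 1], [2, 0, 2], [2, 0, 3], [2, 1, 2], [2, 1, 3], [2, 3, 0], [2, 3, 1], [3, 0, 1], [3, 0, 2], [3, 0, 3], [3, 1, 2], [3, 1, 3], [0, 1, 2, 0], [0, 1, 2, 1], [0, 1, 2, 3], [0, 1, 3, 0], [0, 1, 3, 1], [0, 2, 0, 1], [0, 2, 0, 2], [0, 2, 0, 3], [0, 2, 1, 2], [0, 2, 1, 3], [0, 2, 3, 0], [0, 2, 3, 1], [0, 3, 0, 1], [0, 3, 0, 2], [0, 3, 0, 3], [0, 3, 1, 2], [0, 3, 1, 3], [1, 2, 0, 1], [1, 2, 1, 2], [1, 3, 0, 1], [1, 3, 0, 3], [0, 1, 2, 0, 1], [0,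 1, 2, 1, 2], [0, 1, 3, 0, 1], [0, 1, 3, 0, 3]]

theorem mem_P0 {w : X} : w ∈ P0 ↔ w ∈ LP0 := mem_cl_iff rfl (by decide +kernel)

theorem cQ1 (w : X) (hw : w * z = z * w) :
    w * p = p * w → w * q = q * w → w * r = r * w → w * s = s * w → w = 1 ∨ w = z :=
  all0 (P := fun w => w * p = p * w → w * q = q * w → w * r = r * w → w * s = s * w → w = 1 ∨ w = z)
    (by decide +kernel) w hw

theorem cQ (θ : MulAut X) (h1 : θ p = p) (h2 : θ q = q) (h3 : θ r = r) (h4 : θ s = s) :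
    θ = 1 ∨ θ = MulAut.conj z := by
  have h0 : θ z = z := by
    rw [show z = p * q * (p * q) by decide +kernel]; simp only [map_mul, h1, h2]
  obtain ⟨w, hw, ⟨e, f⟩ | ⟨e, f⟩⟩ := dec0' θ h0
  · rcases cQ1 w hw (by rw [f, h1]) (by rw [f, h2]) (by rw [f, h3]) (by rw [f, h4]) with rfl | rfl
    · exact .inl (by simpa using e)
    · exact .inr e
  · exact (all0 (P := fun w => w * p = p * w → w * q = q * w → w * (s * z) = r * w →
      w * (r * z) = s * w → False) (by decide +kernel) w hw (by rw [← tau_p, f, h1, tau_p])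
      (by rw [← tau_q, f, h2, tau_q]) (by rw [← tau_r, f, h3]) (by rw [← tau_s, f, h4])).elim

theorem cP (θ : MulAut X) (h1 : θ a = a) (h2 : θ c2 = c2) (h3 : θ d1 = d1) (h4 : θ d2 = d2) :
    ∃ w, InV w ∧ θ = MulAut.conj w := by
  have h0 : θ z = z := by
    rw [show z = a * d1 * (a * d1) by decide +kernel]; simp only [map_mul, h1, h3]
  obtain ⟨w, hw, ⟨e, f⟩ | ⟨e, f⟩⟩ := dec0' θ h0
  · exact ⟨w, all0 (P := fun w => w * a = a * w → w * c2 = c2 * w → w * d1 = d1 * w →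
      w * d2 = d2 * w → InV w) (by decide +kernel) w hw (by rw [f, h1]) (by rw [f, h2])
      (by rw [f, h3]) (by rw [f, h4]), e⟩
  · exact (all0 (P := fun w => w * a = d2 * w → w * d2 = a * w → w * d1 = c2 * w →
      w * c2 = d1 * w → False) (by decide +kernel) w hw (by rw [← tau_d2, f, h4])
      (by rw [← tau_a, f, h1]) (by rw [← tau_c2, f, h2]) (by rw [← tau_d1, f, h3])).elim

theorem cE (θ : MulAut X) (h0 : θ z = z) (h1 : θ p = p) (h2 : θ a = a) (h3 : θ c2 = c2) :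
    ∃ w ∈ E1, θ = MulAut.conj w := by
  obtain ⟨w, hw, ⟨e, f⟩ | ⟨e, f⟩⟩ := dec0' θ h0
  · exact ⟨w, mem_E1.2 (all0 (P := fun w => w * a = a * w → w ∈ LE1) (by decide +kernel) w hw
      (by rw [f, h2])), e⟩
  · exact (all0 (P := fun w => w * p = p * w → w * d2 = a * w → w * d1 = c2 * w → False)
      (by decide +kernel) w hw (by rw [← tau_p, f, h1, tau_p])
      (by rw [← tau_a, f, h2]) (by rw [← tau_c2, f, h3])).elim

theorem tP (θ : MulAut X) (h0 : θ z = z) (h1 : θ p = p)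
    (h2 : ∀ w ∈ [a, c2, d1, d2], InV (θ w * w⁻¹)) : ∃ l ∈ P0, θ = MulAut.conj l := by
  obtain ⟨w, hw, ⟨e, f⟩ | ⟨e, f⟩⟩ := dec0' θ h0
  · refine ⟨w, mem_P0.2 (all0 (P := fun w => w * p = p * w → InV (w * a * w⁻¹ * a⁻¹) → w ∈ LP0)
      (by decide +kernel) w hw (by rw [f, h1]) ?_), e⟩
    rw [f, mul_inv_cancel_right]; exact h2 _ (by simp)
  · refine (all0 (P := fun w => w * p = p * w → InV (w * d2 * w⁻¹ * a⁻¹) →
      InV (w * d1 * w⁻¹ * c2⁻¹) → InV (w * a * w⁻¹ * d2⁻¹) → False)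
      (by decide +kernel) w hw (by rw [← tau_p, f, h1, tau_p]) ?_ ?_ ?_).elim
    · rw [← tau_a, f, mul_inv_cancel_right]; exact h2 _ (by simp)
    · rw [← tau_c2, f, mul_inv_cancel_right]; exact h2 _ (by simp)
    · rw [← tau_d2, f, mul_inv_cancel_right]; exact h2 _ (by simp)

theorem tv (θ : MulAut X) (h0 : θ z = z) (h1 : ∀ w ∈ E1, θ w = w ∨ θ w = w * z) :
    ∀ w ∈ E1, θ w = w := by
  have m : ∀ w ∈ [z, p, a, c2], w ∈ E1 := fun w hw => subset_closure hw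
  have k : ∀ {u v w : X}, u = θ v * w → v ∈ [z, p, a, c2] → u = v * w ∨ u = v * z * w :=
    fun e hv => (h1 _ (m _ hv)).imp (fun e' => by rw [e, e']) fun e' => by rw [e, e']
  obtain ⟨w, hw, ⟨e, f⟩ | ⟨e, f⟩⟩ := dec0' θ h0
  · have := all0 (P := fun w => (w * a = a * w ∨ w * a = a * z * w) →
      (w * c2 = c2 * w ∨ w * c2 = c2 * z * w) → (w * p = p * w ∨ w * p = p * z * w) →
      ∀ u ∈ LE1, w * u = u * w) (by decide +kernel) w hw (k (f _) (by simp)) (k (f _) (by simp))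
      (k (f _) (by simp))
    exact fun u hu => mul_right_cancel ((f u).symm.trans (this u (mem_E1.1 hu)))
  · exact (all0 (P := fun w => (w * d2 = a * w ∨ w * d2 = a * z * w) →
      (w * d1 = c2 * w ∨ w * d1 = c2 * z * w) → (w * p = p * w ∨ w * p = p * z * w) → False)
      (by decide +kernel) w hw (k (tau_a ▸ f _) (by simp)) (k (tau_c2 ▸ f _) (by simp))
      (k ((congrArg _ tau_p).symm.trans (f _)) (by simp))).elim

/-- the non-central involutions of `O₂(C(z))` -/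
noncomputable def L10 : List X := [p, p * z, q, q * z, r, r * z, s, s * z, t, t * z]

theorem conj_L10 (w : X) (hw : w * z = z * w) : ∀ u ∈ [p, q, r, s], w * u * w⁻¹ ∈ L10 :=
  all0 (P := fun w => ∀ u ∈ [p, q, r, s], w * u * w⁻¹ ∈ L10) (by decide +kernel) w hw

theorem mem_L10 (u : X) (hu : u * z = z * u) :
    u * u = 1 → (u * (a * h * u * (a * h)⁻¹)) ^ 4 = 1 → u = 1 ∨ u = z ∨ u ∈ L10 :=
  all0 (P := fun u => u * u = 1 → (u * (a * h * u * (a * h)⁻¹)) ^ 4 = 1 → u = 1 ∨ u = z ∨ u ∈ L10)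
    (by decide +kernel) u hu

theorem ny (w : X) (hw : w * z = z * w) : w * p = p * w → y * (w * y * w⁻¹) ∉ P0 := fun e1 e2 =>
  all0 (P := fun w => w * p = p * w → y * (w * y * w⁻¹) ∉ LP0) (by decide +kernel) w hw e1
    (mem_P0.1 e2)

end H8.JS
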