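/- Tower KU (S2196), slot K2: Weyl conjugates of `φ ∘ α`. -/
import Cfsg.Agent.H53.KUSpec

set_option autoImplicit false

namespace H8.KUK2

open H53.KU

variable {F : Type} [Field F] {r : ℕ}

/-- The five possible values. -/
def Five (q : ℕ) (φ : Fˣ →* ℂˣ) (ψ : Fˣ → ℂˣ) : Prop :=
  (∀ g, ψ g = 1) ∨ (∀ g, ψ g = φ g) ∨ (∀ g, ψ g = (φ g)⁻¹) ∨ (∀ g, ψ g = φ g ^ q) ∨
    ∀ g, ψ g = (φ g ^ q)⁻¹

theorem Five.inv {q : ℕ} {φ : Fˣ →* ℂˣ} {ψ ψ' : Fˣ → ℂˣ} (h : Five q φ ψ) (e : ∀ g, ψ' g = (ψ g)⁻¹) :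
    Five q φ ψ' := by
  rcases h with h | h | h | h | h
  · exact Or.inl fun g => by rw [e, h, inv_one]
  · exact Or.inr (Or.inr (Or.inl fun g => by rw [e, h]))
  · exact Or.inr (Or.inl fun g => by rw [e, h, inv_inv])
  · exact Or.inr (Or.inr (Or.inr (Or.inr fun g => by rw [e, h])))
  · exact Or.inr (Or.inr (Or.inr (Or.inl fun g => by rw [e, h, inv_inv])))

theorem eig_single_ne (q : ℕ) {s i : Fin (r + 3)} (h : i ≠ s) (b : Bool) (g : Fˣ) :
    eig q (Pi.mulSingle s g : Fin (r + 3) → Fˣ) i b = 1 := by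
  unfold eig
  rw [Pi.mulSingle_eq_of_ne h]
  split_ifs <;> simp

theorem five_eig (q : ℕ) (φ : Fˣ →* ℂˣ) (s : Fin (r + 3)) (b : Bool) :
    Five q φ fun g => φ (eig q (Pi.mulSingle s g : Fin (r + 3) → Fˣ) s b) := by
  unfold eig
  cases b
  · exact Or.inr (Or.inl fun g => by simp)
  · exact Or.inr (Or.inr (Or.inr (Or.inr fun g => by simp)))

/-- The right-hand values. -/
def R (q : ℕ) (φ : Fˣ →* ℂˣ) (π : Equiv.Perm (Fin (r + 3))) (ε : Fin (r + 3) → Bool) (s : Fin (r + 3))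
    (g : Fˣ) : ℂˣ := φ (al (sw q π ε (Pi.mulSingle s g)))

theorem R_one (q : ℕ) (φ : Fˣ →* ℂˣ) {π : Equiv.Perm (Fin (r + 3))} (ε : Fin (r + 3) → Bool)
    {s : Fin (r + 3)} (h0 : π 0 ≠ s) (h1 : π 1 ≠ s) (g : Fˣ) : R q φ π ε s g = 1 := by
  unfold R
  rw [al_apply, sw_apply, sw_apply, eig_single_ne q h0, eig_single_ne q h1]
  simp

theorem zero_ne_one' : (0 : Fin (r + 3)) ≠ 1 := by simp

theorem five_R (q : ℕ) (φ : Fˣ →* ℂˣ) (π : Equiv.Perm (Fin (r + 3))) (ε : Fin (r + 3) → Bool)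
    (s : Fin (r + 3)) : Five q φ (R q φ π ε s) := by
  have hne : π 0 ≠ π 1 := fun h => zero_ne_one' (π.injective h)
  by_cases h0 : π 0 = s
  · subst h0
    have := five_eig q φ (π 0) (ε 0)
    convert this using 2 with g
    unfold R
    rw [al_apply, sw_apply, sw_apply, eig_single_ne q hne.symm, div_one]
  · by_cases h1 : π 1 = s
    · subst h1
      refine (five_eig q φ (π 1) (ε 1)).inv fun g => ?_
      unfold R
      rw [al_apply, sw_apply, sw_apply, eig_single_ne q hne, one_div, map_inv]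
    · exact Or.inl (R_one q φ ε h0 h1)

theorem jobK2 : JobK2 := by
  intro F _ r q o φ φ' ⟨π, ε, h⟩
  have key : ∀ (s t : Fin (r + 3)) (g : Fˣ),
      φ' (al (Pi.mulSingle s g : Fin (r + 3) → Fˣ)) / φ' (al (Pi.mulSingle t g : Fin (r + 3) → Fˣ)) =
        R q φ π ε s g / R q φ π ε t g := by
    intro s t g
    have := h (Pi.mulSingle s g / Pi.mulSingle t g) (Or.inr (by
      simp [Finset.prod_div_distrib]))
    simpa only [MonoidHom.comp_apply, map_div, R] using this
  have v2 : ((2 : Fin (r + 3)) : ℕ) = 2 := Nat.mod_eq_of_lt (show 2 < r + 3 by omega)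
  have h20 : (0 : Fin (r + 3)) ≠ 2 := by
    intro e
    have := congrArg Fin.val e
    rw [v2] at this
    simp at this
  have h21 : (1 : Fin (r + 3)) ≠ 2 := by
    intro e
    have := congrArg Fin.val e
    rw [v2] at this
    simp at this
  have L0 : ∀ g : Fˣ, φ' (al (Pi.mulSingle 0 g : Fin (r + 3) → Fˣ)) = φ' g := fun g => by
    rw [al_apply, Pi.mulSingle_eq_same, Pi.mulSingle_eq_of_ne zero_ne_one'.symm, div_one]
  have L1 : ∀ g : Fˣ, φ' (al (Pi.mulSingle 1 g : Fin (r + 3) → Fˣ)) = (φ' g)⁻¹ := fun g => by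
    rw [al_apply, Pi.mulSingle_eq_same, Pi.mulSingle_eq_of_ne zero_ne_one', one_div, map_inv]
  have L2 : ∀ g : Fˣ, φ' (al (Pi.mulSingle 2 g : Fin (r + 3) → Fˣ)) = 1 := fun g => by
    rw [al_apply, Pi.mulSingle_eq_of_ne h20, Pi.mulSingle_eq_of_ne h21, div_one, map_one]
  have main : Five q φ φ' := by
    by_cases a0 : π 0 ≠ 0 ∧ π 1 ≠ 0
    · refine (five_R q φ π ε 2).inv fun g => ?_
      have := key 0 2 g
      rwa [L0, L2, R_one q φ ε a0.1 a0.2, div_one, one_div] at this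
    · by_cases a1 : π 0 ≠ 1 ∧ π 1 ≠ 1
      · have e : ∀ g, φ' g = R q φ π ε 2 g := fun g => by
          have := key 1 2 g
          rw [L1, L2, R_one q φ ε a1.1 a1.2, div_one, one_div] at this
          exact inv_injective this
        have := five_R q φ π ε 2
        rwa [← funext e] at this
      · have hne : π 0 ≠ π 1 := fun h => zero_ne_one' (π.injective h)
        have b : π 0 ≠ 2 ∧ π 1 ≠ 2 := by
          rw [not_and_or, not_not, not_not] at a0 a1
          rcases a0 with a0 | a0 <;> rcases a1 with a1 | a1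
          · exact absurd (a0.symm.trans a1) zero_ne_one'
          · exact ⟨by rw [a0]; exact h20, by rw [a1]; exact h21⟩
          · exact ⟨by rw [a1]; exact h21, by rw [a0]; exact h20⟩
          · exact absurd (a0.symm.trans a1) zero_ne_one'
        have e : ∀ g, φ' g = R q φ π ε 0 g := fun g => by
          have := key 0 2 g
          rwa [L0, L2, R_one q φ ε b.1 b.2, div_one, div_one] at this
        have := five_R q φ π ε 0
        rwa [← funext e] at this
  rcases main with m | m | m | m | m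
  · exact Or.inl (MonoidHom.ext m)
  · exact Or.inr (Or.inl (MonoidHom.ext m))
  · exact Or.inr (Or.inr (Or.inl (MonoidHom.ext m)))
  · exact Or.inr (Or.inr (Or.inr (Or.inl (MonoidHom.ext m))))
  · exact Or.inr (Or.inr (Or.inr (Or.inr (MonoidHom.ext m))))

end H8.KUK2
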