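import Cfsg.Agent.H63.KgvSpec

/-! Tower KGV (S4954), slot I2: the semilinear step. -/

set_option autoImplicit false

namespace H8.KgvI2

open Finset Cfsg H63.Kgv

universe u

theorem lin_em {K : Type} [Field K] [Fintype K] (θ : Kˣ →* ℂˣ) {E : Type u} [Group E] (φ : E → ℂ)
    (h : E) (h1 : φ 1 = 1) (he : Eg θ φ h (em θ φ h)) {p : ℕ} (Hf : ZMod p → Kˣ → ℂ) (d : ℕ) :
    ∃ w : Kˣ, φ h = θ w ∧ ∀ t, gam θ Hf d φ t h = Hf t w ^ d := by
  classical
  have e0 := he 0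
  simp only [pow_zero, mul_one, h1] at e0
  have e0' : ∑ x : Kˣ, em θ φ h x = 1 := by exact_mod_cast (by convert e0.symm; push_cast; rfl :
    ((∑ x : Kˣ, em θ φ h x : ℕ) : ℂ) = 1)
  obtain ⟨w, -, hw0⟩ := Finset.exists_ne_zero_of_sum_ne_zero (e0'.trans_ne one_ne_zero)
  have hs := Finset.add_sum_erase Finset.univ (em θ φ h) (Finset.mem_univ w)
  have hw : em θ φ h w = 1 := by omega
  have hz : ∀ b ∈ (Finset.univ : Finset Kˣ), b ≠ w → em θ φ h b = 0 := fun b hb hbw =>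
    Finset.sum_eq_zero_iff.1 (by omega : ∑ x ∈ Finset.univ.erase w, em θ φ h x = 0) b
      (Finset.mem_erase.2 ⟨hbw, hb⟩)
  refine ⟨w, ?_, fun t => ?_⟩
  · have e1 := he 1
    simp only [pow_one] at e1
    rw [e1, Finset.sum_eq_single w, hw]
    · simp
    · intro b _ hb
      rw [hz b (Finset.mem_univ _) hb]
      simp
    · simp
  · unfold gam
    rw [Finset.prod_eq_single w, hw, mul_one]
    · intro b _ hb
      rw [hz b (Finset.mem_univ _) hb]
      simp
    · simp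

theorem job : JI2.{u} := by
  intro eg sm vl gl p _ M K _ _ θ a Hf hs E _ _ hE H _ d x χ φ hid hd hχ hmul h1 hq hne
  classical
  have hp : p.Prime := Fact.out
  let _ : Fintype H := Fintype.ofFinite _
  have hpow : ∀ (h : H) (n : ℕ), φ (h ^ n) = φ h ^ n := fun h n => by
    induction n with
    | zero => simpa using h1
    | succ n ih => rw [pow_succ, hmul, ih, pow_succ]
  have hcj : ∀ k h : H, φ (k * h * k⁻¹) = φ h := fun k h => by
    rw [hmul, hmul, mul_right_comm, ← hmul, mul_inv_cancel, h1, one_mul]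
  have hidx := hid.idx
  have hsq : ∀ y : E, y ^ 2 ∈ H := fun y => by
    have := H.pow_index_mem y
    rwa [hidx] at this
  have h2M : 2 ∣ p ^ M - 1 := (show 2 ∣ Nat.card E by rw [← hidx]; exact H.index_dvd_card).trans hE
  have hpM : 1 ≤ p ^ M := Nat.one_le_pow _ _ hp.pos
  have hodd : Odd p := by
    rcases hp.eq_two_or_odd' with h | h
    · exfalso
      have : 2 ∣ p ^ M := by rw [h]; exact dvd_pow_self 2 hs.pos.ne'
      omega
    · exact h
  have hd0 : 0 < d := Nat.pos_of_dvd_of_pos hd hs.pos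
  have h2d : 2 ∣ p ^ d - 1 := by
    obtain ⟨k, hk⟩ := hodd.pow (n := d)
    omega
  have hq2 : 2 ≤ p ^ d := le_trans hp.two_le (Nat.le_self_pow hd0.ne' p)
  have h2 : (2 : ZMod p) ≠ 0 := fun h => by
    have : ((2 : ℕ) : ZMod p) = 0 := by exact_mod_cast h
    rw [ZMod.natCast_eq_zero_iff] at this
    have := (Nat.prime_dvd_prime_iff_eq hp Nat.prime_two).1 this
    rw [this] at hodd
    exact absurd hodd (by decide)
  have hexp : ∀ h : H, h ^ (p ^ M - 1) = 1 := fun h => by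
    obtain ⟨k, hk⟩ := hE
    apply Subtype.ext
    rw [SubgroupClass.coe_pow, hk, pow_mul, pow_card_eq_one', one_pow]
    rfl
  have hqq : ∀ h : H, (φ h ^ p ^ d) ^ p ^ d = φ h := fun h => by
    rw [← hpow h, hq, ← hpow, hq, ← hcj ⟨x ^ 2, hsq x⟩ h]
    congr 1
    apply Subtype.ext
    simp [MulAut.conjNormal_apply, sq, mul_assoc]
  have hd2 : d * 2 ∣ M := by
    obtain ⟨k, hk⟩ := hd
    obtain ⟨h, hh⟩ := hne
    rcases Nat.even_or_odd' k with ⟨j, rfl | rfl⟩
    · exact ⟨j, by rw [hk]; ring⟩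
    · exfalso
      apply hh
      have e1 : φ h ^ p ^ M = φ h := by
        rw [← hpow, show p ^ M = p ^ M - 1 + 1 by omega, pow_succ, hexp, one_mul]
      have e2 : ∀ i, φ h ^ p ^ (d * (2 * i)) = φ h := fun i => by
        induction i with
        | zero => simp
        | succ i ih =>
          rw [show d * (2 * (i + 1)) = d * (2 * i) + d + d by ring, pow_add, pow_add, pow_mul,
            pow_mul, ih, hqq]
      rw [hk, show d * (2 * j + 1) = d * (2 * j) + d by ring, pow_add, pow_mul, e2] at e1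
      rw [hpow, e1]
  have hK : Nat.card Kˣ = p ^ M - 1 := by
    rw [Nat.card_units, Nat.card_eq_fintype_card, hs.card]
  have : Fact (Nat.Prime 2) := ⟨Nat.prime_two⟩
  obtain ⟨ω, hω⟩ := exists_prime_orderOf_dvd_card' (G := Kˣ) 2 (hK ▸ h2M)
  obtain ⟨n, -, hv⟩ := vl p M K θ a Hf hs E hE H 2 d x χ φ ω hid hd h2d hω hχ
  obtain ⟨m, hm⟩ := hs.cong 2 d ω Nat.prime_two hd h2d hω
  have hw : ∀ h : H, ∃ w : Kˣ, φ h = θ w ∧ ∀ t, gam θ Hf d φ t h = Hf t w ^ d := fun h =>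
    lin_em θ φ h h1 ((eg K θ H hs.inj).2 φ h hid.ch (by rw [hs.card]; exact hexp h)) Hf d
  have hinj : ∀ w w' : Kˣ, (θ w : ℂ) = θ w' → w = w' := fun w w' e => hs.inj (Units.ext e)
  have hfr : ∀ t, t ≠ 0 → ∀ (w : Kˣ) (i : ℕ), Hf t (w ^ p ^ i) = Hf t w := fun t ht w i => by
    induction i with
    | zero => simp
    | succ i ih => rw [pow_succ, pow_mul, hs.frob t _ ht, ih]
  let Γ : ZMod p → E → ℂ := fun t y =>
    if hy : y ∈ H then -∑ j ∈ range ((p ^ d) ^ 2 - 1), ee p (t * a (d * 2) j) * φ ⟨y, hy⟩ ^ j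
    else -∑ i ∈ range (p ^ d - 1), ee p (2 * t * a d i) * φ ⟨y ^ 2, hsq y⟩ ^ i
  have hΓ : Good p E Γ := by
    refine sm p E H (p ^ d) x φ (a (d * 2)) (a d) Γ hq2 hidx hid.out hmul h1
      (fun h => by rw [← hpow, hq]) (fun j => ?_) (fun i => hs.s2 d i hd2) (fun t h => ?_)
      (fun t y h hy e => ?_)
    · rw [← pow_mul]
      exact hs.s1 d j hd2
    · simp only [Γ, dif_pos h.2]
    · have : h = ⟨y ^ 2, hsq y⟩ := Subtype.ext e
      simp only [Γ, dif_neg hy, this]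
  refine gl p E H 2 n m Γ _ hidx hΓ fun t ht => ⟨fun y hy => ?_, fun y hy => ?_⟩
  · obtain ⟨w, e1, e2⟩ := hw ⟨y, hy⟩
    obtain ⟨w', e3, e4⟩ := hw (MulAut.conjNormal x ⟨y, hy⟩)
    have e5 : w' = w ^ p ^ d := hinj _ _ (by rw [← e3, ← hq, hpow, e1, map_pow, Units.val_pow_eq_pow_val])
    have e6 : w ^ p ^ (d * 2) = w := hinj _ _ (by
      rw [map_pow, Units.val_pow_eq_pow_val, ← e1, mul_two, pow_add, pow_mul, hqq])
    have e7 := (hv t ht).1 ⟨y, hy⟩
    rw [Finset.prod_range_succ, Finset.prod_range_one, pow_zero, pow_one, map_one, MulAut.one_apply,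
      e2, e4, e5, hfr t ht, ← pow_add, ← mul_two, hs.lin t (d * 2) w ht hd2 e6] at e7
    simp only [Γ, dif_pos hy]
    rw [e1, ← pow_mul]
    exact e7
  · obtain ⟨w, e1, e2⟩ := hw ⟨y ^ 2, hsq y⟩
    have hk : x * y⁻¹ ∈ H := (Subgroup.mul_mem_iff_of_index_two hidx).2
      ⟨fun h => absurd h hid.out, fun h => absurd (H.inv_mem_iff.1 h) hy⟩
    have e3 : w ^ p ^ d = w := hinj _ _ (by
      rw [map_pow, Units.val_pow_eq_pow_val, ← e1, ← hpow, hq, ← hcj ⟨_, hk⟩ ⟨y ^ 2, hsq y⟩]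
      congr 1
      apply Subtype.ext
      simp [MulAut.conjNormal_apply, sq, mul_assoc])
    have e7 := (hv t ht).2 y ⟨y ^ 2, hsq y⟩ hy rfl
    rw [hm t ht, e2, Nat.cast_ofNat (R := ZMod p), hs.lin (2 * t) d w (mul_ne_zero h2 ht) hd e3] at e7
    simp only [Γ, dif_neg hy]
    rw [e1]
    exact e7

end H8.KgvI2
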