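/- Tower ND (S4780), slot Ab3: the centre of a nonlinear character of `M` lies in `M'`. -/
import Cfsg.Agent.H23.NDSpec

set_option autoImplicit false

namespace H8.NDAb3

open Cfsg H28 H32 H44 H93.DG H55.Nd MulAction H23.ND

universe u

variable {G : Type u} [Group G] {M : Subgroup G} [hM : M.Normal]

/-- conjugation by `g⁻¹` on `M` -/
def c (g : G) : MulAut M := MulAut.conjNormal g⁻¹

theorem c_eq (g : G) (y : M) : c g y = ⟨g⁻¹ * y * g⁻¹⁻¹, hM.conj_mem _ y.2 _⟩ :=
  Subtype.ext (MulAut.conjNormal_apply _ _)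

theorem smul_c (g : G) (l : Lin M) (y : M) : (g • l).hom y = l.hom (c g y) := by
  rw [smul_hom, c_eq]

theorem inert_c {θ : M → ℂ} {g : G} (h : g ∈ inertia θ) (y : M) : θ (c g y) = θ y := by
  rw [c_eq]
  exact congrFun (mem_inertia.1 (inv_mem h)) y

theorem c_comm {g h : G} (e : g * h = h * g) (y : M) : c g (c h y) = c h (c g y) := by
  unfold c
  rw [← MulAut.mul_apply, ← MulAut.mul_apply, ← map_mul, ← map_mul, ← mul_inv_rev, ← mul_inv_rev, e]

/-- A fixed point free element has no fixed points on the characters of an invariant subgroup. -/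
theorem star [Finite G] {g : G} (hg : ∀ l : Lin M, g • l = l → l = 1) (R : Subgroup M)
    (hR : ∀ y ∈ R, c g y ∈ R) {l : Lin M} (hl : ∀ y ∈ R, l.hom (c g y) = l.hom y) :
    ∀ y ∈ R, l.hom y = 1 := by
  have inj : Function.Injective fun m : Lin M => g • m / m := by
    intro a b e
    have e' : g • a / a = g • b / b := e
    refine div_eq_one.1 (hg _ ?_)
    rw [smul_div', div_eq_div_iff_div_eq_div, e']
  have val : ∀ (m : Lin M) (y : M), (g • m / m).hom y = m.hom (c g y) / m.hom y := fun m y => by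
    rw [← smul_c]; rfl
  let ψ : {m : Lin M // ∀ y ∈ R, m.hom y = 1} → {m : Lin M // ∀ y ∈ R, m.hom y = 1} := fun m =>
    ⟨g • m.1 / m.1, fun y hy => by rw [val, m.2 y hy, m.2 _ (hR y hy), div_one]⟩
  have : Function.Injective ψ := fun a b e => Subtype.ext (inj (congrArg Subtype.val e))
  obtain ⟨w, hw⟩ := Finite.injective_iff_surjective.1 this
    ⟨g • l / l, fun y hy => by rw [val, hl y hy, div_self']⟩
  have e : w.1 = l := inj (congrArg Subtype.val hw)
  exact e ▸ w.2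

theorem center_c {θ : M → ℂ} {g : G} {l : Lin M} (h : ∀ y, θ (c g y) = θ y * (l.hom y : ℂ)) :
    ∀ y ∈ charCenter θ, c g y ∈ charCenter θ := by
  rintro y ⟨κ, hκ⟩
  refine ⟨κ * l.hom y, fun x => ?_⟩
  obtain ⟨x, rfl⟩ := (c g).surjective x
  rw [← map_mul, h, h, hκ, map_mul]
  push_cast
  ring

theorem fixer [Finite G] {Γ : Subgroup G} {B Z : Subgroup Γ} {n : ℕ} (nd : ND G) (top : Γ ⊔ M = ⊤)
    (ao : AO (Lin M) B Z n) (n1 : n ≠ 1) (hn : n ∈ charDegrees G) {θ : M → ℂ}
    (hθ : IsIrrCharacter M θ) (h1 : charDegree θ ≠ 1) :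
    ∃ z ∈ B, (z : G) ∈ inertia θ ∧ ∀ l : Lin M, (z : G) • l = l → l = 1 := by
  cases nonempty_fintype M
  have : ¬ (inertia θ).subgroupOf Γ ⊓ B ≤ Z := fun k => by
    have d := ao.dv _ k
    rw [ix_eq top (le_inertia hθ.isClassFunction)] at d
    obtain ⟨e, he⟩ := exists_dg hθ
    exact h1 (nd.mul hn he.mem_cd n1 ((Nat.mul_dvd_mul_right d _).trans (he.dvd hθ)))
  obtain ⟨z, ⟨z1, z2⟩, z3⟩ := SetLike.not_le_iff_exists.1 this
  refine ⟨z, z2, z1, fun l hl => ?_⟩
  by_contra k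
  exact z3 (ao.sb l k ▸ (⟨hl, z2⟩ : z ∈ stabilizer Γ l ⊓ B))

theorem jobAb3 : JobAb3.{u} := by
  intro G _ _ M Γ _ B Z n nd top ab ao n1 hn θ hθ h1 r hr
  refine mem_comm (mem_of_forall_lin r.2 fun l => ?_) r.2
  obtain ⟨z, zB, zi, zf⟩ := fixer nd top ao n1 hn hθ h1
  obtain ⟨w, wB, wi, wf⟩ := fixer nd top ao n1 hn (isIrr_mul_ch hθ l) (by rwa [charDegree_mul_ch])
  have cm : (z : G) * w = w * z := congrArg Subtype.val (ab z zB w wB)
  have val : ∀ y : M, (l / (w : G) • l).hom y = l.hom y / l.hom (c (w : G) y) := fun y => by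
    rw [← smul_c]; rfl
  have hw : ∀ y, θ (c (w : G) y) = θ y * ((l / (w : G) • l).hom y : ℂ) := fun y => by
    have e : θ (c (w : G) y) * (l.hom (c (w : G) y) : ℂ) = θ y * (l.hom y : ℂ) := inert_c wi y
    rw [val, Units.val_div_eq_div_val, ← mul_div_assoc, ← e, mul_div_cancel_right₀ _ (Units.ne_zero _)]
  have hz : ∀ y, θ (c (z : G) y) = θ y * ((1 : Lin M).hom y : ℂ) := fun y => by
    rw [inert_c zi]
    exact (mul_one _).symm
  have nz : ∀ y ∈ charCenter θ, θ y ≠ 0 := by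
    rintro y ⟨κ, hκ⟩
    have := hκ 1
    rw [mul_one] at this
    rw [this]
    exact mul_ne_zero κ.ne_zero hθ.apply_one_ne_zero
  have s1 := star zf _ (center_c hz) (l := l / (w : G) • l) fun y hy => by
    have a := hw (c (z : G) y)
    rw [← c_comm cm, inert_c zi, inert_c zi, hw] at a
    exact Units.ext (mul_left_cancel₀ (nz y hy) a).symm
  refine star wf _ (center_c hw) (fun y hy => ?_) r hr
  have := s1 y hy
  rw [val, div_eq_one] at this
  exact this.symm

end H8.NDAb3
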