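import Cfsg.Agent.H8.PSStepA

/-! Odd automorphisms of the monomial model are trivial. -/

set_option autoImplicit false

namespace H8.PS.Mod

open Equiv

variable {K : Type*} [Field K] {n : ℕ} {M T : Type*} [Group M] [Group T] {m : Mod K n M T}

open Classical in
/-- The exponent of `[A, s]` for a transposition `s`. -/
noncomputable def ee (m : Mod K n M T) : ℕ := if m.tw then 2 ^ (m.a + 1) else 2 ^ (m.a + 2)

/-- `[A, t]` is a cyclic group of small exponent. -/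
def PP (m : Mod K n M T) (t : T) : Prop :=
  m.ω t ≠ 1 ∧ (∀ s1 s2, m.ω s1 = 1 → m.ω s2 = 1 →
    (∃ k : ℕ, t * s1 * t⁻¹ * s1⁻¹ = (t * s2 * t⁻¹ * s2⁻¹) ^ k) ∨
      ∃ k : ℕ, t * s2 * t⁻¹ * s2⁻¹ = (t * s1 * t⁻¹ * s1⁻¹) ^ k) ∧
    ∀ s, m.ω s = 1 → (t * s * t⁻¹ * s⁻¹) ^ m.ee = 1

theorem PP.map (α : MulAut T) (hA : ∀ t, m.ω t = 1 ↔ m.ω (α t) = 1) {t : T} (h : m.PP t) :
    m.PP (α t) := by
  obtain ⟨h1, h2, h3⟩ := h
  refine ⟨fun h => h1 ((hA t).2 h), fun s1 s2 a1 a2 => ?_, fun s a => ?_⟩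
  · obtain ⟨s1, rfl⟩ := α.surjective s1
    obtain ⟨s2, rfl⟩ := α.surjective s2
    rcases h2 s1 s2 ((hA _).2 a1) ((hA _).2 a2) with ⟨k, hk⟩ | ⟨k, hk⟩
    · exact Or.inl ⟨k, by simpa using congrArg α hk⟩
    · exact Or.inr ⟨k, by simpa using congrArg α hk⟩
  · obtain ⟨s, rfl⟩ := α.surjective s
    simpa using congrArg α (h3 s ((hA _).2 a))

theorem pp_of_isTh {t : T} (h : IsTh m.τ (m.ω t)) : m.PP t := by
  obtain ⟨i, hi, hw⟩ := h
  have hr : ∀ x : Fin n → Kˣ, rt (m.ω t) x =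
      pv m.τ i (x (m.τ i) * (x i)⁻¹) (x (m.τ i) * (x i)⁻¹)⁻¹ := by
    intro x
    funext l
    by_cases h1 : l = i
    · simp [rt, hw, h1, pv_self]
    by_cases h2 : l = m.τ i
    · simp [rt, hw, h2, pv_tau hi, mul_comm]
    · rw [pv_ne h1 h2, rt_fix (by rw [hw, swap_apply_of_ne_of_ne h1 h2])]
  have hp : ∀ (u : Kˣ) (k : ℕ), pv m.τ i u u⁻¹ ^ k = pv m.τ i (u ^ k) (u ^ k)⁻¹ := by
    intro u k
    funext l
    simp only [Pi.pow_apply, pv]
    split_ifs <;> simp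
  have hm : ∀ x, m.D1 x → x (m.τ i) * (x i)⁻¹ ∈ Subgroup.zpowers m.c := fun x hx =>
    mul_mem ((m.hD x).1 hx.1 _).1 (inv_mem ((m.hD x).1 hx.1 _).1)
  refine ⟨by rw [hw]; simpa using hi.symm, fun s1 s2 a1 a2 => ?_, fun s a => ?_⟩
  · obtain ⟨x1, h1⟩ := exists_rp a1
    obtain ⟨x2, h2⟩ := exists_rp a2
    rcases dvd_chain (hm _ h1.d1) (hm _ h2.d1) with ⟨k, hk⟩ | ⟨k, hk⟩
    · refine Or.inl ⟨k, ((h1.cm t).eq_iff ((h2.cm t).pow k)).2 ⟨1, fun l => ?_⟩⟩
      rw [hr, hr, hp, ← hk, mul_inv_cancel]; rfl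
    · refine Or.inr ⟨k, ((h2.cm t).eq_iff ((h1.cm t).pow k)).2 ⟨1, fun l => ?_⟩⟩
      rw [hr, hr, hp, ← hk, mul_inv_cancel]; rfl
  · obtain ⟨x, hx⟩ := exists_rp a
    refine ((hx.cm t).pow _).eq_one_iff.2 ⟨1, fun l => ?_⟩
    have : (x (m.τ i) * (x i)⁻¹) ^ m.ee = 1 := by
      unfold ee
      split_ifs with ht
      · obtain ⟨h1, h2⟩ := (m.hD x).1 hx.d1.1 i
        have e : x (m.τ i) * (x i)⁻¹ = (x i ^ m.q * x i) * ((x i)⁻¹) ^ 2 := by
          rw [h2 ht]; group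
        rw [e, mul_pow, pow_succ' 2, pow_mul (x i ^ m.q * x i), nrm_sq ht h1, one_pow, one_mul,
          ← pow_mul, ← pow_succ', ← pow_succ', pow_N (inv_mem h1)]
      · exact pow_N (hm _ hx.d1)
    rw [hr, hp, this]
    unfold pv; split_ifs <;> simp

theorem PP.cyc {t : T} (h : m.PP t) {x y : Fin n → Kˣ} (hx : m.D1 x) (hy : m.D1 y) :
    (∃ k : ℕ, Cst (rt (m.ω t) x * (rt (m.ω t) y ^ k)⁻¹)) ∨
      ∃ k : ℕ, Cst (rt (m.ω t) y * (rt (m.ω t) x ^ k)⁻¹) := by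
  obtain ⟨s1, h1⟩ := hx.exists_rp
  obtain ⟨s2, h2⟩ := hy.exists_rp
  rcases h.2.1 s1 s2 h1.ω h2.ω with ⟨k, hk⟩ | ⟨k, hk⟩
  · exact Or.inl ⟨k, ((h1.cm t).eq_iff ((h2.cm t).pow k)).1 hk⟩
  · exact Or.inr ⟨k, ((h2.cm t).eq_iff ((h1.cm t).pow k)).1 hk⟩

theorem PP.exp {t : T} (h : m.PP t) {x : Fin n → Kˣ} (hx : m.D1 x) :
    Cst (rt (m.ω t) x ^ m.ee) := by
  obtain ⟨s, hs⟩ := hx.exists_rp
  exact ((hs.cm t).pow _).eq_one_iff.1 (h.2.2 s hs.ω)

theorem fix_of {w : Perm (Fin n)} (hw : w ∈ (m.W : Subgroup (Perm (Fin n)))) {l : Fin n}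
    (hl : m.τ l = l) : w l = l :=
  m.hf _ _ (by rw [← Perm.mul_apply, ← m.hc w hw, Perm.mul_apply, hl]) hl

theorem exists_fifth (hn : 3 ≤ n) (h4 : n ≠ 4) (i j k l : Fin n) :
    ∃ p, (p ≠ i ∧ p ≠ j ∧ p ≠ k ∧ p ≠ l) ∨ m.τ p = p := by
  by_cases h5 : 5 ≤ n
  · by_contra hc
    push Not at hc
    have : (Finset.univ : Finset (Fin n)) ⊆ {i, j, k, l} := fun p _ => by
      have := (hc p).1
      simp only [Finset.mem_insert, Finset.mem_singleton]
      tauto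
    have h1 := (Finset.card_le_card this).trans Finset.card_le_four
    simp at h1; omega
  · obtain rfl : n = 3 := by omega
    have : ∀ τ : Perm (Fin 3), τ * τ = 1 → ∃ p, τ p = p := by decide
    obtain ⟨p, hp⟩ := this m.τ m.hτ
    exact ⟨p, Or.inr hp⟩

theorem isTh_of_supp {w : Perm (Fin n)} (hw : w ∈ (m.W : Subgroup (Perm (Fin n)))) {i : Fin n}
    (hi : w i ≠ i) (h : ∀ l, w l ≠ l → l = i ∨ l = w i) : IsTh m.τ w := by
  have hti : m.τ i ≠ i := fun h => hi (fix_of hw h)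
  have h1 : w (m.τ i) = m.τ (w i) := by rw [← Perm.mul_apply, m.hc w hw]; rfl
  have h2 : m.τ i = w i :=
    (h (m.τ i) fun a => hi (m.τ.injective (h1.symm.trans a))).resolve_left hti
  refine ⟨i, hti, Equiv.ext fun l => ?_⟩
  by_cases a1 : l = i
  · rw [a1, swap_apply_left, h2]
  by_cases a2 : l = m.τ i
  · rw [a2, swap_apply_right, h1, ← h2, tt m.hτ]
  · rw [swap_apply_of_ne_of_ne a1 a2]
    by_contra a3
    rcases h l a3 with a | a
    exacts [a1 a, a2 (a.trans h2.symm)]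

theorem isTh_of_pp_one (hn : 3 ≤ n) (h4 : n ≠ 4) (ht : ¬ m.tw) {t : T} (h : m.PP t) :
    IsTh m.τ (m.ω t) := by
  have hw := m.ω_mem t
  set w := m.ω t with hwd
  obtain ⟨i, hi⟩ : ∃ i, w i ≠ i := by
    by_contra hc
    push Not at hc
    exact h.1 (Equiv.ext hc)
  let f : Fin n → Fin n → Kˣ := fun l => rt w (pv m.τ l (-1) 1)
  have f1 : ∀ l p, p ≠ l → p ≠ w l → f l p = 1 := fun l p a1 a2 => by
    simp only [f, rt]
    rw [pv_one a1, pv_one (fun a => a2 (by rw [← a, ap_inv]))]; simp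
  have f2 : ∀ l, w l ≠ l → f l l = -1 ∧ f l (w l) = -1 := fun l a => by
    simp only [f, rt]
    rw [pv_self, inv_ap, pv_self, pv_one a, pv_one (fun b => a (by rw [← b, ap_inv, b]))]; simp
  have f3 : ∀ l p, w p = p → f l p = 1 := fun l p a => rt_fix a _
  have f4 : ∀ l p, f l p * f l p = 1 := fun l p => by
    simp only [f, rt, pv]
    split_ifs <;> simp
  have hd : ∀ a b, m.D1 (pv m.τ a (-1) 1 * pv m.τ b (-1) 1) := fun a b =>
    ⟨mul_mem (pv_mem m.neg_mem (one_mem _) fun h' => absurd h' ht)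
      (pv_mem m.neg_mem (one_mem _) fun h' => absurd h' ht), by
      simp only [Pi.mul_apply, Finset.prod_mul_distrib, prod_pv_one]; simp⟩
  have hcst : ∀ a b, (∃ ζ, ∀ p, f a p * f b p = ζ) → ∀ p, f a p = f b p := by
    rintro a b ⟨ζ, hζ⟩ p
    have : ζ = 1 := by
      obtain ⟨p, hp | hp⟩ := exists_fifth (m := m) hn h4 a (w a) b (w b)
      · rw [← hζ p, f1 a p hp.1 hp.2.1, f1 b p hp.2.2.1 hp.2.2.2, mul_one]
      · rw [← hζ p, f3 a p (fix_of hw hp), f3 b p (fix_of hw hp), mul_one]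
    apply mul_right_cancel (b := f b p)
    rw [hζ, this, f4]
  have hpow : ∀ a b c (k : ℕ), Cst (rt w (pv m.τ a (-1 : Kˣ) 1 * pv m.τ c (-1) 1) *
      (rt w (pv m.τ b (-1 : Kˣ) 1 * pv m.τ c (-1) 1) ^ k)⁻¹) →
      (∀ p, f a p = f c p) ∨ ∀ p, f a p = f b p := by
    rintro a b c k ⟨ζ, hζ⟩
    simp only [Pi.mul_apply, Pi.inv_apply, Pi.pow_apply, rt_mul] at hζ
    have sq : ∀ p, (f b p * f c p) ^ 2 = 1 := fun p => by
      rw [pow_two, mul_mul_mul_comm, f4, f4, mul_one]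
    rcases Nat.even_or_odd' k with ⟨j, rfl | rfl⟩
    · refine Or.inl (hcst _ _ ⟨ζ, fun p => ?_⟩)
      rw [← hζ p]
      change _ = f a p * f c p * ((f b p * f c p) ^ (2 * j))⁻¹
      rw [pow_mul, sq]; simp
    · refine Or.inr (hcst _ _ ⟨ζ, fun p => ?_⟩)
      rw [← hζ p]
      change _ = f a p * f c p * ((f b p * f c p) ^ (2 * j + 1))⁻¹
      rw [pow_succ, pow_mul, sq, one_pow, one_mul, mul_inv, inv_eq_of_mul_eq_one_right (f4 b p),
        mul_mul_mul_comm, mul_inv_cancel, mul_one]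
  have hneq : ∀ a b, w a ≠ a → a ≠ b → w a ≠ b → ¬ ∀ p, f a p = f b p := by
    intro a b a1 a2 a3 a4
    by_cases a5 : a = w b
    · have := a4 (w a)
      rw [(f2 a a1).2, f1 b _ a3 fun e => a2 (w.injective e)] at this
      exact m.hne this
    · have := a4 a
      rw [(f2 a a1).1, f1 b _ a2 a5] at this
      exact m.hne this
  refine isTh_of_supp hw hi fun j hj => ?_
  by_contra hc
  push Not at hc
  have n1 := hneq i j hi hc.1.symm hc.2.symm
  obtain ⟨p, hp⟩ := exists_fifth (m := m) hn h4 i (w i) j (w j)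
  have n2 : ∀ a, w a ≠ a → (p ≠ a ∧ p ≠ w a ∨ w p = p) → ¬ ∀ r, f a r = f p r := by
    rintro a a1 (a2 | a2)
    · exact hneq a p a1 a2.1.symm a2.2.symm
    · exact hneq a p a1 (fun e => a1 (e ▸ a2)) fun e => a1 (w.injective (by rw [e, a2]))
  have n3 := n2 i hi (hp.imp (fun a => ⟨a.1, a.2.1⟩) (fix_of hw))
  have n4 := n2 j hj (hp.imp (fun a => ⟨a.2.2.1, a.2.2.2⟩) (fix_of hw))
  rcases h.cyc (hd i p) (hd j p) with ⟨k, hk⟩ | ⟨k, hk⟩
  · exact (hpow _ _ _ _ hk).elim n3 n1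
  · exact (hpow _ _ _ _ hk).elim n4 fun a => n1 fun r => (a r).symm

/-- A primitive fourth root of unity. -/
def y4 (m : Mod K n M T) : Kˣ := m.c ^ 2 ^ m.a

theorem y4_sq : m.y4 * m.y4 = -1 := by
  rw [y4, ← pow_two, ← pow_mul, ← pow_succ, m.hc1]

theorem y4_mem : m.y4 ∈ Subgroup.zpowers m.c := pow_mem (Subgroup.mem_zpowers _) _

theorem y4_q (ht : m.tw) : m.y4⁻¹ = m.y4 ^ m.q := by
  have h1 := nrm ht (2 ^ m.a)
  obtain ⟨j, hj⟩ := Nat.exists_eq_add_of_le (m.hq ht).2.1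
  have : Even (2 ^ m.a) := by rw [hj, pow_add]; simp
  rw [this.neg_one_pow] at h1
  exact (eq_inv_of_mul_eq_one_left h1).symm

theorem y4_ne : m.y4⁻¹ ≠ m.y4 := fun h => m.hne (by
  rw [← y4_sq (m := m)]; nth_rewrite 1 [← h]; exact inv_mul_cancel _)

theorem v4_d1 {i : Fin n} (hi : m.τ i ≠ i) : m.D1 (pv m.τ i m.y4 m.y4⁻¹) :=
  ⟨pv_mem y4_mem (inv_mem y4_mem) fun ht => ⟨y4_q ht, fun h => absurd h hi⟩, by
    rw [prod_pv hi, mul_inv_cancel]⟩

theorem rt_out {w : Perm (Fin n)} (hw : w ∈ (m.W : Subgroup (Perm (Fin n)))) {x : Fin n → Kˣ}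
    {k : Fin n} (hx : ∀ l, l ≠ k → l ≠ m.τ k → x l = 1) {p : Fin n} (h1 : p ≠ k) (h2 : p ≠ m.τ k)
    (h3 : p ≠ w k) (h4 : p ≠ m.τ (w k)) : rt w x p = 1 := by
  have h5 : w (m.τ k) = m.τ (w k) := by rw [← Perm.mul_apply, m.hc w hw]; rfl
  rw [rt, hx p h1 h2, hx _ (fun a => h3 (by rw [← a, ap_inv]))
    (fun a => h4 (by rw [← h5, ← a, ap_inv]))]
  simp

theorem isTh_of_pp_two (hn : 3 ≤ n) (h4 : n ≠ 4) (ht : m.tw) {t : T} (h : m.PP t) :
    IsTh m.τ (m.ω t) := by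
  have hw := m.ω_mem t
  set w := m.ω t with hwd
  have hcm : ∀ l, w (m.τ l) = m.τ (w l) := fun l => by rw [← Perm.mul_apply, m.hc w hw]; rfl
  have hcm' : ∀ l, w⁻¹ (m.τ l) = m.τ (w⁻¹ l) := fun l => by
    rw [← Perm.mul_apply, m.hc w⁻¹ (inv_mem hw)]; rfl
  have t1 : ∀ {a b}, a ≠ b → m.τ a ≠ m.τ b := fun h e => h (m.τ.injective e)
  have t2 : ∀ {a b}, a ≠ m.τ b → m.τ a ≠ b := fun h e => h (by rw [← e, tt m.hτ])
  have hv : ∀ i l, l ≠ i → l ≠ m.τ i → pv m.τ i m.y4 m.y4⁻¹ l = 1 := fun i l a b => pv_ne a b _ _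
  have hB : w ∈ B1 m.τ m.hτ := by
    intro i
    by_contra hc
    push Not at hc
    have hmv : ∀ l, w l ≠ l → m.τ l ≠ l := fun l a b => a (fix_of hw b)
    have hinv : ∀ l, w l ≠ l → w l ≠ m.τ l → w⁻¹ l ≠ l ∧ w⁻¹ l ≠ m.τ l := fun l a b =>
      ⟨fun e => a (by rw [← e, ap_inv, e]), fun e => b (by
        have : l = m.τ (w l) := by rw [← hcm, ← e, ap_inv]
        rw [this, tt m.hτ, ← this])⟩
    -- the half power of the ratio of the generating vector
    let F : Fin n → Fin n → Kˣ := fun l p => rt w (m.ev l) p ^ 2 ^ (m.a + 1)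
    have hee : m.ee = 2 ^ (m.a + 1) := if_pos ht
    have hF : ∀ a b p r, F a p * (F b p)⁻¹ = F a r * (F b r)⁻¹ := fun a b p r => by
      have := (h.exp (ev_d1 a b)).eq p r
      simpa only [hee, Pi.pow_apply, rt_mul, rt_inv, mul_pow, inv_pow] using this
    have cq : (m.c ^ m.q) ^ 2 ^ (m.a + 1) = -1 := by
      rw [← pow_mul, mul_comm, pow_mul, m.hc1, (m.hq ht).1.neg_one_pow]
    have es : ∀ l, m.τ l ≠ l → m.ev l l ^ 2 ^ (m.a + 1) = -1 ∧
        m.ev l (m.τ l) ^ 2 ^ (m.a + 1) = -1 := fun l a => by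
      unfold ev; rw [if_pos ht, if_neg a, pv_self, pv_tau a]; exact ⟨m.hc1, cq⟩
    have F1 : ∀ l, w l ≠ l → w l ≠ m.τ l → F l l = -1 := fun l a b => by
      simp only [F, rt, mul_pow, inv_pow]
      rw [ev_ne (hinv l a b).1 (hinv l a b).2, (es l (hmv l a)).1]; simp
    have F2 : ∀ l p, p ≠ l → p ≠ m.τ l → p ≠ w l → p ≠ m.τ (w l) → F l p = 1 :=
      fun l p a b c d => by
        simp only [F]
        rw [rt_out hw (fun r => ev_ne) a b c d, one_pow]
    obtain ⟨k, hk⟩ := exists_fifth (m := m) hn h4 i (m.τ i) (w i) (m.τ (w i))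
    have hi := hmv i hc.1
    have hk' : k ≠ i ∧ k ≠ m.τ i ∧ k ≠ w i ∧ k ≠ m.τ (w i) := by
      rcases hk with hk | hk
      · exact hk
      · have a1 : k ≠ i := fun e => hi (e ▸ hk)
        have a2 : k ≠ w i := fun e => a1 (w.injective (by rw [fix_of hw hk, e]))
        exact ⟨a1, hk ▸ t1 a1, a2, hk ▸ t1 a2⟩
    obtain ⟨k1, k2, k3, k4⟩ := hk'
    have Fii := F1 i hc.1 hc.2
    have Fik := F2 i k k1 k2 k3 k4
    have e0 := hF i k i k
    by_cases hkB : w k = k ∨ w k = m.τ k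
    · have a1 : F k i = 1 := by
        refine F2 k i k1.symm (t2 k2).symm ?_ ?_ <;> rcases hkB with a | a <;> rw [a]
        exacts [k1.symm, (t2 k2).symm, (t2 k2).symm, by rw [tt m.hτ]; exact k1.symm]
      have a2 : F k k = 1 := by
        rcases hkB with a | a
        · simp only [F]; rw [rt_fix a, one_pow]
        · by_cases b : m.τ k = k
          · simp only [F]; rw [rt_fix (a.trans b), one_pow]
          · have : w⁻¹ k = m.τ k := by rw [Perm.inv_eq_iff_eq, hcm, a, tt m.hτ]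
            simp only [F, rt, mul_pow, inv_pow]
            rw [this, (es k b).1, (es k b).2]; simp
      rw [Fii, Fik, a1, a2] at e0
      exact m.hne (by simpa using e0)
    push Not at hkB
    have Fkk := F1 k hkB.1 hkB.2
    have hk0 := hmv k hkB.1
    by_cases hik : i = w k ∨ i = m.τ (w k)
    · have a1 : F k i = -1 := by
        simp only [F, rt, mul_pow, inv_pow]
        rw [ev_ne k1.symm (t2 k2).symm]
        rcases hik with a | a
        · rw [a, inv_ap, (es k hk0).1]; simp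
        · rw [a, ← hcm, inv_ap, (es k hk0).2]; simp
      rw [Fii, Fik, a1, Fkk] at e0
      exact m.hne (by simpa using e0.symm)
    push Not at hik
    have key : ∀ a b (j : ℕ), w a ≠ a → w a ≠ m.τ a → a ≠ b → a ≠ m.τ b → a ≠ w b →
        a ≠ m.τ (w b) → ¬ Cst (rt w (pv m.τ a m.y4 m.y4⁻¹) *
          (rt w (pv m.τ b m.y4 m.y4⁻¹) ^ j)⁻¹) := by
      intro a b j a1 a2 a3 a4 a5 a6 hC
      have := hC.eq a (m.τ a)
      simp only [Pi.mul_apply, Pi.inv_apply, Pi.pow_apply] at this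
      rw [rt_out hw (hv b) a3 a4 a5 a6, rt_out hw (hv b) (t2 a4) (t1 a3) (t2 a6) (t1 a5)] at this
      simp only [rt, pv_self, pv_tau (hmv a a1), hcm', hv a _ (hinv a a1 a2).1 (hinv a a1 a2).2,
        hv a _ (t2 (hinv a a1 a2).2) (t1 (hinv a a1 a2).1), one_pow, inv_one, mul_one, one_mul,
        inv_inv] at this
      exact y4_ne this
    rcases h.cyc (v4_d1 hi) (v4_d1 hk0) with ⟨j, hj⟩ | ⟨j, hj⟩
    · exact key i k j hc.1 hc.2 k1.symm (t2 k2).symm hik.1 hik.2 hj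
    · exact key k i j hkB.1 hkB.2 k1 k2 k3 k4 hj
  obtain ⟨i, hi⟩ : ∃ i, w i ≠ i := by
    by_contra hc
    push Not at hc
    exact h.1 (Equiv.ext hc)
  refine isTh_of_supp hw hi fun k hk => ?_
  by_contra hc
  push Not at hc
  have hwi := (hB i).resolve_left hi
  have hwk := (hB k).resolve_left hk
  rw [hwi] at hc
  obtain ⟨p, hp⟩ := exists_fifth (m := m) hn h4 i (m.τ i) k (m.τ k)
  have key : ∀ a b (j : ℕ), w a = m.τ a → w b = m.τ b → m.τ a ≠ a → a ≠ b → a ≠ m.τ b →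
      (p ≠ a ∧ p ≠ m.τ a ∧ p ≠ b ∧ p ≠ m.τ b ∨ m.τ p = p) →
      ¬ Cst (rt w (pv m.τ a m.y4 m.y4⁻¹) * (rt w (pv m.τ b m.y4 m.y4⁻¹) ^ j)⁻¹) := by
    intro a b j a1 a2 a3 a4 a5 a6 hC
    have e := hC.eq a p
    simp only [Pi.mul_apply, Pi.inv_apply, Pi.pow_apply] at e
    have b1 : ∀ r, w r = m.τ r → ∀ l, l ≠ r → l ≠ m.τ r → rt w (pv m.τ r m.y4 m.y4⁻¹) l = 1 :=
      fun r hr l c d => rt_out hw (hv r) c d (hr ▸ d) (by rwa [hr, tt m.hτ])
    have b2 : rt w (pv m.τ a m.y4 m.y4⁻¹) p = 1 ∧ rt w (pv m.τ b m.y4 m.y4⁻¹) p = 1 := by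
      rcases a6 with c | c
      · exact ⟨b1 a a1 p c.1 c.2.1, b1 b a2 p c.2.2.1 c.2.2.2⟩
      · exact ⟨rt_fix (fix_of hw c) _, rt_fix (fix_of hw c) _⟩
    have b3 : w⁻¹ a = m.τ a := by rw [Perm.inv_eq_iff_eq, hcm, a1, tt m.hτ]
    rw [b2.1, b2.2, b1 b a2 a a4 a5] at e
    simp only [rt, b3, pv_self, pv_tau a3, one_pow, inv_one, mul_one] at e
    exact y4_ne (by rw [eq_inv_of_mul_eq_one_left e, inv_inv])
  rcases h.cyc (v4_d1 (hwi ▸ hi)) (v4_d1 (hwk ▸ hk)) with ⟨j, hj⟩ | ⟨j, hj⟩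
  · exact key i k j hwi hwk (hwi ▸ hi) hc.1.symm (t2 hc.2).symm hp hj
  · exact key k i j hwk hwi (hwk ▸ hk) hc.1 hc.2
      (hp.imp (fun a => ⟨a.2.2.1, a.2.2.2, a.1, a.2.1⟩) id) hj

theorem stepB (hn : 3 ≤ n) (α : MulAut T) (hodd : Odd (orderOf α)) (t : T) :
    m.ω (α t) = m.ω t := by
  have hA : ∀ t, m.ω t = 1 ↔ m.ω (α t) = 1 := fun t =>
    ⟨stepA hn α t, fun h => by simpa using stepA hn α⁻¹ _ h⟩
  by_cases h4 : n = 4
  · subst h4
    exact perm_step4 m.ω α m.W m.hτ m.hc m.hf m.ω_mem (fun w hw => exists_lift (by omega) hw)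
      hodd hA t
  · refine perm_step m.ω α m.W m.hτ m.hc m.hf m.ω_mem (fun w hw => exists_lift (by omega) hw)
      hodd hA (fun s hs => ?_) t
    have := (pp_of_isTh hs).map α hA
    by_cases ht : m.tw
    · exact isTh_of_pp_two hn h4 ht this
    · exact isTh_of_pp_one hn h4 ht this

/-- Central involutions in the torus are fixed. -/
theorem stepC (hn : 3 ≤ n) (α : MulAut T) (hodd : Odd (orderOf α)) {z : T} (hz : m.ω z = 1)
    (hz2 : z * z = 1) (hzc : ∀ t, t * z = z * t) : α z = z := by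
  classical
  obtain ⟨i0, hi0⟩ : ∃ i0 : Fin n, ∀ l, m.τ l = l → l = i0 := by
    by_cases h : ∃ l, m.τ l = l
    · obtain ⟨l, hl⟩ := h
      exact ⟨l, fun k hk => m.hf _ _ hk hl⟩
    · exact ⟨⟨0, by omega⟩, fun k hk => absurd ⟨k, hk⟩ h⟩
  have sgn : ∀ z x, m.Rp z x → z * z = 1 → ∀ i, x i ≠ x i0 → x i = -1 * x i0 := by
    intro z x hx h2 i hi
    have h3 := ((hx.mul hx).eq_one_iff.1 h2).eq i i0
    have h4 : (x i : K) * x i = x i0 * x i0 := by exact_mod_cast congrArg Units.val h3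
    rcases mul_self_eq_mul_self_iff.1 h4 with h | h
    · exact absurd (Units.ext h) hi
    · exact Units.ext (by simpa using h)
  have key : ∀ (β : MulAut T), Odd (orderOf β) → ∀ z x x', m.Rp z x → m.Rp (β z) x' → z * z = 1 →
      (∀ t, t * z = z * t) → ∀ i, x i = x i0 → x' i = x' i0 := by
    intro β hβ z x x' hx hx' h2 hc
    have e : ∀ i, x (m.τ i) = x i := by
      intro i
      obtain ⟨s, hs⟩ := exists_lift (m := m) (by omega) (B1_le m.W m.hτ m.hc (swap_mem_B1 m.hτ i))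
      obtain ⟨k, k1, k2⟩ := exists_third hn i (m.τ i)
      have := (((hx.conj s).eq_iff hx).1 (by rw [hc, mul_inv_cancel_right])).eq i k
      simp only [hs, swap_inv, Pi.mul_apply, Pi.inv_apply, swap_apply_left,
        swap_apply_of_ne_of_ne k1 k2, mul_inv_cancel] at this
      exact mul_inv_eq_one.1 this
    have hJ : ∀ i, x i ≠ x i0 → m.τ i ≠ i := fun i hi a => hi (by rw [hi0 i a])
    let f : Fin n → Fin n := fun l => if x l = x i0 then l else m.τ l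
    have hf : Function.Involutive f := fun l => by
      by_cases a : x l = x i0
      · simp only [f, if_pos a]
      · simp only [f, if_neg a, e, tt m.hτ]
    let u : Perm (Fin n) := hf.toPerm
    have hu : ∀ l, u l = f l := fun _ => rfl
    have huB : u ∈ B1 m.τ m.hτ := fun l => by
      rw [hu]; simp only [f]; split_ifs
      exacts [Or.inl rfl, Or.inr rfl]
    obtain ⟨t, ht⟩ := exists_lift (m := m) (by omega) (B1_le m.W m.hτ m.hc huB)
    let v : Fin n → Kˣ := fun l => if x l = x i0 then 1 else if l < m.τ l then m.y4 else m.y4⁻¹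
    have hv : ∀ l, v (m.τ l) = (v l)⁻¹ := fun l => by
      by_cases a : x l = x i0
      · simp only [v, e, if_pos a, inv_one]
      · simp only [v, e, if_neg a, tt m.hτ]
        by_cases b : l < m.τ l
        · rw [if_pos b, if_neg (not_lt.2 b.le)]
        · rw [if_neg b, if_pos (lt_of_le_of_ne (not_lt.1 b) (hJ l a)), inv_inv]
    have hv1 : m.D1 v := by
      refine ⟨(m.hD v).2 fun l => ⟨?_, fun ht => ?_⟩, ?_⟩
      · simp only [v]; split_ifs
        exacts [one_mem _, y4_mem, inv_mem y4_mem]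
      · rw [hv]; simp only [v]; split_ifs
        · simp
        · exact y4_q ht
        · rw [inv_pow, ← y4_q ht]
      · refine Finset.prod_involution (fun l _ => m.τ l) (fun l _ => by rw [hv, mul_inv_cancel])
          (fun l _ a => hJ l fun b => a (if_pos b)) (fun _ _ => Finset.mem_univ _)
          fun l _ => tt m.hτ l
    obtain ⟨s, hs⟩ := hv1.exists_rp
    have hui : u⁻¹ = u := inv_eq_of_sq (B1_sq huB)
    have hzs : z = t * s * t⁻¹ * s⁻¹ := by
      refine (hx.eq_iff (hs.cm t)).2 ⟨x i0, fun l => ?_⟩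
      simp only [Pi.mul_apply, Pi.inv_apply, ht]
      by_cases a : x l = x i0
      · rw [rt_fix (by rw [hu]; exact if_pos a), a]; simp
      · have b : u l = m.τ l := by rw [hu]; exact if_neg a
        have c : v l * v l = -1 := by
          simp only [v, if_neg a]; split_ifs
          · exact y4_sq
          · rw [← mul_inv, y4_sq]; simp
        rw [rt, hui, b, hv, ← mul_inv, inv_inv, c, sgn z x hx h2 l a]; simp
    have hβs : m.ω (β s) = 1 := stepA hn β s hs.ω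
    obtain ⟨v', hv'⟩ := exists_rp hβs
    have h5 := hv'.cm (β t)
    rw [← map_inv, ← map_inv, ← map_mul, ← map_mul, ← map_mul, ← hzs, stepB hn β hβ, ht] at h5
    intro i hi
    have := ((hx'.eq_iff h5).1 rfl).eq i i0
    simp only [Pi.mul_apply, Pi.inv_apply] at this
    rwa [rt_fix (by rw [hu]; exact if_pos hi), rt_fix (by rw [hu]; exact if_pos rfl), inv_one,
      mul_one, mul_one] at this
  obtain ⟨x, hx⟩ := exists_rp hz
  obtain ⟨x', hx'⟩ := exists_rp (stepA hn α z hz)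
  have h2 : α z * α z = 1 := by rw [← map_mul, hz2, map_one]
  have h3 : ∀ t, t * α z = α z * t := fun t => by
    obtain ⟨t, rfl⟩ := α.surjective t
    rw [← map_mul, hzc, map_mul]
  have k1 := key α hodd z x x' hx hx' hz2 hzc
  have k2 := key α⁻¹ (by rwa [orderOf_inv]) (α z) x' x hx' (by simpa using hx) h2 h3
  refine (hx'.eq_iff hx).2 ⟨x' i0 * (x i0)⁻¹, fun l => ?_⟩
  simp only [Pi.mul_apply, Pi.inv_apply]
  by_cases a : x l = x i0
  · rw [k1 l a, a]
  · rw [sgn _ _ hx hz2 l a, sgn _ _ hx' h2 l fun b => a (k2 l b)]; simp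

theorem main [Finite T] (hT : IsPGroup 2 T) (hn : 3 ≤ n) (m : Mod K n M T) (α : MulAut T)
    (hodd : Odd (orderOf α)) : α = 1 := by
  have fin : ∀ t s : T, α t = t * s → α s = s → α t = t := by
    intro t s h1 h2
    obtain ⟨e, he⟩ := hT s
    have h3 : ∀ k : ℕ, (α ^ k) t = t * s ^ k := by
      intro k
      induction k with
      | zero => simp
      | succ k ih => rw [pow_succ', MulAut.mul_apply, ih, map_mul, map_pow, h1, h2, mul_assoc,
          ← pow_succ']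
    obtain ⟨k, hk⟩ := pow_eq_of_odd hodd e
    rw [← hk, h3, pow_mul, he, one_pow, mul_one]
  have hω : ∀ t, m.ω (t⁻¹ * α t) = 1 := fun t => by
    rw [map_mul, stepB hn α hodd, map_inv, inv_mul_cancel]
  have hA : ∀ s, m.ω s = 1 → α s = s := by
    let Y : Subgroup T :=
      { carrier := {y | ∃ s, m.ω s = 1 ∧ y = s⁻¹ * α s}
        one_mem' := ⟨1, map_one _, by simp⟩
        mul_mem' := by
          rintro _ _ ⟨a, ha, rfl⟩ ⟨b, hb, rfl⟩
          refine ⟨a * b, by rw [map_mul, ha, hb, mul_one], ?_⟩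
          have := comm_of (m := m) (hω a) (t := b⁻¹) (by rw [map_inv, hb, inv_one])
          rw [map_mul, mul_inv_rev, ← mul_assoc, this]; group
        inv_mem' := by
          rintro _ ⟨a, ha, rfl⟩
          refine ⟨a⁻¹, by rw [map_inv, ha, inv_one], ?_⟩
          have := comm_of (m := m) ha (t := (α a)⁻¹) (by rw [map_inv, stepA hn α a ha, inv_one])
          rw [map_inv, inv_inv, mul_inv_rev, inv_inv, this] }
    have hY : Y = ⊥ := by
      by_contra hne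
      obtain ⟨z, ⟨s, hs, hz⟩, z1, z2, z3⟩ := exists_central_invol (W := ⊤) (R := Y)
        (hT.to_subgroup ⊤) le_top (by
          rintro t - _ ⟨a, ha, rfl⟩
          refine ⟨t * a * t⁻¹, by simp [ha], ?_⟩
          have := comm_of (m := m) (hω t) (stepA hn α a ha)
          rw [map_mul, map_mul, map_inv]
          calc t * (a⁻¹ * α a) * t⁻¹
              = t * a⁻¹ * ((t⁻¹ * α t) * α a * (t⁻¹ * α t)⁻¹) * t⁻¹ := by rw [this]; group
            _ = _ := by group) hne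
      have h1 := stepC hn α hodd (m := m) (hz ▸ hω s) z2 fun t => z3 t trivial
      have h2 := fin s z (by rw [hz]; group) h1
      rw [h2, inv_mul_cancel] at hz
      exact z1 hz
    intro s hs
    have : s⁻¹ * α s ∈ Y := ⟨s, hs, rfl⟩
    rw [hY, Subgroup.mem_bot, inv_mul_eq_one] at this
    exact this.symm
  ext t
  exact fin t (t⁻¹ * α t) (by group) (hA _ (hω t))

end H8.PS.Mod
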