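import Cfsg.Agent.H8.PSTwo
import Cfsg.Agent.H86.CFSp

/-! Monomial matrices and the descent to `PSL_n(q)`. -/

set_option autoImplicit false

namespace H8.PS

open Equiv Matrix H86

variable {K : Type*} [Field K] {n : ℕ}

/-- The monomial matrix of an element of `Kˣ wr S_n`. -/
def mono : PW (Fin n) Kˣ →* Matrix (Fin n) (Fin n) K where
  toFun v := Matrix.of fun i j => if j = v.right⁻¹ i then (v.left i : K) else 0
  map_one' := by
    ext i j
    simp [Matrix.one_apply, eq_comm]
  map_mul' v w := by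
    ext i j
    rw [Matrix.mul_apply, Finset.sum_eq_single (v.right⁻¹ i)]
    · have : (v * w).left i = v.left i * w.left (v.right⁻¹ i) := rfl
      simp only [of_apply, if_true, this, SemidirectProduct.mul_right, _root_.mul_inv_rev,
        Perm.mul_apply]
      split_ifs <;> simp
    · intro b _ hb; rw [of_apply, if_neg hb, zero_mul]
    · simp

theorem mono_apply (v : PW (Fin n) Kˣ) (i j : Fin n) :
    mono v i j = if j = v.right⁻¹ i then (v.left i : K) else 0 := rfl

theorem mono_inj : Function.Injective (mono : PW (Fin n) Kˣ → _) := by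
  refine (injective_iff_map_eq_one _).2 fun v hv => ?_
  have h : ∀ i, i = v.right⁻¹ i ∧ (v.left i : K) = 1 := fun i => by
    have := congrFun (congrFun hv i) i
    rw [mono_apply, one_apply_eq] at this
    by_cases h : i = v.right⁻¹ i
    · exact ⟨h, by rwa [if_pos h] at this⟩
    · rw [if_neg h] at this; exact absurd this zero_ne_one
  refine SemidirectProduct.ext (funext fun i => Units.ext (h i).2) ?_
  rw [SemidirectProduct.one_right, ← inv_eq_one]
  exact Equiv.ext fun i => (h i).1.symm

theorem det_mono (v : PW (Fin n) Kˣ) :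
    (mono v).det = ((∏ i, v.left i : Kˣ) : K) * if Perm.sign v.right = 1 then 1 else -1 := by
  have : mono v = diagonal (fun i => (v.left i : K)) * (v.right⁻¹).permMatrix K := by
    ext i j
    rw [diagonal_mul, mono_apply]
    simp [PEquiv.toMatrix_apply, eq_comm]
  rw [this, det_mul, det_diagonal, det_permutation, Perm.sign_inv]
  rcases Int.units_eq_one_or (Perm.sign v.right) with h | h <;> simp [h]

theorem det_mono_eq_one (v : PW (Fin n) Kˣ) :
    (mono v).det = 1 ↔ ∏ i, v.left i = if Perm.sign v.right = 1 then 1 else -1 := by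
  rw [det_mono]
  split_ifs
  · rw [mul_one, Units.val_eq_one]
  · rw [mul_neg, mul_one, neg_eq_iff_eq_neg, ← Units.val_inj]; rfl

theorem mono_scalar {v : PW (Fin n) Kˣ} {k : Kˣ} (h1 : v.right = 1) (h2 : ∀ i, v.left i = k) :
    mono v = scalar (Fin n) (k : K) := by
  ext i j
  rw [mono_apply, h1, h2, scalar_apply, diagonal_apply]
  simp [eq_comm]

theorem of_mono_scalar {v : PW (Fin n) Kˣ} {r : K} (h : mono v = scalar (Fin n) r) :
    v.right = 1 ∧ ∃ k, ∀ i, v.left i = k := by
  have h1 : ∀ i, i = v.right⁻¹ i ∧ (v.left i : K) = r := fun i => by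
    have := congrFun (congrFun h i) (v.right⁻¹ i)
    rw [mono_apply, if_pos rfl, scalar_apply, diagonal_apply] at this
    by_cases h : i = v.right⁻¹ i
    · exact ⟨h, by rwa [if_pos h] at this⟩
    · rw [if_neg h] at this; exact absurd this (v.left i).ne_zero
  refine ⟨by rw [← inv_eq_one]; exact Equiv.ext fun i => (h1 i).1.symm, ?_⟩
  rcases Nat.eq_zero_or_pos n with rfl | hn
  · exact ⟨1, fun i => i.elim0⟩
  · exact ⟨v.left ⟨0, hn⟩, fun i => Units.ext ((h1 i).2.trans (h1 _).2.symm)⟩

/-- The subgroup `D ⋊ W`. -/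
def subDW (D : Subgroup (Fin n → Kˣ)) (W : Subgroup (Perm (Fin n)))
    (h : ∀ x ∈ D, ∀ w ∈ W, (fun i => x (w⁻¹ i)) ∈ D) : Subgroup (PW (Fin n) Kˣ) where
  carrier := {v | v.left ∈ D ∧ v.right ∈ W}
  one_mem' := ⟨one_mem _, one_mem _⟩
  mul_mem' := fun {a b} ha hb => ⟨mul_mem ha.1 (h _ hb.1 _ ha.2), mul_mem ha.2 hb.2⟩
  inv_mem' := fun {a} ha => ⟨h _ (inv_mem ha.1) _ (inv_mem ha.2), inv_mem ha.2⟩

theorem card_subDW (D : Subgroup (Fin n → Kˣ)) (W : Subgroup (Perm (Fin n)))
    (h : ∀ x ∈ D, ∀ w ∈ W, (fun i => x (w⁻¹ i)) ∈ D) :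
    Nat.card (subDW D W h) = Nat.card D * Nat.card W := by
  rw [← Nat.card_prod]
  exact Nat.card_congr ⟨fun v => (⟨v.1.left, v.2.1⟩, ⟨v.1.right, v.2.2⟩),
    fun p => ⟨⟨p.1.1, p.2.1⟩, p.1.2, p.2.2⟩, fun _ => rfl, fun _ => rfl⟩

theorem mem_range_map {F : Type*} [Field F] [Algebra F K] (g : GL (Fin n) K)
    (h : ∀ i j, ∃ t, algebraMap F K t = g i j) :
    g ∈ (GeneralLinearGroup.map (n := Fin n) (algebraMap F K)).range := by
  choose A hA using h
  have h1 : (algebraMap F K).mapMatrix (of A) = g := by ext i j; exact hA i j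
  have h2 : (of A).det ≠ 0 := fun h0 => by
    have := (algebraMap F K).map_det (of A)
    rw [h0, map_zero, h1] at this
    exact g.det_ne_zero this.symm
  exact ⟨GeneralLinearGroup.mkOfDetNeZero _ h2, Units.ext h1⟩

theorem map_inj {F : Type*} [Field F] [Algebra F K] :
    Function.Injective (GeneralLinearGroup.map (n := Fin n) (algebraMap F K)) := fun a b h => by
  ext i j
  exact (algebraMap F K).injective (congrArg (fun g : GL (Fin n) K => g i j) h)

/-- Descent: a conjugate of a monomial group defined over `F`. -/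
theorem descent {F : Type*} [Field F] [Fintype F] [Algebra F K] (M0 : Subgroup (PW (Fin n) Kˣ))
    (h2 : IsPGroup 2 M0) (hc : v2 (Nat.card (GL (Fin n) F)) ≤ v2 (Nat.card M0))
    (B : GL (Fin n) K) (hB : ∀ v ∈ M0, ∀ i j, ∃ t,
      algebraMap F K t = (B⁻¹ * mono.toHomUnits v * B) i j)
    (T : Sylow 2 (ProjectiveSpecialLinearGroup (Fin n) F)) :
    ∃ (M : Subgroup (SpecialLinearGroup (Fin n) F)) (ρ : M →* PW (Fin n) Kˣ) (π : M →* T),
      Function.Surjective π ∧ (∀ g, ρ g ∈ M0 ∧ (mono (ρ g)).det = 1) ∧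
      (∀ v ∈ M0, (mono v).det = 1 → ∃ g, ρ g = v) ∧
      ∀ g, π g = 1 ↔ (ρ g).right = 1 ∧ ∃ k, ∀ i, (ρ g).left i = k := by
  classical
  haveI : Fact (Nat.Prime 2) := ⟨Nat.prime_two⟩
  let ψ : M0 →* GL (Fin n) K :=
    ((MulAut.conj B⁻¹).toMonoidHom.comp mono.toHomUnits).comp M0.subtype
  have hψ : ∀ v, ψ v = B⁻¹ * mono.toHomUnits v.1 * B := fun v => by simp [ψ]
  have ψi : Function.Injective ψ := fun a b h => by
    rw [hψ, hψ, mul_left_inj, mul_right_inj] at h
    exact Subtype.ext (mono_inj (congrArg Units.val h))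
  have hdet : ∀ v, (ψ v : Matrix (Fin n) (Fin n) K).det = (mono v.1).det := fun v => by
    rw [hψ, Units.val_mul, Units.val_mul, det_units_conj']; rfl
  let j := GeneralLinearGroup.map (n := Fin n) (algebraMap F K)
  have hj : ψ.range ≤ j.range := by
    rintro _ ⟨v, rfl⟩
    exact mem_range_map _ fun i k => by rw [hψ]; exact hB _ v.2 i k
  have jdet : ∀ A : GL (Fin n) F, (j A : Matrix (Fin n) (Fin n) K).det =
      algebraMap F K (A : Matrix (Fin n) (Fin n) F).det := fun A =>
    ((algebraMap F K).map_det _).symm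
  let R := ψ.range.comap j
  have cR : Nat.card R = Nat.card M0 := by
    rw [← Subgroup.card_map_of_injective (f := j) map_inj, Subgroup.map_comap_eq_self hj]
    exact (Nat.card_congr (MonoidHom.ofInjective ψi).toEquiv).symm
  have iR : ¬ 2 ∣ R.index := by
    have := not_dvd_index_range (p := 2) R.subtype_injective (by rw [cR]; exact hc)
    rwa [Subgroup.range_subtype] at this
  let M := R.comap (SpecialLinearGroup.toGL (n := Fin n) (R := F))
  have iM : ¬ 2 ∣ M.index := by
    have hr : (SpecialLinearGroup.toGL (n := Fin n) (R := F)).range =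
        (GeneralLinearGroup.det (n := Fin n) (R := F)).ker := by
      ext A
      refine ⟨?_, fun h => ⟨⟨A.1, congrArg Units.val h⟩, Units.ext rfl⟩⟩
      rintro ⟨g, rfl⟩
      exact Units.ext g.2
    rw [Subgroup.index_comap, hr]
    exact fun h => iR (h.trans (H8.relIndex_dvd_index_of_normal_right _ _))
  let ρ0 : M →* M0 := (MonoidHom.ofInjective ψi).symm.toMonoidHom.comp
    (((j.comp SpecialLinearGroup.toGL).comp M.subtype).codRestrict ψ.range fun g => g.2)
  have hρ : ∀ g, ψ (ρ0 g) = j (SpecialLinearGroup.toGL g.1) := fun g =>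
    MonoidHom.apply_ofInjective_symm ψi _
  have ρi : Function.Injective ρ0 := fun a b h => by
    have := hρ a
    rw [h, hρ] at this
    exact Subtype.ext (SpecialLinearGroup.toGL_injective (map_inj this)).symm
  have pM : IsPGroup 2 M := h2.of_injective ρ0 ρi
  let f := QuotientGroup.mk' (Subgroup.center (SpecialLinearGroup (Fin n) F))
  have pP : IsPGroup 2 (M.map f) := pM.map f
  have iP : ¬ 2 ∣ (M.map f).index := fun h =>
    iM (h.trans (Subgroup.index_map_dvd _ (QuotientGroup.mk'_surjective _)))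
  let P : Sylow 2 (ProjectiveSpecialLinearGroup (Fin n) F) := pP.toSylow iP
  let e : M.map f ≃* T := Sylow.equiv P T
  refine ⟨M, M0.subtype.comp ρ0, e.toMonoidHom.comp (f.subgroupMap M),
    e.surjective.comp (f.subgroupMap_surjective M), fun g => ⟨(ρ0 g).2, ?_⟩, fun v hv h => ?_,
    fun g => ?_⟩
  · refine (hdet _).symm.trans ?_
    rw [hρ, jdet]
    exact (congrArg _ g.1.2).trans (map_one _)
  · obtain ⟨A, hA⟩ := hj ⟨⟨v, hv⟩, rfl⟩
    have h1 : (A : Matrix (Fin n) (Fin n) F).det = 1 := by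
      apply (algebraMap F K).injective
      rw [← jdet, hA, hdet, h, map_one]
    have h3 : SpecialLinearGroup.toGL ⟨A.1, h1⟩ = A := Units.ext rfl
    refine ⟨⟨⟨A.1, h1⟩, ⟨⟨v, hv⟩, by rw [h3, hA]⟩⟩, ?_⟩
    exact congrArg Subtype.val (ψi (a₂ := ⟨v, hv⟩) (by rw [hρ]; exact (congrArg j h3).trans hA))
  · have h1 : e.toMonoidHom.comp (f.subgroupMap M) g = 1 ↔
        g.1 ∈ Subgroup.center (SpecialLinearGroup (Fin n) F) := by
      rw [← QuotientGroup.eq_one_iff]
      exact (map_eq_one_iff e e.injective).trans Subtype.ext_iff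
    have h3 : mono (ρ0 g).1 = (B : Matrix (Fin n) (Fin n) K) *
        (j (SpecialLinearGroup.toGL g.1) : Matrix (Fin n) (Fin n) K) * (B⁻¹ : GL (Fin n) K) := by
      rw [← hρ, hψ, ← Units.val_mul, ← Units.val_mul, ← mul_assoc, ← mul_assoc, mul_inv_cancel,
        one_mul, mul_inv_cancel_right]; rfl
    rw [h1]
    refine ⟨fun h => ?_, fun ⟨h4, k, h5⟩ => Subgroup.mem_center_iff.2 fun x => ?_⟩
    · obtain ⟨r, -, hr⟩ := Matrix.SpecialLinearGroup.mem_center_iff.1 h
      refine of_mono_scalar (r := algebraMap F K r) ?_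
      have h4 : (j (SpecialLinearGroup.toGL g.1) : Matrix (Fin n) (Fin n) K) =
          scalar (Fin n) (algebraMap F K r) := by
        ext i l
        change algebraMap F K (g.1.1 i l) = _
        rw [← hr, scalar_apply, scalar_apply, diagonal_apply, diagonal_apply]
        split_ifs <;> simp
      refine h3.trans ?_
      rw [h4, ← (scalar_commute _ (Commute.all _) _).eq, Matrix.mul_assoc, ← Units.val_mul,
        mul_inv_cancel, Units.val_one, Matrix.mul_one]
    · apply SpecialLinearGroup.toGL_injective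
      apply map_inj (K := K)
      have h6 : (j (SpecialLinearGroup.toGL g.1) : Matrix (Fin n) (Fin n) K) =
          scalar (Fin n) (k : K) := by
        rw [← hρ, hψ, Units.val_mul, Units.val_mul, MonoidHom.coe_toHomUnits, mono_scalar (v := (ρ0 g).1) h4 h5,
          ← (scalar_commute _ (Commute.all _) _).eq, Matrix.mul_assoc, ← Units.val_mul,
          inv_mul_cancel, Units.val_one, Matrix.mul_one]
      rw [map_mul, map_mul, map_mul, map_mul]
      apply Units.ext
      rw [Units.val_mul, Units.val_mul]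
      change _ * (j _).1 = (j _).1 * _
      rw [h6, (scalar_commute _ (Commute.all _) _).eq]

end H8.PS
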