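import Cfsg.Agent.H8.PSPerm2

/-! The monomial model of a Sylow 2-subgroup of `PSL_n(q)`. -/

set_option autoImplicit false

namespace H8.PS

open Equiv

/-- Monomial data: `M` is the group of pairs `(x, w)`, `x ∈ D`, `w ∈ W`, of determinant one, and
`T` is its quotient by the scalars. -/
structure Mod (K : Type*) [Field K] (n : ℕ) (M T : Type*) [Group M] [Group T] where
  W : Sylow 2 (Perm (Fin n))
  τ : Perm (Fin n)
  hτ : τ * τ = 1
  hc : ∀ w ∈ (W : Subgroup (Perm (Fin n))), w * τ = τ * w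
  hf : ∀ i j, τ i = i → τ j = j → i = j
  a : ℕ
  c : Kˣ
  hc1 : c ^ 2 ^ (a + 1) = -1
  hne : (-1 : Kˣ) ≠ 1
  tw : Prop
  q : ℕ
  hq : tw → Odd q ∧ 1 ≤ a ∧ c ^ (q + 1) = -1
  D : Subgroup (Fin n → Kˣ)
  hD : ∀ x, x ∈ D ↔ ∀ i, x i ∈ Subgroup.zpowers c ∧ (tw → x (τ i) = x i ^ q)
  co : M → Fin n → Kˣ
  pm : M →* Perm (Fin n)
  co_mul : ∀ g h i, co (g * h) i = co g i * co h ((pm g)⁻¹ i)
  mem : ∀ g, co g ∈ D ∧ pm g ∈ (W : Subgroup (Perm (Fin n))) ∧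
    ∏ i, co g i = if Perm.sign (pm g) = 1 then 1 else -1
  ex : ∀ x ∈ D, ∀ w ∈ (W : Subgroup (Perm (Fin n))),
    (∏ i, x i = if Perm.sign w = 1 then 1 else -1) → ∃ g, co g = x ∧ pm g = w
  π : M →* T
  surj : Function.Surjective π
  ker : ∀ g, π g = 1 ↔ pm g = 1 ∧ ∃ k, ∀ i, co g i = k

namespace Mod

variable {K : Type*} [Field K] {n : ℕ} {M T : Type*} [Group M] [Group T] (m : Mod K n M T)

/-- A vector is constant. -/
def Cst (x : Fin n → Kˣ) : Prop := ∃ k, ∀ i, x i = k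

theorem Cst.eq {x : Fin n → Kˣ} (h : Cst x) (i j : Fin n) : x i = x j := by
  obtain ⟨k, hk⟩ := h; rw [hk, hk]

theorem co_one (i : Fin n) : m.co 1 i = 1 := by
  have := m.co_mul 1 1 i
  simpa using this

theorem co_inv (g : M) (i : Fin n) : m.co g⁻¹ i = (m.co g (m.pm g i))⁻¹ := by
  have := m.co_mul g⁻¹ g i
  rw [inv_mul_cancel, m.co_one, map_inv, inv_inv] at this
  exact eq_inv_of_mul_eq_one_left this.symm

/-- The permutation part on `T`. -/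
noncomputable def ω : T →* Perm (Fin n) :=
  m.π.liftOfSurjective m.surj ⟨m.pm, fun g hg => ((m.ker g).1 hg).1⟩

theorem ω_π (g : M) : m.ω (m.π g) = m.pm g :=
  MonoidHom.liftOfRightInverse_comp_apply _ _ _ _ g

theorem ω_mem (t : T) : m.ω t ∈ (m.W : Subgroup (Perm (Fin n))) := by
  obtain ⟨g, rfl⟩ := m.surj t
  rw [ω_π]; exact (m.mem g).2.1

/-- `t` is the class of the diagonal element `x`. -/
def Rp (t : T) (x : Fin n → Kˣ) : Prop := ∃ g, m.π g = t ∧ m.pm g = 1 ∧ m.co g = x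

/-- Diagonal vectors of determinant one. -/
def D1 (x : Fin n → Kˣ) : Prop := x ∈ m.D ∧ ∏ i, x i = 1

variable {m}

theorem Rp.d1 {t : T} {x : Fin n → Kˣ} (h : m.Rp t x) : m.D1 x := by
  obtain ⟨g, -, h2, rfl⟩ := h
  exact ⟨(m.mem g).1, by simpa [h2] using (m.mem g).2.2⟩

theorem Rp.ω {t : T} {x : Fin n → Kˣ} (h : m.Rp t x) : m.ω t = 1 := by
  obtain ⟨g, rfl, h2, -⟩ := h
  rw [ω_π, h2]

theorem exists_rp {t : T} (h : m.ω t = 1) : ∃ x, m.Rp t x := by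
  obtain ⟨g, rfl⟩ := m.surj t
  exact ⟨_, g, rfl, by rwa [ω_π] at h, rfl⟩

theorem D1.exists_rp {x : Fin n → Kˣ} (h : m.D1 x) : ∃ t, m.Rp t x := by
  obtain ⟨g, h1, h2⟩ := m.ex x h.1 1 (one_mem _) (by simpa using h.2)
  exact ⟨_, g, rfl, h2, h1⟩

theorem Rp.one : m.Rp 1 1 := ⟨1, map_one _, map_one _, funext m.co_one⟩

theorem Rp.mul {s t : T} {x y : Fin n → Kˣ} (h : m.Rp s x) (h' : m.Rp t y) :
    m.Rp (s * t) (x * y) := by
  obtain ⟨g, rfl, h2, rfl⟩ := h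
  obtain ⟨g', rfl, h2', rfl⟩ := h'
  exact ⟨g * g', map_mul _ _ _, by rw [map_mul, h2, h2', mul_one],
    funext fun i => by rw [m.co_mul, h2]; rfl⟩

theorem Rp.inv {s : T} {x : Fin n → Kˣ} (h : m.Rp s x) : m.Rp s⁻¹ x⁻¹ := by
  obtain ⟨g, rfl, h2, rfl⟩ := h
  exact ⟨g⁻¹, map_inv _ _, by rw [map_inv, h2, inv_one],
    funext fun i => by rw [m.co_inv, h2]; rfl⟩

theorem Rp.pow {s : T} {x : Fin n → Kˣ} (h : m.Rp s x) (k : ℕ) : m.Rp (s ^ k) (x ^ k) := by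
  induction k with
  | zero => simpa using Rp.one
  | succ k ih => rw [pow_succ, pow_succ]; exact ih.mul h

theorem Rp.eq_one_iff {s : T} {x : Fin n → Kˣ} (h : m.Rp s x) : s = 1 ↔ Cst x := by
  obtain ⟨g, rfl, h2, rfl⟩ := h
  rw [m.ker]
  exact ⟨fun h => h.2, fun h => ⟨h2, h⟩⟩

theorem Rp.eq_iff {s t : T} {x y : Fin n → Kˣ} (h : m.Rp s x) (h' : m.Rp t y) :
    s = t ↔ Cst (x * y⁻¹) := by
  rw [← (h.mul h'.inv).eq_one_iff, mul_inv_eq_one]

theorem Rp.comm {s t : T} {x y : Fin n → Kˣ} (h : m.Rp s x) (h' : m.Rp t y) : s * t = t * s :=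
  ((h.mul h').eq_iff (h'.mul h)).2 ⟨1, fun i => by
    simp only [Pi.mul_apply, Pi.inv_apply]; rw [mul_comm (x i), mul_inv_cancel]⟩

theorem comm_of {s t : T} (h : m.ω s = 1) (h' : m.ω t = 1) : s * t = t * s := by
  obtain ⟨x, hx⟩ := exists_rp h
  obtain ⟨y, hy⟩ := exists_rp h'
  exact hx.comm hy

theorem Rp.conj {s : T} {x : Fin n → Kˣ} (h : m.Rp s x) (t : T) :
    m.Rp (t * s * t⁻¹) fun i => x ((m.ω t)⁻¹ i) := by
  obtain ⟨g, rfl, h2, rfl⟩ := h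
  obtain ⟨u, rfl⟩ := m.surj t
  refine ⟨u * g * u⁻¹, by simp, by simp [h2], funext fun i => ?_⟩
  rw [m.co_mul, m.co_mul, m.co_inv, map_mul, h2, mul_one, ap_inv, ω_π, mul_comm (m.co u i),
    mul_inv_cancel_right]

/-- The ratio `x^w / x`. -/
def rt (w : Perm (Fin n)) (x : Fin n → Kˣ) : Fin n → Kˣ := fun i => x (w⁻¹ i) * (x i)⁻¹

theorem Rp.cm {s : T} {x : Fin n → Kˣ} (h : m.Rp s x) (t : T) :
    m.Rp (t * s * t⁻¹ * s⁻¹) (rt (m.ω t) x) := (h.conj t).mul h.inv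

theorem rt_mul (w : Perm (Fin n)) (x y : Fin n → Kˣ) (i : Fin n) :
    rt w (x * y) i = rt w x i * rt w y i := by
  simp only [rt, Pi.mul_apply, mul_inv]
  exact mul_mul_mul_comm _ _ _ _

theorem rt_inv (w : Perm (Fin n)) (x : Fin n → Kˣ) (i : Fin n) : rt w x⁻¹ i = (rt w x i)⁻¹ := by
  simp only [rt, Pi.inv_apply, mul_inv]

theorem rt_fix {w : Perm (Fin n)} {i : Fin n} (h : w i = i) (x : Fin n → Kˣ) : rt w x i = 1 := by
  have : w⁻¹ i = i := by rw [Perm.inv_eq_iff_eq, h]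
  simp [rt, this]

/-! ### arithmetic of `c` -/

variable (m)

theorem c_pow : m.c ^ 2 ^ (m.a + 2) = 1 := by
  rw [pow_succ, pow_mul, m.hc1]; simp

theorem order_c : orderOf m.c = 2 ^ (m.a + 2) :=
  haveI : Fact (Nat.Prime 2) := ⟨Nat.prime_two⟩
  orderOf_eq_prime_pow (by rw [m.hc1]; exact m.hne) m.c_pow

theorem c_ne {k : ℕ} (hk : k ≤ m.a + 1) : m.c ^ 2 ^ k ≠ 1 := by
  intro h
  have := m.hc1
  obtain ⟨j, hj⟩ := Nat.exists_eq_add_of_le hk
  rw [hj, pow_add, pow_mul, h, one_pow] at this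
  exact m.hne this.symm

theorem neg_mem : (-1 : Kˣ) ∈ Subgroup.zpowers m.c :=
  m.hc1 ▸ pow_mem (Subgroup.mem_zpowers _) _

variable {m}

theorem exists_pow {y : Kˣ} (hy : y ∈ Subgroup.zpowers m.c) : ∃ k : ℕ, y = m.c ^ k := by
  have : IsOfFinOrder m.c := isOfFinOrder_iff_pow_eq_one.2 ⟨_, by positivity, m.c_pow⟩
  obtain ⟨k, hk⟩ := (this.mem_powers_iff_mem_zpowers).2 hy
  exact ⟨k, hk.symm⟩

theorem pow_N {y : Kˣ} (hy : y ∈ Subgroup.zpowers m.c) : y ^ 2 ^ (m.a + 2) = 1 := by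
  obtain ⟨k, rfl⟩ := exists_pow hy
  rw [← pow_mul, mul_comm, pow_mul, m.c_pow, one_pow]

theorem nrm (h : m.tw) (k : ℕ) : (m.c ^ k) ^ m.q * m.c ^ k = (-1) ^ k := by
  rw [← pow_succ, ← pow_mul, mul_comm, pow_mul, (m.hq h).2.2]

theorem nrm_sq (h : m.tw) {y : Kˣ} (hy : y ∈ Subgroup.zpowers m.c) : (y ^ m.q * y) ^ 2 = 1 := by
  obtain ⟨k, rfl⟩ := exists_pow hy
  rw [nrm h, ← pow_mul, mul_comm, pow_mul]; simp

theorem qq (h : m.tw) {y : Kˣ} (hy : y ∈ Subgroup.zpowers m.c) : (y ^ m.q) ^ m.q = y := by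
  obtain ⟨k, rfl⟩ := exists_pow hy
  have h1 := nrm h k
  have h2 : ((m.c ^ k) ^ m.q * m.c ^ k) ^ m.q = (m.c ^ k) ^ m.q * m.c ^ k := by
    rw [h1, ← pow_mul, mul_comm k, pow_mul, (m.hq h).1.neg_one_pow]
  rw [mul_pow, mul_comm] at h2
  exact mul_left_cancel h2

theorem dvd_chain {u v : Kˣ} (hu : u ∈ Subgroup.zpowers m.c) (hv : v ∈ Subgroup.zpowers m.c) :
    (∃ k : ℕ, u = v ^ k) ∨ ∃ k : ℕ, v = u ^ k := by
  haveI : Fact (Nat.Prime 2) := ⟨Nat.prime_two⟩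
  have key : ∀ u v : Kˣ, 0 < orderOf v → orderOf u ∣ orderOf v → ∃ k : ℕ, u = v ^ k := by
    intro u v h0 hd
    haveI : NeZero (orderOf v) := ⟨h0.ne'⟩
    have hp : IsPrimitiveRoot (v : K) (orderOf v) := by
      rw [← orderOf_units]; exact IsPrimitiveRoot.orderOf _
    have h1 : (u : K) ^ orderOf v = 1 := by
      rw [← Units.val_pow_eq_pow_val, orderOf_dvd_iff_pow_eq_one.1 hd, Units.val_one]
    obtain ⟨k, -, hk⟩ := hp.eq_pow_of_pow_eq_one h1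
    exact ⟨k, Units.ext (by simpa using hk.symm)⟩
  obtain ⟨i, -, hi⟩ := (Nat.dvd_prime_pow Nat.prime_two).1 (orderOf_dvd_of_pow_eq_one (pow_N hu))
  obtain ⟨j, -, hj⟩ := (Nat.dvd_prime_pow Nat.prime_two).1 (orderOf_dvd_of_pow_eq_one (pow_N hv))
  rcases le_total i j with h | h
  · exact Or.inl (key u v (by rw [hj]; positivity) (by rw [hi, hj]; exact pow_dvd_pow _ h))
  · exact Or.inr (key v u (by rw [hi]; positivity) (by rw [hi, hj]; exact pow_dvd_pow _ h))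

/-! ### test vectors -/

/-- The vector with `y` at `i`, `z` at `τ i`. -/
def pv (τ : Perm (Fin n)) (i : Fin n) (y z : Kˣ) : Fin n → Kˣ :=
  fun l => if l = i then y else if l = τ i then z else 1

theorem pv_self (τ : Perm (Fin n)) (i : Fin n) (y z : Kˣ) : pv τ i y z i = y := if_pos rfl

theorem pv_tau {τ : Perm (Fin n)} {i : Fin n} (h : τ i ≠ i) (y z : Kˣ) : pv τ i y z (τ i) = z := by
  simp [pv, h]

theorem pv_ne {τ : Perm (Fin n)} {i l : Fin n} (h1 : l ≠ i) (h2 : l ≠ τ i) (y z : Kˣ) :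
    pv τ i y z l = 1 := by simp [pv, h1, h2]

theorem pv_one {τ : Perm (Fin n)} {i l : Fin n} (h1 : l ≠ i) (y : Kˣ) : pv τ i y 1 l = 1 := by
  simp [pv, h1]

theorem prod_pv {τ : Perm (Fin n)} {i : Fin n} (h : τ i ≠ i) (y z : Kˣ) :
    ∏ l, pv τ i y z l = y * z := by
  rw [Fintype.prod_eq_mul i (τ i) h.symm fun l hl => pv_ne hl.1 hl.2 y z, pv_self, pv_tau h]

theorem prod_pv_one (τ : Perm (Fin n)) (i : Fin n) (y : Kˣ) : ∏ l, pv τ i y 1 l = y := by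
  rw [Fintype.prod_eq_single i fun l hl => pv_one hl y, pv_self]

theorem pv_mem {i : Fin n} {y z : Kˣ} (hy : y ∈ Subgroup.zpowers m.c)
    (hz : z ∈ Subgroup.zpowers m.c) (h : m.tw → z = y ^ m.q ∧ (m.τ i = i → z = y)) :
    pv m.τ i y z ∈ m.D := by
  rw [m.hD]
  intro l
  refine ⟨?_, fun ht => ?_⟩
  · unfold pv; split_ifs
    exacts [hy, hz, one_mem _]
  · obtain ⟨h1, h2⟩ := h ht
    by_cases hi : m.τ i = i
    · by_cases hl : l = i
      · rw [hl, hi, pv_self, ← h1, h2 hi]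
      · rw [pv_ne hl (by rwa [hi]), pv_ne, one_pow]
        · intro h3; exact hl (m.τ.injective (h3.trans hi.symm))
        · intro h3; exact hl (m.τ.injective h3)
    by_cases hl : l = i
    · rw [hl, pv_self, pv_tau hi, h1]
    by_cases hl' : l = m.τ i
    · rw [hl', tt m.hτ, pv_self, pv_tau hi, h1, qq ht hy]
    · rw [pv_ne hl hl', pv_ne, one_pow]
      · intro h3; exact hl' (by rw [← h3, tt m.hτ])
      · intro h3; exact hl (m.τ.injective h3)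

open Classical in
/-- The generating vector at `i`. -/
noncomputable def ev (m : Mod K n M T) (i : Fin n) : Fin n → Kˣ :=
  if m.tw then (if m.τ i = i then pv m.τ i (-1) (-1) else pv m.τ i m.c (m.c ^ m.q))
  else pv m.τ i m.c 1

theorem ev_mem (i : Fin n) : m.ev i ∈ m.D := by
  unfold ev
  split_ifs with h1 h2
  · exact pv_mem m.neg_mem m.neg_mem fun _ => ⟨(m.hq h1).1.neg_one_pow.symm, fun _ => rfl⟩
  · exact pv_mem (Subgroup.mem_zpowers _) (pow_mem (Subgroup.mem_zpowers _) _)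
      fun _ => ⟨rfl, fun h => absurd h h2⟩
  · exact pv_mem (Subgroup.mem_zpowers _) (one_mem _) fun h => absurd h h1

open Classical in
theorem prod_ev (i : Fin n) : ∏ l, m.ev i l = if m.tw then -1 else m.c := by
  unfold ev
  split_ifs with h1 h2
  · rw [Fintype.prod_eq_single i fun l hl => pv_ne hl (by rwa [h2]) _ _, pv_self]
  · rw [prod_pv h2, ← pow_succ', (m.hq h1).2.2]
  · exact prod_pv_one _ _ _

theorem ev_ne {i l : Fin n} (h1 : l ≠ i) (h2 : l ≠ m.τ i) : m.ev i l = 1 := by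
  unfold ev
  split_ifs <;> exact pv_ne h1 h2 _ _

theorem ev_d1 (i k : Fin n) : m.D1 (m.ev i * (m.ev k)⁻¹) :=
  ⟨mul_mem (ev_mem i) (inv_mem (ev_mem k)), by
    simp only [Pi.mul_apply, Pi.inv_apply, Finset.prod_mul_distrib, Finset.prod_inv_distrib,
      prod_ev, mul_inv_cancel]⟩

theorem ev_sq {i : Fin n} (h : m.τ i ≠ i) : (m.ev i (m.τ i) * (m.ev i i)⁻¹) ^ 2 ≠ 1 := by
  unfold ev
  split_ifs with h1
  · rw [pv_self, pv_tau h]
    intro h2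
    have h3 := nrm_sq h1 (Subgroup.mem_zpowers m.c)
    have h4 : m.c ^ 2 ^ 2 = 1 := by
      calc m.c ^ 2 ^ 2 = (m.c ^ m.q * m.c) ^ 2 * ((m.c ^ m.q * m.c⁻¹) ^ 2)⁻¹ := by
            simp only [mul_pow, mul_inv, inv_pow, inv_inv]
            rw [mul_mul_mul_comm, mul_inv_cancel, one_mul, ← pow_add]; rfl
        _ = 1 := by rw [h2, h3]; simp
    exact m.c_ne (by have := (m.hq h1).2.1; omega) h4
  · rw [pv_self, pv_tau h, one_mul, inv_pow, Ne, inv_eq_one]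
    exact m.c_ne (k := 1) (by omega)

theorem exists_lift (hn : 0 < n) {w : Perm (Fin n)} (hw : w ∈ (m.W : Subgroup (Perm (Fin n)))) :
    ∃ t, m.ω t = w := by
  classical
  by_cases hs : Perm.sign w = 1
  · obtain ⟨g, -, hg⟩ := m.ex 1 (one_mem _) w hw (by simp [hs])
    exact ⟨m.π g, by rw [ω_π, hg]⟩
  · obtain ⟨x, hx, hx'⟩ : ∃ x ∈ m.D, ∏ i, x i = -1 := by
      by_cases h : m.tw
      · exact ⟨m.ev ⟨0, hn⟩, ev_mem _, by rw [prod_ev, if_pos h]⟩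
      · exact ⟨pv m.τ ⟨0, hn⟩ (-1) 1, pv_mem m.neg_mem (one_mem _) fun h' => absurd h' h,
          prod_pv_one _ _ _⟩
    obtain ⟨g, -, hg⟩ := m.ex x hx w hw (by rw [if_neg hs, hx'])
    exact ⟨m.π g, by rw [ω_π, hg]⟩

end Mod

end H8.PS
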