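import Cfsg.Agent.H30.SymTwo
import Cfsg.Agent.H2.MinNormal

/-! Sylow 2-subgroups of `Perm (Fin n)`: the central involution with at most one fixed point. -/

set_option autoImplicit false

namespace H8.PS

open Equiv

theorem ap_inv {X : Type*} (u : Perm X) (l : X) : u (u⁻¹ l) = l := by simp

theorem inv_ap {X : Type*} (u : Perm X) (l : X) : u⁻¹ (u l) = l := by simp

theorem le_sylow_of_norm {G : Type*} [Group G] [Finite G] (W : Sylow 2 G) {R : Subgroup G}
    (hR : IsPGroup 2 R) (hn : ∀ w ∈ (W : Subgroup G), ∀ v ∈ R, w * v * w⁻¹ ∈ R) :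
    R ≤ (W : Subgroup G) := by
  have h1 : (W : Subgroup G) ≤ Subgroup.normalizer (R : Set G) := by
    intro w hw
    rw [Subgroup.mem_normalizer_iff]
    intro v
    refine ⟨hn w hw v, fun h => ?_⟩
    have := hn w⁻¹ (inv_mem hw) _ h
    simpa [mul_assoc] using this
  have h2 : IsPGroup 2 ↥((W : Subgroup G) ⊔ R) := W.isPGroup'.to_sup_of_normal_right' hR h1
  have h3 := W.is_maximal' h2 le_sup_left
  exact h3 ▸ le_sup_right

theorem exists_central_invol {G : Type*} [Group G] [Finite G] {W : Subgroup G} (hW : IsPGroup 2 W)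
    {R : Subgroup G} (hRW : R ≤ W) (hn : ∀ w ∈ W, ∀ v ∈ R, w * v * w⁻¹ ∈ R) (hR : R ≠ ⊥) :
    ∃ t ∈ R, t ≠ 1 ∧ t * t = 1 ∧ ∀ w ∈ W, w * t = t * w := by
  haveI : Fact (Nat.Prime 2) := ⟨Nat.prime_two⟩
  haveI hN : (R.subgroupOf W).Normal := ⟨fun v hv w => by
    rw [Subgroup.mem_subgroupOf] at hv ⊢
    exact hn w w.2 v hv⟩
  have hne : R.subgroupOf W ≠ ⊥ := by
    intro h
    apply hR
    rw [eq_bot_iff]
    intro v hv
    have : (⟨v, hRW hv⟩ : W) ∈ R.subgroupOf W := hv
    rw [h, Subgroup.mem_bot] at this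
    exact Subgroup.mem_bot.2 (congrArg Subtype.val this)
  haveI : Group.IsNilpotent W := hW.isNilpotent
  have h1 : R.subgroupOf W ⊓ Subgroup.center W ≠ ⊥ := H2.inf_center_ne_bot_of_isNilpotent _ hne
  obtain ⟨z, hz1⟩ := (Subgroup.ne_bot_iff_exists_ne_one).1 h1
  obtain ⟨k, hk⟩ := hW z.1
  have hz1' : z.1 ≠ 1 := fun h => hz1 (Subtype.ext h)
  -- take the last nontrivial 2-power
  have : ∃ j, z.1 ^ 2 ^ j ≠ 1 ∧ z.1 ^ 2 ^ (j + 1) = 1 := by
    by_contra hc
    push Not at hc
    have : ∀ j, z.1 ^ 2 ^ j ≠ 1 := by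
      intro j
      induction j with
      | zero => simpa using hz1'
      | succ j ih => exact hc j ih
    exact this k hk
  obtain ⟨j, hj1, hj2⟩ := this
  have hm : z.1 ^ 2 ^ j ∈ R.subgroupOf W ⊓ Subgroup.center W := pow_mem z.2 _
  refine ⟨((z.1 ^ 2 ^ j : W) : G), Subgroup.mem_subgroupOf.1 (Subgroup.mem_inf.1 hm).1, fun h => hj1 (Subtype.ext h), ?_, fun w hw => ?_⟩
  · rw [← Subgroup.coe_mul, ← pow_add, ← two_mul, ← pow_succ', hj2]; rfl
  · exact congrArg Subtype.val (Subgroup.mem_center_iff.1 (Subgroup.mem_inf.1 hm).2 ⟨w, hw⟩)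

variable {n : ℕ}

/-- The permutations preserving every `τ`-orbit. -/
def B1 (τ : Perm (Fin n)) (hτ : τ * τ = 1) : Subgroup (Perm (Fin n)) where
  carrier := {v | ∀ l, v l = l ∨ v l = τ l}
  one_mem' := fun l => Or.inl rfl
  mul_mem' := by
    intro u v hu hv l
    have ht : τ (τ l) = l := by rw [← Perm.mul_apply, hτ]; rfl
    rw [Perm.mul_apply]
    rcases hv l with h | h
    · rw [h]; exact hu l
    · rw [h]
      rcases hu (τ l) with h' | h'
      · exact Or.inr h'
      · exact Or.inl (h'.trans ht)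
  inv_mem' := by
    intro u hu l
    have ht : ∀ l, τ (τ l) = l := fun l => by rw [← Perm.mul_apply, hτ]; rfl
    rcases hu (u⁻¹ l) with h | h
    · left; rw [← h]; simp
    · right
      have : τ l = u⁻¹ l := by
        conv_lhs => rw [← ap_inv u l, h, ht]
      exact this.symm

theorem B1_sq {τ : Perm (Fin n)} {hτ : τ * τ = 1} {v : Perm (Fin n)} (hv : v ∈ B1 τ hτ) :
    v * v = 1 := by
  have ht : ∀ l, τ (τ l) = l := fun l => by rw [← Perm.mul_apply, hτ]; rfl
  ext l
  rw [Perm.mul_apply]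
  rcases hv l with h | h
  · rw [h, h]; rfl
  · rw [h]
    rcases hv (τ l) with h' | h'
    · have : τ l = l := v.injective (h'.trans h.symm)
      rw [h', this]; rfl
    · rw [h', ht]; rfl

theorem B1_le (W : Sylow 2 (Perm (Fin n))) {τ : Perm (Fin n)} (hτ : τ * τ = 1)
    (hc : ∀ w ∈ (W : Subgroup (Perm (Fin n))), w * τ = τ * w) :
    B1 τ hτ ≤ (W : Subgroup (Perm (Fin n))) := by
  refine le_sylow_of_norm W (fun v => ⟨1, Subtype.ext ?_⟩) fun w hw v hv l => ?_
  · simpa [pow_two] using B1_sq v.2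
  · have h1 : w (τ (w⁻¹ l)) = τ l := by
      rw [← Perm.mul_apply, hc w hw, Perm.mul_apply, ap_inv]
    simp only [Perm.mul_apply]
    rcases hv (w⁻¹ l) with h | h
    · left; rw [h, ap_inv]
    · right; rw [h, h1]

theorem exists_tau (W : Sylow 2 (Perm (Fin n))) :
    ∃ τ : Perm (Fin n), τ * τ = 1 ∧ (∀ w ∈ (W : Subgroup (Perm (Fin n))), w * τ = τ * w) ∧
      ∀ i j, τ i = i → τ j = j → i = j := by
  classical
  let C : Set (Perm (Fin n)) :=
    {τ | τ * τ = 1 ∧ ∀ w ∈ (W : Subgroup (Perm (Fin n))), w * τ = τ * w}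
  obtain ⟨τ, ⟨h1, h2⟩, hmax⟩ := Set.exists_max_image C (fun τ => τ.support.card) (Set.toFinite C)
    ⟨1, by simp, by simp⟩
  refine ⟨τ, h1, h2, fun i j hi hj => ?_⟩
  by_contra hij
  have hinv : ∀ w ∈ (W : Subgroup (Perm (Fin n))), ∀ l, τ (w l) = w l ↔ τ l = l := by
    intro w hw l
    rw [← Perm.mul_apply, ← h2 w hw, Perm.mul_apply]
    exact w.injective.eq_iff
  -- a central involution supported in the fixed points gives a contradiction
  have key : ∀ t : Perm (Fin n), t ≠ 1 → t * t = 1 → (∀ l, τ l ≠ l → t l = l) →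
      (∀ w ∈ (W : Subgroup (Perm (Fin n))), w * t = t * w) → False := by
    intro t ht1 ht2 hs hc
    have hd : Perm.Disjoint τ t := fun l => by
      by_cases h : τ l = l
      · exact Or.inl h
      · exact Or.inr (hs l h)
    have hm : τ * t ∈ C := by
      refine ⟨?_, fun w hw => ?_⟩
      · rw [mul_assoc, ← mul_assoc t, ← hd.commute.eq, mul_assoc, ht2, mul_one, h1]
      · rw [← mul_assoc, h2 w hw, mul_assoc, hc w hw, mul_assoc]
    have h3 := hmax _ hm
    simp only [hd.card_support_mul] at h3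
    have : t.support.card = 0 := by omega
    exact ht1 (by simpa using this)
  by_cases hmv : ∀ w ∈ (W : Subgroup (Perm (Fin n))), ∀ l, τ l = l → w l = l
  · refine key (swap i j) (by simpa using hij) (swap_mul_self i j) (fun l hl => ?_) fun w hw => ?_
    · exact swap_apply_of_ne_of_ne (fun h => hl (h ▸ hi)) (fun h => hl (h ▸ hj))
    · rw [mul_swap_eq_swap_mul, hmv w hw i hi, hmv w hw j hj]
  · push Not at hmv
    obtain ⟨w0, hw0, l0, hl0, hwl⟩ := hmv
    let R : Subgroup (Perm (Fin n)) :=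
      { carrier := {v | (∀ l, τ l ≠ l → v l = l) ∧
          ∃ w ∈ (W : Subgroup (Perm (Fin n))), ∀ l, τ l = l → v l = w l}
        one_mem' := ⟨fun _ _ => rfl, 1, one_mem _, fun _ _ => rfl⟩
        mul_mem' := by
          rintro u v ⟨hu, a, ha, hua⟩ ⟨hv, b, hb, hvb⟩
          refine ⟨fun l hl => by rw [Perm.mul_apply, hv l hl, hu l hl], a * b, mul_mem ha hb,
            fun l hl => ?_⟩
          rw [Perm.mul_apply, Perm.mul_apply, hvb l hl, hua _ ((hinv b hb l).2 hl)]
        inv_mem' := by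
          rintro u ⟨hu, a, ha, hua⟩
          refine ⟨fun l hl => by rw [Perm.inv_eq_iff_eq, hu l hl], a⁻¹, inv_mem ha, fun l hl => ?_⟩
          rw [Perm.inv_eq_iff_eq, hua _ ((hinv a⁻¹ (inv_mem ha) l).2 hl), ap_inv] }
    have hRn : ∀ w ∈ (W : Subgroup (Perm (Fin n))), ∀ v ∈ R, w * v * w⁻¹ ∈ R := by
      rintro w hw v ⟨hv, b, hb, hvb⟩
      refine ⟨fun l hl => ?_, w * b * w⁻¹, mul_mem (mul_mem hw hb) (inv_mem hw), fun l hl => ?_⟩
      · simp only [Perm.mul_apply]
        rw [hv _ (fun h => hl ((hinv w⁻¹ (inv_mem hw) l).1 h)), ap_inv]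
      · simp only [Perm.mul_apply]
        rw [hvb _ ((hinv w⁻¹ (inv_mem hw) l).2 hl)]
    have hRp : IsPGroup 2 R := by
      rintro ⟨v, hv, b, hb, hvb⟩
      obtain ⟨k, hk⟩ := W.isPGroup' ⟨b, hb⟩
      have hk' : b ^ 2 ^ k = 1 := congrArg Subtype.val hk
      refine ⟨k, Subtype.ext ?_⟩
      have hp : ∀ m : ℕ, ∀ l, (τ l = l → (v ^ m) l = (b ^ m) l) ∧ (τ l ≠ l → (v ^ m) l = l) := by
        intro m
        induction m with
        | zero => intro l; simp
        | succ m ih =>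
          intro l
          refine ⟨fun hl => ?_, fun hl => ?_⟩
          · rw [pow_succ, pow_succ, Perm.mul_apply, Perm.mul_apply, hvb l hl,
              (ih _).1 ((hinv b hb l).2 hl)]
          · rw [pow_succ, Perm.mul_apply, hv l hl, (ih l).2 hl]
      ext l
      by_cases hl : τ l = l
      · have := (hp (2 ^ k) l).1 hl
        rw [hk'] at this
        exact congrArg Fin.val this
      · exact congrArg Fin.val ((hp (2 ^ k) l).2 hl)
    have hRW := le_sylow_of_norm W hRp hRn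
    have hR : R ≠ ⊥ := by
      let v : Perm (Fin n) := Perm.ofSubtype (w0.subtypePerm (p := fun l => τ l = l)
        (fun l => hinv w0 hw0 l))
      have hv : v ∈ R := ⟨fun l hl => Perm.ofSubtype_apply_of_not_mem _ hl, w0, hw0,
        fun l hl => Perm.ofSubtype_apply_of_mem (p := fun l => τ l = l) _ hl⟩
      intro h
      rw [h, Subgroup.mem_bot] at hv
      have : v l0 = w0 l0 := Perm.ofSubtype_apply_of_mem (p := fun l => τ l = l) _ hl0
      rw [hv] at this
      exact hwl this.symm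
    obtain ⟨t, ht, ht1, ht2, htc⟩ := exists_central_invol W.isPGroup' hRW hRn hR
    exact key t ht1 ht2 ht.1 htc

end H8.PS
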