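import Cfsg.Agent.H8.PSPerm

/-! Odd automorphisms acting on a quotient that is a Sylow 2-subgroup of `Perm (Fin n)`. -/

set_option autoImplicit false

namespace H8.PS

open Equiv

variable {n : ℕ}

/-- The transpositions `(i, τ i)`. -/
def IsTh (τ w : Perm (Fin n)) : Prop := ∃ i, τ i ≠ i ∧ w = swap i (τ i)

theorem tt {τ : Perm (Fin n)} (hτ : τ * τ = 1) (l : Fin n) : τ (τ l) = l := by
  rw [← Perm.mul_apply, hτ]; rfl

theorem swap_mem_B1 {τ : Perm (Fin n)} (hτ : τ * τ = 1) (i : Fin n) : swap i (τ i) ∈ B1 τ hτ := by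
  intro l
  by_cases h1 : l = i
  · right; rw [h1, swap_apply_left]
  by_cases h2 : l = τ i
  · right; rw [h2, swap_apply_right, tt hτ]
  · left; exact swap_apply_of_ne_of_ne h1 h2

theorem eq_or_of_swap_eq {a b c d : Fin n} (hab : a ≠ b) (h : swap a b = swap c d) :
    a = c ∨ a = d := by
  by_contra hc
  push Not at hc
  have h1 : swap c d a = a := swap_apply_of_ne_of_ne hc.1 hc.2
  rw [← h, swap_apply_left] at h1
  exact hab h1.symm

theorem mem_B1_of_comm {τ : Perm (Fin n)} (hτ : τ * τ = 1) (hf : ∀ i j, τ i = i → τ j = j → i = j)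
    {v : Perm (Fin n)} (hv : ∀ i, τ i ≠ i → v * swap i (τ i) = swap i (τ i) * v) : v ∈ B1 τ hτ := by
  have key : ∀ u : Perm (Fin n), (∀ i, τ i ≠ i → u * swap i (τ i) = swap i (τ i) * u) →
      ∀ l, τ l ≠ l → u l = l ∨ u l = τ l := by
    intro u hu l hl
    have h1 := hu l hl
    rw [mul_swap_eq_swap_mul, mul_left_inj] at h1
    exact eq_or_of_swap_eq (fun h => hl (u.injective h).symm) h1
  intro l
  by_cases hl : τ l = l
  · left
    by_cases h2 : τ (v l) = v l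
    · exact hf _ _ h2 hl
    · have := key v⁻¹ (fun i hi => by
        rw [inv_mul_eq_iff_eq_mul, ← mul_assoc, hv i hi, mul_inv_cancel_right]) (v l) h2
      rw [inv_ap] at this
      rcases this with h | h
      · exact h.symm
      · exact absurd (τ.injective (by rw [tt hτ, ← h]; have := congrArg τ h; rwa [tt hτ, hl, eq_comm] at this)) h2
  · exact key v hv l hl

theorem IsTh.conj {τ : Perm (Fin n)} {w u : Perm (Fin n)} (h : IsTh τ w) (hu : u * τ = τ * u) :
    IsTh τ (u * w * u⁻¹) := by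
  obtain ⟨i, hi, rfl⟩ := h
  have h1 : τ (u i) = u (τ i) := by rw [← Perm.mul_apply, ← hu]; rfl
  refine ⟨u i, fun h => hi (u.injective (h1.symm.trans h)), ?_⟩
  rw [h1, swap_apply_apply]

section
variable {T : Type*} [Group T] (ω : T →* Perm (Fin n)) (α : MulAut T)

theorem pow_eq_of_odd {G : Type*} [Group G] {g : G} (hg : Odd (orderOf g)) (j : ℕ) :
    ∃ k, g ^ (2 ^ j * k) = g := by
  have hc : Nat.Coprime (2 ^ j) (orderOf g) :=
    Nat.Coprime.pow_left _ (Nat.coprime_two_left.2 hg)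
  obtain ⟨k, hk⟩ := exists_pow_eq_self_of_coprime hc
  exact ⟨k, by rw [pow_mul]; exact hk⟩

theorem wd (hA : ∀ t, ω t = 1 ↔ ω (α t) = 1) (s t : T) : ω s = ω t ↔ ω (α s) = ω (α t) := by
  have := hA (s⁻¹ * t)
  simp only [map_mul, map_inv, inv_mul_eq_one] at this
  exact this

/-- If `α` is trivial on a self-centralizing elementary normal part, it is trivial. -/
theorem fin_step (hodd : Odd (orderOf α)) (hA : ∀ t, ω t = 1 ↔ ω (α t) = 1) (t : T) (e : ℕ)
    (s : T) (hs : ω (α t) = ω t * ω s) (hs1 : ω (α s) = ω s) (hs2 : ω s ^ 2 ^ e = 1) :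
    ω (α t) = ω t := by
  have h1 : ∀ k : ℕ, ω ((α ^ k) t) = ω t * ω s ^ k := by
    intro k
    induction k with
    | zero => simp
    | succ k ih =>
      have h2 : ω ((α ^ k) t) = ω (t * s ^ k) := by rw [ih, map_mul, map_pow]
      rw [wd ω α hA] at h2
      rw [pow_succ', MulAut.mul_apply, h2, map_mul, map_pow, map_mul, map_pow, hs, hs1, mul_assoc,
        ← pow_succ']
  obtain ⟨k, hk⟩ := pow_eq_of_odd hodd e
  rw [← hk, h1, pow_mul, hs2, one_pow, mul_one]

theorem perm_step (W : Sylow 2 (Perm (Fin n))) {τ : Perm (Fin n)} (hτ : τ * τ = 1)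
    (hc : ∀ w ∈ (W : Subgroup (Perm (Fin n))), w * τ = τ * w)
    (hf : ∀ i j, τ i = i → τ j = j → i = j)
    (hW : ∀ t, ω t ∈ (W : Subgroup (Perm (Fin n))))
    (hW' : ∀ w ∈ (W : Subgroup (Perm (Fin n))), ∃ t, ω t = w)
    (hodd : Odd (orderOf α)) (hA : ∀ t, ω t = 1 ↔ ω (α t) = 1)
    (hΘ : ∀ t, IsTh τ (ω t) → IsTh τ (ω (α t))) (t : T) : ω (α t) = ω t := by
  classical
  have hB := B1_le W hτ hc
  choose L hL using fun i => hW' _ (hB (swap_mem_B1 hτ i))
  have hsw : ∀ i, swap (τ i) (τ (τ i)) = swap i (τ i) := fun i => by rw [tt hτ, swap_comm]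
  have hj : ∀ i, ∃ j, τ i ≠ i → τ j ≠ j ∧ ω (α (L i)) = swap j (τ j) := by
    intro i
    by_cases hi : τ i = i
    · exact ⟨i, fun h => absurd hi h⟩
    · obtain ⟨j, h1, h2⟩ := hΘ (L i) ⟨i, hi, hL i⟩
      exact ⟨j, fun _ => ⟨h1, h2⟩⟩
  choose J hJ using hj
  let f : Fin n → Fin n := fun i => if τ i = i then i else if i < τ i then J i else τ (J (τ i))
  have hf1 : ∀ i, τ i = i → f i = i := fun i hi => if_pos hi
  have hti : ∀ i, τ i ≠ i → τ (τ i) ≠ τ i := fun i hi h => hi (τ.injective h)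
  have hf2 : ∀ i, τ i ≠ i → τ (f i) ≠ f i ∧ ω (α (L i)) = swap (f i) (τ (f i)) ∧
      f (τ i) = τ (f i) := by
    intro i hi
    by_cases hlt : i < τ i
    · have e1 : f i = J i := by simp only [f, if_neg hi, if_pos hlt]
      have e2 : f (τ i) = τ (J i) := by
        have : ¬ τ i < i := not_lt.2 hlt.le
        simp only [f, tt hτ, if_neg (Ne.symm hi), if_neg this]
      rw [e1, e2]
      exact ⟨(hJ i hi).1, (hJ i hi).2, rfl⟩
    · have e1 : f i = τ (J (τ i)) := by simp only [f, if_neg hi, if_neg hlt]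
      have hlt' : τ i < i := lt_of_le_of_ne (not_lt.1 hlt) hi
      have e2 : f (τ i) = J (τ i) := by
        simp only [f, tt hτ, if_neg (Ne.symm hi), if_pos hlt']
      obtain ⟨a1, a2⟩ := hJ (τ i) (hti i hi)
      rw [e1, e2]
      refine ⟨hti _ a1, ?_, (tt hτ _).symm⟩
      rw [hsw, ← a2, ← wd ω α hA, hL, hL, hsw]
  have hinj : Function.Injective f := by
    intro i k hik
    by_cases hi : τ i = i
    · by_cases hk : τ k = k
      · exact hf _ _ hi hk
      · exact absurd (by rw [← hik, hf1 i hi, hi]) (hf2 k hk).1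
    · by_cases hk : τ k = k
      · exact absurd (by rw [hik, hf1 k hk, hk]) (hf2 i hi).1
      · have h1 : ω (α (L i)) = ω (α (L k)) := by rw [(hf2 i hi).2.1, (hf2 k hk).2.1, hik]
        rw [← wd ω α hA, hL, hL] at h1
        rcases eq_or_of_swap_eq (Ne.symm hi) h1 with h | h
        · exact h
        · rw [h, (hf2 k hk).2.2] at hik
          exact absurd hik (hf2 k hk).1
  let π : Perm (Fin n) := Equiv.ofBijective f (Finite.injective_iff_bijective.1 hinj)
  have hπ : ∀ s, IsTh τ (ω s) → ω (α s) = π * ω s * π⁻¹ := by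
    rintro s ⟨i, hi, hs⟩
    rw [(wd ω α hA _ _).1 (hs.trans (hL i).symm), hs, ← swap_apply_apply, (hf2 i hi).2.1,
      ← (hf2 i hi).2.2]
    rfl
  have hπW : π ∈ (W : Subgroup (Perm (Fin n))) := by
    refine H30.SymTwo.sym_selfnorm n W π fun w hw => ?_
    obtain ⟨s, rfl⟩ := hW' w hw
    have h1 : π⁻¹ * (ω (α s))⁻¹ * π * ω s ∈ B1 τ hτ := by
      refine mem_B1_of_comm hτ hf fun i hi => ?_
      have a1 : IsTh τ (ω (s * L i * s⁻¹)) := by
        rw [map_mul, map_mul, map_inv]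
        exact IsTh.conj ⟨i, hi, hL i⟩ (hc _ (hW s))
      have a2 := hπ _ a1
      simp only [map_mul, map_inv] at a2
      rw [hπ (L i) ⟨i, hi, hL i⟩, hL] at a2
      have a3 : ω s * swap i (τ i) =
          π⁻¹ * (ω (α s) * (π * swap i (τ i) * π⁻¹) * (ω (α s))⁻¹) * π * ω s := by
        rw [a2]; group
      calc π⁻¹ * (ω (α s))⁻¹ * π * ω s * swap i (τ i)
          = π⁻¹ * (ω (α s))⁻¹ * π * (ω s * swap i (τ i)) := by group
        _ = _ := by rw [a3]; group
    have hπτ : π * τ = τ * π := by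
      ext l
      by_cases hl : τ l = l
      · show ((f (τ l) : Fin n) : ℕ) = τ (f l)
        rw [hl, hf1 l hl, hl]
      · exact congrArg Fin.val (hf2 l hl).2.2
    have h2 : π * (π⁻¹ * (ω (α s))⁻¹ * π * ω s) * π⁻¹ ∈ B1 τ hτ := by
      intro l
      have h3 : π (τ (π⁻¹ l)) = τ l := by
        rw [← Perm.mul_apply, hπτ, Perm.mul_apply, ap_inv]
      rw [Perm.mul_apply, Perm.mul_apply]
      rcases h1 (π⁻¹ l) with h | h
      · left; rw [h, ap_inv]
      · right; rw [h, h3]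
    have h4 := mul_mem (hW (α s)) (hB h2)
    convert h4 using 1
    group
  have hit : ∀ k : ℕ, ∀ s, IsTh τ (ω s) →
      IsTh τ (ω ((α ^ k) s)) ∧ ω ((α ^ k) s) = π ^ k * ω s * (π ^ k)⁻¹ := by
    intro k
    induction k with
    | zero => intro s hs; simpa using hs
    | succ k ih =>
      intro s hs
      rw [pow_succ', MulAut.mul_apply]
      refine ⟨hΘ _ (ih s hs).1, ?_⟩
      rw [hπ _ (ih s hs).1, (ih s hs).2, pow_succ']
      group
  obtain ⟨e, he⟩ := W.isPGroup' ⟨π, hπW⟩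
  have he' : π ^ 2 ^ e = 1 := congrArg Subtype.val he
  have h4 : ∀ s, IsTh τ (ω s) → ω (α s) = ω s := by
    intro s hs
    obtain ⟨k, hk⟩ := pow_eq_of_odd hodd e
    rw [← hk, (hit _ s hs).2, pow_mul, he']
    simp
  have h5 : ∀ m : ℕ, ∀ s, ω s ∈ B1 τ hτ → (ω s).support.card = m → ω (α s) = ω s := by
    intro m
    induction m using Nat.strong_induction_on with | _ m ih => ?_
    intro s hs hm
    by_cases h1 : ω s = 1
    · rw [h1]; exact (hA s).1 h1
    obtain ⟨i, hi⟩ : ∃ i, ω s i ≠ i := by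
      by_contra hc'
      push Not at hc'
      exact h1 (Equiv.ext hc')
    have hi2 : ω s i = τ i := (hs i).resolve_left hi
    have hi3 : τ i ≠ i := hi2 ▸ hi
    have hm' : ω (L i * s) ∈ B1 τ hτ := by
      rw [map_mul, hL]; exact mul_mem (swap_mem_B1 hτ i) hs
    have hlt : (ω (L i * s)).support.card < m := by
      rw [map_mul, hL, ← hm, ← hi2]
      exact Perm.card_support_swap_mul hi
    have h2 := ih _ hlt _ hm' rfl
    rw [map_mul, map_mul, map_mul, h4 (L i) ⟨i, hi3, hL i⟩] at h2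
    exact mul_left_cancel h2
  have h6 : ω (t⁻¹ * α t) ∈ B1 τ hτ := by
    refine mem_B1_of_comm hτ hf fun i hi => ?_
    have a1 : IsTh τ (ω (t * L i * t⁻¹)) := by
      rw [map_mul, map_mul, map_inv]
      exact IsTh.conj ⟨i, hi, hL i⟩ (hc _ (hW t))
    have a2 := h4 _ a1
    simp only [map_mul, map_inv] at a2 ⊢
    rw [h4 (L i) ⟨i, hi, hL i⟩, hL] at a2
    calc (ω t)⁻¹ * ω (α t) * swap i (τ i)
        = (ω t)⁻¹ * (ω (α t) * swap i (τ i) * (ω (α t))⁻¹) * ω (α t) := by group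
      _ = _ := by rw [a2]; group
  refine fin_step ω α hodd hA t 1 (t⁻¹ * α t) (by simp) (h5 _ _ h6 rfl) ?_
  rw [pow_one, pow_two]
  exact B1_sq h6

end

theorem four_aux : ∀ τ : Perm (Fin 4), τ * τ = 1 → (∀ i j, τ i = i → τ j = j → i = j) →
    τ = swap 0 1 * swap 2 3 ∨ τ = swap 0 2 * swap 1 3 ∨ τ = swap 0 3 * swap 1 2 := by
  decide

set_option maxRecDepth 20000 in
theorem four_aux2 (τ : Perm (Fin 4))
    (h : τ = swap 0 1 * swap 2 3 ∨ τ = swap 0 2 * swap 1 3 ∨ τ = swap 0 3 * swap 1 2) :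
    ∃ r : Perm (Fin 4), r * τ = τ * r ∧ r * r ≠ 1 ∧ r ^ 2 ^ 2 = 1 ∧
      (∀ u : Perm (Fin 4), u * τ = τ * u →
        (u * u ≠ 1 → u = r ∨ u = r⁻¹) ∧ u ^ 2 ^ 2 = 1 ∧ (u * r = r * u → ∃ j : Fin 4, u = r ^ j.1)) ∧
      ∀ u v : Perm (Fin 4), u * τ = τ * u → v * τ = τ * v → u * r ≠ r * u → v * r ≠ r * v →
        ∃ j : Fin 4, v = u * r ^ j.1 := by
  rcases h with rfl | rfl | rfl
  · exact ⟨swap 0 1 * swap 0 2 * swap 1 3, by decide, by decide, by decide, by decide, by decide⟩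
  · exact ⟨swap 0 2 * swap 0 1 * swap 2 3, by decide, by decide, by decide, by decide, by decide⟩
  · exact ⟨swap 0 3 * swap 0 1 * swap 3 2, by decide, by decide, by decide, by decide, by decide⟩

theorem perm_step4 {T : Type*} [Group T] (ω : T →* Perm (Fin 4)) (α : MulAut T)
    (W : Sylow 2 (Perm (Fin 4))) {τ : Perm (Fin 4)} (hτ : τ * τ = 1)
    (hc : ∀ w ∈ (W : Subgroup (Perm (Fin 4))), w * τ = τ * w)
    (hf : ∀ i j, τ i = i → τ j = j → i = j)
    (hW : ∀ t, ω t ∈ (W : Subgroup (Perm (Fin 4))))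
    (hW' : ∀ w ∈ (W : Subgroup (Perm (Fin 4))), ∃ t, ω t = w)
    (hodd : Odd (orderOf α)) (hA : ∀ t, ω t = 1 ↔ ω (α t) = 1) (t : T) : ω (α t) = ω t := by
  obtain ⟨r, h1, h2, h3, h4, h5⟩ := four_aux2 τ (four_aux τ hτ hf)
  have hC : Subgroup.centralizer {τ} ≤ (W : Subgroup (Perm (Fin 4))) := by
    have a1 : IsPGroup 2 (Subgroup.centralizer {τ}) := fun u =>
      ⟨2, Subtype.ext (h4 u.1 (Subgroup.mem_centralizer_singleton_iff.1 u.2)).2.1⟩
    have a2 := W.is_maximal' a1 fun w hw => Subgroup.mem_centralizer_singleton_iff.2 (hc w hw)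
    exact a2.le
  obtain ⟨ρ, rfl⟩ := hW' r (hC (Subgroup.mem_centralizer_singleton_iff.2 h1))
  have a1 : ω (α ρ) * ω (α ρ) ≠ 1 := by
    rw [← map_mul, ← map_mul, Ne, ← hA, map_mul]; exact h2
  have a2 : ω (α ρ) = ω ρ := by
    rcases (h4 _ (hc _ (hW _))).1 a1 with h | h
    · exact h
    · have a3 : ∀ k : ℕ, ω ((α ^ (2 ^ 1 * k)) ρ) = ω ρ := by
        intro k
        induction k with
        | zero => simp
        | succ k ih =>
          rw [wd ω α hA, h, ← map_inv, wd ω α hA, map_inv, map_inv, h, inv_inv] at ih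
          rw [← ih, mul_add, add_comm, pow_add]
          rfl
      obtain ⟨k, hk⟩ := pow_eq_of_odd hodd 1
      rw [← hk, a3]
  have a3 : ∀ j : ℕ, ω (α (ρ ^ j)) = ω (ρ ^ j) := fun j => by simp only [map_pow, a2]
  by_cases hcm : ω t * ω ρ = ω ρ * ω t
  · obtain ⟨j, hj⟩ := (h4 _ (hc _ (hW t))).2.2 hcm
    rw [← map_pow] at hj
    rw [(wd ω α hA _ _).1 hj, a3, hj]
  · have hcm' : ω (α t) * ω ρ ≠ ω ρ * ω (α t) := by
      rw [← a2, ← map_mul, ← map_mul, ← map_mul, ← map_mul, Ne, ← wd ω α hA, map_mul, map_mul]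
      exact hcm
    obtain ⟨j, hj⟩ := h5 _ _ (hc _ (hW t)) (hc _ (hW (α t))) hcm hcm'
    refine fin_step ω α hodd hA t 2 (ρ ^ j.1) (by rw [hj, map_pow]) (a3 _) ?_
    rw [map_pow, ← pow_mul, mul_comm, pow_mul, h3, one_pow]

end H8.PS
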