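import Cfsg.Agent.Base

set_option autoImplicit false

universe u

namespace H8.PS

/-- A Sylow 2-subgroup of `PSL_n(q)`, `q` odd (`q ≡ ±1 mod 8` for `n = 2`), has no nontrivial
automorphism of odd order. -/
def Star : Prop :=
  ∀ (n : ℕ), 2 ≤ n → ∀ (F : Type u) [Field F] [Fintype F], Odd (Fintype.card F) →
    (n = 2 → Fintype.card F % 8 = 1 ∨ Fintype.card F % 8 = 7) →
    ∀ (T : Sylow 2 (Matrix.ProjectiveSpecialLinearGroup (Fin n) F))
      (α : MulAut ↥(T : Subgroup (Matrix.ProjectiveSpecialLinearGroup (Fin n) F))),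
      Odd (orderOf α) → α = 1

end H8.PS
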