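import Cfsg.Agent.H8.PSMat
import Cfsg.Agent.H8.PSSpec
import Cfsg.Agent.H86.CFSym
import Cfsg.Agent.H66.SzPoly

/-! Odd order automorphisms of a Sylow 2-subgroup of `PSL_n(q)` are trivial. -/

set_option autoImplicit false

universe u

namespace H8.PS

open Equiv Matrix H86

variable {K : Type*} [Field K] {n : ℕ}

theorem count_tau {τ : Perm (Fin n)} (hτ : τ * τ = 1) (hf : ∀ i j, τ i = i → τ j = j → i = j) :
    Nat.card {i // τ i = i} ≤ 1 ∧ n = 2 * Nat.card {i // i < τ i} + Nat.card {i // τ i = i} := by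
  classical
  refine ⟨Finite.card_le_one_iff_subsingleton.2 ⟨fun a b => Subtype.ext (hf _ _ a.2 b.2)⟩, ?_⟩
  have h1 : Nat.card {i // τ i < i} = Nat.card {i // i < τ i} :=
    Nat.card_congr (τ.subtypeEquiv fun i => by rw [tt hτ])
  rw [two_mul]
  nth_rewrite 1 [← h1]
  simp only [Nat.card_eq_fintype_card, Fintype.card_subtype, Finset.card_filter,
    ← Finset.sum_add_distrib]
  rw [Finset.sum_congr rfl (g := fun _ => 1) fun i _ => by
    rcases lt_trichotomy i (τ i) with h | h | h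
    · simp [h, h.ne', h.not_gt]
    · simp [← h]
    · simp [h, h.ne, h.not_gt]]
  simp

theorem le_v2 {X G : Type*} [Group G] [Finite G] (hG : IsPGroup 2 G) {f : X → G}
    (hf : Function.Injective f) {k : ℕ} (hk : Nat.card X = 2 ^ k) : k ≤ v2 (Nat.card G) := by
  haveI : Fact (Nat.Prime 2) := ⟨Nat.prime_two⟩
  obtain ⟨j, hj⟩ := IsPGroup.iff_card.1 hG
  have := Nat.card_le_card_of_injective f hf
  rw [hk, hj, Nat.pow_le_pow_iff_right (by decide)] at this
  rwa [hj, v2, padicValNat.prime_pow]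

theorem fixed_conj (σ : K →+* K) (ρ : Perm (Fin n)) (B : GL (Fin n) K)
    (hB : GeneralLinearGroup.map σ B = (mono.toHomUnits (SemidirectProduct.inr ρ))⁻¹ * B)
    (v : PW (Fin n) Kˣ) (h1 : ∀ i, σ (v.left i) = v.left (ρ i)) (h2 : v.right * ρ = ρ * v.right)
    (i j : Fin n) :
    σ ((B⁻¹ * mono.toHomUnits v * B) i j) = (B⁻¹ * mono.toHomUnits v * B) i j := by
  have h3 : GeneralLinearGroup.map σ (mono.toHomUnits v) =
      mono.toHomUnits ((SemidirectProduct.inr ρ)⁻¹ * v * SemidirectProduct.inr ρ) := by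
    ext i j
    have e1 : ((SemidirectProduct.inr ρ : PW (Fin n) Kˣ)⁻¹ * v * SemidirectProduct.inr ρ).right =
        v.right := by
      simp only [SemidirectProduct.mul_right, SemidirectProduct.inv_right,
        SemidirectProduct.right_inr]
      rw [mul_assoc, h2, inv_mul_cancel_left]
    have e2 : ((SemidirectProduct.inr ρ : PW (Fin n) Kˣ)⁻¹ * v * SemidirectProduct.inr ρ).left i =
        v.left (ρ i) := by
      rw [← map_inv]
      exact (mul_one _).trans (one_mul _)
    change σ (mono v i j) = mono _ i j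
    rw [mono_apply, mono_apply, e1, e2, ← h1]
    split_ifs <;> simp
  have h4 : GeneralLinearGroup.map σ (B⁻¹ * mono.toHomUnits v * B) =
      B⁻¹ * mono.toHomUnits v * B := by
    rw [map_mul, map_mul, map_inv, hB, h3, map_mul, map_mul, map_inv]; group
  exact congrArg (fun g : GL (Fin n) K => g i j) h4

theorem exists_B (σ : K →+* K) {τ : Perm (Fin n)} (hτ : τ * τ = 1) (θ : K) (h1 : σ (σ θ) = θ)
    (h2 : θ ^ 2 ≠ σ θ ^ 2) : ∃ B : GL (Fin n) K,
      GeneralLinearGroup.map σ B = (mono.toHomUnits (SemidirectProduct.inr τ))⁻¹ * B := by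
  set P : Matrix (Fin n) (Fin n) K := mono (SemidirectProduct.inr τ) with hP
  have hPP : P * P = 1 := by rw [hP, ← map_mul, ← map_mul, hτ, map_one, map_one]
  have hσ : P.map σ = P := by
    ext i j
    rw [Matrix.map_apply, hP, mono_apply]
    split_ifs <;> simp
  have h3 : (θ • (1 : Matrix (Fin n) (Fin n) K) + σ θ • P) *
      ((θ ^ 2 - σ θ ^ 2)⁻¹ • (θ • (1 : Matrix (Fin n) (Fin n) K) - σ θ • P)) = 1 := by
    rw [Matrix.mul_smul]
    simp only [Matrix.add_mul, Matrix.mul_sub, Matrix.mul_smul, Matrix.smul_mul, hPP,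
      Matrix.one_mul, Matrix.mul_one]
    have : θ • (θ • (1 : Matrix (Fin n) (Fin n) K) + σ θ • P) - σ θ • (θ • P + σ θ • 1) =
        (θ ^ 2 - σ θ ^ 2) • (1 : Matrix (Fin n) (Fin n) K) := by module
    rw [this, smul_smul, inv_mul_cancel₀ (sub_ne_zero.2 h2), one_smul]
  refine ⟨Units.mkOfMulEqOne _ _ h3, ?_⟩
  rw [eq_inv_mul_iff_mul_eq]
  apply Units.ext
  change P * (θ • (1 : Matrix (Fin n) (Fin n) K) + σ θ • P).map σ = θ • 1 + σ θ • P
  have : (θ • (1 : Matrix (Fin n) (Fin n) K) + σ θ • P).map σ = σ θ • 1 + θ • P := by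
    ext i j
    have := congrFun (congrFun hσ i) j
    rw [Matrix.map_apply] at this
    simp only [Matrix.map_apply, Matrix.add_apply, Matrix.smul_apply, smul_eq_mul, map_add, map_mul,
      h1, this, Matrix.one_apply]
    split_ifs <;> simp
  rw [this, Matrix.mul_add, Matrix.mul_smul, Matrix.mul_smul, hPP, Matrix.mul_one, add_comm]

theorem zpow_pow (c : Kˣ) (k : ℤ) (N : ℕ) : (c ^ k) ^ N = (c ^ N) ^ k := by
  rw [← zpow_natCast, ← zpow_natCast, ← _root_.zpow_mul, ← _root_.zpow_mul, mul_comm]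

theorem exists_c [Finite K] {a : ℕ} (h : 2 ^ (a + 2) ∣ Nat.card K - 1) :
    ∃ c : Kˣ, orderOf c = 2 ^ (a + 2) ∧ c ^ 2 ^ (a + 1) = -1 ∧ (-1 : Kˣ) ≠ 1 := by
  obtain ⟨g, hg⟩ := IsCyclic.exists_ofOrder_eq_natCard (α := Kˣ)
  rw [Nat.card_units] at hg
  have ho := orderOf_pow_orderOf_div (orderOf_pos g).ne' (hg ▸ h)
  set c := g ^ (orderOf g / 2 ^ (a + 2))
  have h1 : c ^ 2 ^ (a + 1) ≠ 1 := pow_ne_one_of_lt_orderOf (by positivity)
    (by rw [ho]; exact Nat.pow_lt_pow_right (by decide) (by omega))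
  have h2 : c ^ 2 ^ (a + 1) = -1 := by
    refine (Units.inv_eq_self_iff _).1 ?_ |>.resolve_left h1
    rw [inv_eq_iff_mul_eq_one, ← pow_add, ← two_mul, ← pow_succ', ← ho, pow_orderOf_eq_one]
  exact ⟨c, ho, h2, h2 ▸ h1⟩

theorem exists_mod {F : Type*} [Field F] [Fintype F] [Finite K] [Algebra F K]
    (hK : Nat.card K = Fintype.card F ^ 2) (σ : K →+* K) (hσ : ∀ x, σ x = x ^ Fintype.card F)
    (hq : Odd (Fintype.card F)) (T : Sylow 2 (ProjectiveSpecialLinearGroup (Fin n) F)) :
    ∃ (M : Subgroup (SpecialLinearGroup (Fin n) F)) (m : Mod K n M T),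
      (Fintype.card F % 8 = 1 ∨ Fintype.card F % 8 = 7 → 1 ≤ m.a ∧ (m.tw → 2 ≤ m.a)) := by
  classical
  haveI : Fact (Nat.Prime 2) := ⟨Nat.prime_two⟩
  set q := Fintype.card F with hqd
  have q1 : 1 < q := Fintype.one_lt_card
  have hsq := v2_sq_sub_one q1
  have h3 := three_le_v2_sq_sub_one hq q1
  obtain ⟨W⟩ : Nonempty (Sylow 2 (Perm (Fin n))) := inferInstance
  obtain ⟨τ, hτ, hc, hf⟩ := exists_tau W
  have dv : ∀ {k x : ℕ}, x ≠ 0 → (2 ^ k ∣ x ↔ k ≤ v2 x) := fun hx => padicValNat_dvd_iff_le hx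
  have hq0 : q - 1 ≠ 0 := by omega
  have hsq0 : q ^ 2 - 1 ≠ 0 := by have := Nat.one_lt_pow two_ne_zero q1; omega
  obtain ⟨a, ha1, ha2⟩ : ∃ a, (q % 4 = 3 → v2 (q - 1) = 1 ∧ v2 (q ^ 2 - 1) = a + 2) ∧
      (¬ q % 4 = 3 → v2 (q - 1) = a + 2 ∧ v2 (q ^ 2 - 1) = a + 3) := by
    obtain ⟨k, hk⟩ := hq
    by_cases h : q % 4 = 3
    · exact ⟨v2 (q ^ 2 - 1) - 2, fun _ => ⟨v2_eq_one (by omega), by omega⟩, fun h' => absurd h h'⟩
    · have := v2_eq_one (a := q + 1) (by omega)
      exact ⟨v2 (q - 1) - 2, fun h' => absurd h' h, fun _ => by omega⟩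
  obtain ⟨c, ho, hc1, hne⟩ := exists_c (K := K) (a := a) (by
    rw [hK, dv hsq0]
    by_cases h : q % 4 = 3
    · exact (ha1 h).2.ge
    · have := (ha2 h).2; omega)
  have hct : q % 4 = 3 → c ^ (q + 1) = -1 := fun h => by
    refine (Units.inv_eq_self_iff _).1 ?_ |>.resolve_left fun h1 => ?_
    · rw [inv_eq_iff_mul_eq_one, ← pow_add, ← two_mul, ← orderOf_dvd_iff_pow_eq_one, ho,
        dv (by omega), v2_mul two_ne_zero (by omega), v2_two]
      have := ha1 h; omega
    · rw [← orderOf_dvd_iff_pow_eq_one, ho, dv (by omega)] at h1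
      have := ha1 h; omega
  have hcf : ¬ q % 4 = 3 → c ^ q = c := fun h => by
    have : c ^ (q - 1) = 1 := by
      rw [← orderOf_dvd_iff_pow_eq_one, ho, dv hq0, (ha2 h).1]
    rw [← Nat.sub_add_cancel q1.le, pow_succ, this, one_mul]
  let D : Subgroup (Fin n → Kˣ) :=
    { carrier := {x | ∀ i, x i ∈ Subgroup.zpowers c ∧ (q % 4 = 3 → x (τ i) = x i ^ q)}
      one_mem' := fun i => ⟨one_mem _, fun _ => by simp⟩
      mul_mem' := fun {x y} hx hy i => ⟨mul_mem (hx i).1 (hy i).1, fun h => by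
        simp only [Pi.mul_apply, (hx i).2 h, (hy i).2 h, mul_pow]⟩
      inv_mem' := fun {x} hx i => ⟨inv_mem (hx i).1, fun h => by
        simp only [Pi.inv_apply, (hx i).2 h, inv_pow]⟩ }
  have hDW : ∀ x ∈ D, ∀ w ∈ (W : Subgroup (Perm (Fin n))), (fun i => x (w⁻¹ i)) ∈ D :=
    fun x hx w hw i => ⟨(hx _).1, fun h => by
      rw [← (hx _).2 h]
      exact congrArg x (congrArg (· i) (hc _ (inv_mem hw)) :)⟩
  have pD : IsPGroup 2 D := fun x => ⟨a + 2, Subtype.ext (funext fun i => by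
    obtain ⟨k, hk⟩ := (x.2 i).1
    change x.1 i ^ 2 ^ (a + 2) = 1
    rw [← hk, ← ho, zpow_pow, pow_orderOf_eq_one, _root_.one_zpow])⟩
  have cW : Nat.card W = 2 ^ v2 n.factorial := by
    rw [W.card_eq_multiplicity, Nat.card_perm, Nat.card_eq_fintype_card, Fintype.card_fin,
      Nat.factorization_def _ Nat.prime_two]
  have cC : Nat.card (Subgroup.zpowers c) = 2 ^ (a + 2) := by rw [Nat.card_zpowers, ho]
  obtain ⟨hr, hn⟩ := count_tau hτ hf
  set r := Nat.card {i // τ i = i} with hrd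
  set k := Nat.card {i // i < τ i} with hkd
  have cG : v2 (Nat.card (GL (Fin n) F)) = k * (v2 (q - 1) + v2 (q ^ 2 - 1)) + v2 k.factorial +
      r * v2 (q - 1) := by
    have := v2_card_gl hq k
    rcases Nat.le_one_iff_eq_zero_or_eq_one.1 hr with h | h
    · rw [h, zero_mul, add_zero, ← this.1]; rw [h, add_zero] at hn; rw [← hn]
    · rw [h, one_mul, ← this.2]; rw [h] at hn; rw [← hn]
  have cF : v2 n.factorial = k + v2 k.factorial := by
    have : n / 2 = k := by omega
    rw [v2, padicValNat_factorial_div, this]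
  have hcq : q % 4 = 3 → (c ^ q) ^ q = c := fun _ => by
    rw [← pow_mul, ← pow_two, ← Nat.sub_add_cancel (Nat.one_lt_pow two_ne_zero q1).le, pow_succ,
      ← hK, ← Nat.card_units, pow_card_eq_one', one_mul]
  have cD : v2 (Nat.card (GL (Fin n) F)) ≤ v2 (Nat.card D) + v2 n.factorial := by
    rw [cG, cF]
    by_cases h : q % 4 = 3
    · have hneg : (-1 : Kˣ) ∈ Subgroup.zpowers c := hc1 ▸ pow_mem (Subgroup.mem_zpowers _) _
      have hqq : ∀ y : Subgroup.zpowers c, (y.1 ^ q) ^ q = y := by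
        rintro ⟨_, j, rfl⟩
        simp only [zpow_pow, hcq h]
      let f : ({i // i < τ i} → Subgroup.zpowers c) × ({i // τ i = i} → Bool) → D := fun p =>
        ⟨fun l => if h1 : l < τ l then p.1 ⟨l, h1⟩ else if h2 : τ l = l then
            (if p.2 ⟨l, h2⟩ then -1 else 1)
          else (p.1 ⟨τ l, by rw [tt hτ]; exact lt_of_le_of_ne (not_lt.1 h1) h2⟩ : Kˣ) ^ q,
        fun l => by
          by_cases h1 : l < τ l
          · refine ⟨by simp only [dif_pos h1]; exact (p.1 _).2, fun _ => ?_⟩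
            simp only [dif_pos h1]
            rw [dif_neg (by rw [tt hτ]; exact h1.not_gt), dif_neg (by rw [tt hτ]; exact h1.ne)]
            simp only [tt hτ]
          by_cases h2 : τ l = l
          · simp only [h2, lt_irrefl, dif_neg, not_false_eq_true, dif_pos]
            split_ifs
            · exact ⟨hneg, fun _ => hq.neg_one_pow.symm⟩
            · exact ⟨one_mem _, fun _ => (one_pow _).symm⟩
          · simp only [dif_neg h1, dif_neg h2]
            refine ⟨pow_mem (p.1 _).2 _, fun _ => ?_⟩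
            rw [dif_pos (by rw [tt hτ]; exact lt_of_le_of_ne (not_lt.1 h1) h2), hqq]⟩
      have fi : Function.Injective f := fun p p' e => by
        refine Prod.ext (funext fun l => Subtype.ext ?_) (funext fun l => ?_)
        · have := congrFun (congrArg Subtype.val e) l
          simpa only [f, dif_pos l.2] using this
        · have := congrFun (congrArg Subtype.val e) l
          simp only [f, l.2, lt_irrefl, dif_neg, not_false_eq_true, dif_pos] at this
          cases h1 : p.2 l <;> cases h2 : p'.2 l <;> simp_all [hne, hne.symm]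
      have := le_v2 pD fi (k := (a + 2) * k + r) (by
        rw [Nat.card_prod, Nat.card_fun, Nat.card_fun, cC, Nat.card_eq_fintype_card (α := Bool),
          Fintype.card_bool, ← pow_mul, ← pow_add])
      rw [(ha1 h).1, (ha1 h).2]
      nlinarith
    · let f : (Fin n → Subgroup.zpowers c) → D := fun x =>
        ⟨fun i => x i, fun i => ⟨(x i).2, fun h' => absurd h' h⟩⟩
      have fi : Function.Injective f := fun x y e =>
        funext fun i => Subtype.ext (congrFun (congrArg Subtype.val e) i)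
      have := le_v2 pD fi (k := (a + 2) * n) (by
        rw [Nat.card_fun, cC, ← pow_mul, Nat.card_eq_fintype_card, Fintype.card_fin])
      rw [(ha2 h).1, (ha2 h).2]
      nlinarith
  have c0 := card_subDW D W hDW
  have p0 : IsPGroup 2 (subDW D W hDW) := by
    obtain ⟨j, hj⟩ := IsPGroup.iff_card.1 pD
    exact IsPGroup.of_card (by rw [c0, hj, cW, ← pow_add])
  obtain ⟨B, hB⟩ : ∃ B : GL (Fin n) K, GeneralLinearGroup.map σ B =
      (mono.toHomUnits (SemidirectProduct.inr (if q % 4 = 3 then τ else 1)))⁻¹ * B := by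
    split_ifs with h
    · refine exists_B σ hτ c ?_ fun h2 => ?_
      · rw [hσ, hσ, ← Units.val_pow_eq_pow_val, ← Units.val_pow_eq_pow_val, hcq h]
      · rw [hσ, ← Units.val_pow_eq_pow_val, ← Units.val_pow_eq_pow_val,
          ← Units.val_pow_eq_pow_val, Units.val_inj] at h2
        have h4 : c ^ 2 ^ 2 = 1 := by
          calc c ^ 2 ^ 2 = c ^ 2 * c ^ 2 := by group
            _ = (c ^ (q + 1)) ^ 2 := by nth_rewrite 1 [h2]; rw [pow_succ c q, mul_pow]
            _ = 1 := by rw [hct h, neg_one_sq]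
        rw [← orderOf_dvd_iff_pow_eq_one, ho, Nat.pow_dvd_pow_iff_le_right (by decide)] at h4
        have := ha1 h; omega
    · exact ⟨1, by simp⟩
  obtain ⟨M, ρ, π, h1, h2, h4, h5⟩ := descent (F := F) (subDW D W hDW) p0 (by
      rw [c0, v2_mul Nat.card_pos.ne' Nat.card_pos.ne', cW, v2, v2, v2, padicValNat.prime_pow]
      exact cD) B (fun v hv i j => H66.mem_range_of_pow_card (by
      rw [Nat.card_eq_fintype_card, ← hσ]
      refine fixed_conj σ _ B hB v (fun i => ?_) ?_ i j
      · rw [hσ, ← Units.val_pow_eq_pow_val, Units.val_inj]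
        split_ifs with h
        · exact ((hv.1 i).2 h).symm
        · obtain ⟨k, hk⟩ := (hv.1 i).1
          rw [Perm.one_apply, ← hk, zpow_pow, hcf h]
      · split_ifs
        · exact hc _ hv.2
        · simp)) T
  refine ⟨M,
    { W := W, τ := τ, hτ := hτ, hc := hc, hf := hf, a := a, c := c, hc1 := hc1, hne := hne
      tw := q % 4 = 3, q := q, hq := fun h => ⟨hq, by have := ha1 h; omega, hct h⟩
      D := D, hD := fun _ => Iff.rfl, co := fun g => (ρ g).left
      pm := SemidirectProduct.rightHom.comp ρ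
      co_mul := fun g h i => by rw [map_mul]; rfl
      mem := fun g => ⟨(h2 g).1.1, (h2 g).1.2, (det_mono_eq_one _).1 (h2 g).2⟩
      ex := fun x hx w hw h => by
        obtain ⟨g, hg⟩ := h4 ⟨x, w⟩ ⟨hx, hw⟩ ((det_mono_eq_one _).2 h)
        exact ⟨g, congrArg (·.left) hg, congrArg (·.right) hg⟩
      π := π, surj := h1, ker := h5 }, fun h8 => ?_⟩
  by_cases h : q % 4 = 3
  · have := ha1 h
    have h6 : 3 ≤ v2 (q + 1) := (dv (by omega)).1 (by omega)
    exact ⟨by change 1 ≤ a; omega, fun _ => by change 2 ≤ a; omega⟩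
  · have := ha2 h
    have h6 : 3 ≤ v2 (q - 1) := (dv hq0).1 (by omega)
    exact ⟨by change 1 ≤ a; omega, fun h' => absurd h' h⟩

theorem star : Star.{u} := by
  intro n hn F _ _ hq h2 T α hodd
  obtain ⟨p, hp⟩ := CharP.exists F
  haveI : Fact p.Prime := ⟨CharP.char_is_prime F p⟩
  obtain ⟨M, m, hm⟩ := exists_mod (K := FiniteField.Extension F p 2)
    (by rw [FiniteField.natCard_extension, Nat.card_eq_fintype_card])
    (FiniteField.Extension.frob F p 2 : _ →+* _)
    (fun x => by rw [← Nat.card_eq_fintype_card]; exact FiniteField.Extension.frob_apply F p 2)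
    hq T
  rcases hn.eq_or_lt with rfl | hn
  · exact Mod.main2 T.isPGroup' m (hm (h2 rfl)) α hodd
  · exact Mod.main T.isPGroup' hn m α hodd

end H8.PS
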