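import Cfsg.Agent.H8.PSMod

/-! The torus of the monomial model is characteristic. -/

set_option autoImplicit false

namespace H8.PS.Mod

open Equiv

variable {K : Type*} [Field K] {n : ℕ} {M T : Type*} [Group M] [Group T] {m : Mod K n M T}

theorem inv_eq_of_sq {w : Perm (Fin n)} (hw : w * w = 1) : w⁻¹ = w := inv_eq_of_mul_eq_one_right hw

theorem exists_third (hn : 3 ≤ n) (i j : Fin n) : ∃ k, k ≠ i ∧ k ≠ j := by
  by_contra hc
  push Not at hc
  have : (Finset.univ : Finset (Fin n)) ⊆ {i, j} := fun k _ => by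
    by_cases h : k = i
    · simp [h]
    · simp [hc k h]
  have h1 := (Finset.card_le_card this).trans Finset.card_le_two
  simp at h1; omega

section
variable {B : Subgroup T} [hB : B.Normal] (hab : ∀ s ∈ B, ∀ t ∈ B, s * t = t * s)
include hab

theorem quad {b : T} (hb : b ∈ B) (hw : m.ω b * m.ω b = 1) {x : Fin n → Kˣ} (hx : m.D1 x)
    (i l : Fin n) : rt (m.ω b) x i ^ 2 = rt (m.ω b) x l ^ 2 := by
  obtain ⟨s, hs⟩ := hx.exists_rp
  have h1 : b * s * b⁻¹ * s⁻¹ ∈ B := by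
    have := mul_mem hb (hB.conj_mem _ (inv_mem hb) s)
    simpa only [mul_assoc] using this
  have h2 := hs.cm b
  have h3 : b * (b * s * b⁻¹ * s⁻¹) * b⁻¹ = b * s * b⁻¹ * s⁻¹ := by
    rw [hab b hb _ h1, mul_inv_cancel_right]
  have h4 := ((h2.conj b).eq_iff h2).1 h3
  have h5 : ∀ j, rt (m.ω b) x ((m.ω b)⁻¹ j) = (rt (m.ω b) x j)⁻¹ := by
    intro j
    simp only [rt, inv_eq_of_sq hw, tt hw, mul_inv, inv_inv, mul_comm]
  have h6 := h4.eq i l
  simp only [Pi.mul_apply, Pi.inv_apply, h5] at h6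
  rw [← inv_inj, pow_two, pow_two, mul_inv, mul_inv, h6]

theorem qtest (hn : 3 ≤ n) {b : T} (hb : b ∈ B) (hw : m.ω b ∈ B1 m.τ m.hτ) (h1 : m.ω b ≠ 1) :
    m.ω b = m.τ ∧ (∀ l, m.τ l ≠ l) ∧
      ∀ i k, k ≠ i → k ≠ m.τ i → ∀ l, l = i ∨ l = m.τ i ∨ l = k ∨ l = m.τ k := by
  have hsq := B1_sq hw
  have key : ∀ i k, m.ω b i ≠ i → k ≠ i → k ≠ m.τ i → ∀ l,
      rt (m.ω b) (m.ev i * (m.ev k)⁻¹) l ≠ 1 := by
    intro i k hi hk1 hk2 l hl
    have hi2 : m.ω b i = m.τ i := (hw i).resolve_left hi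
    have h2 := quad hab hb hsq (ev_d1 i k) i l
    rw [hl, one_pow, rt_mul, rt_inv] at h2
    have e1 : m.ev k i = 1 := ev_ne hk1.symm fun h => hk2 (by rw [h, tt m.hτ])
    have e2 : m.ev k (m.τ i) = 1 := ev_ne hk2.symm fun h => hk1 (m.τ.injective h).symm
    simp only [rt, inv_eq_of_sq hsq, hi2, e1, e2, inv_one, mul_one] at h2
    exact ev_sq (hi2 ▸ hi) h2
  obtain ⟨i, hi⟩ : ∃ i, m.ω b i ≠ i := by
    by_contra hc
    push Not at hc
    exact h1 (Equiv.ext hc)
  obtain ⟨k, hk1, hk2⟩ := exists_third hn i (m.τ i)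
  have h2 : ∀ l, m.ω b l ≠ l := fun l hl => key i k hi hk1 hk2 l (rt_fix hl _)
  have h3 : ∀ l, m.ω b l = m.τ l := fun l => (hw l).resolve_left (h2 l)
  refine ⟨Equiv.ext h3, fun l => h3 l ▸ h2 l, fun i k hk1 hk2 l => ?_⟩
  by_contra hc
  push Not at hc
  obtain ⟨c1, c2, c3, c4⟩ := hc
  refine key i k (h2 i) hk1 hk2 l ?_
  have t1 : ∀ j, l ≠ j → l ≠ m.τ j → m.ev j (m.τ l) = 1 := fun j a1 a2 =>
    ev_ne (fun h => a2 (by rw [← h, tt m.hτ])) fun h => a1 (m.τ.injective h)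
  simp only [rt, inv_eq_of_sq hsq, h3, Pi.mul_apply, Pi.inv_apply, ev_ne c1 c2, ev_ne c3 c4,
    t1 i c1 c2, t1 k c3 c4, inv_one, mul_one]

theorem exc (hn : 3 ≤ n) {b0 : T} (hb0 : b0 ∈ B) (h0 : m.ω b0 = m.τ) (hf : ∀ l, m.τ l ≠ l)
    (hX : ∀ i k, k ≠ i → k ≠ m.τ i → ∀ l, l = i ∨ l = m.τ i ∨ l = k ∨ l = m.τ k)
    {b : T} (hb : b ∈ B) (hw : m.ω b = 1 ∨ m.ω b = m.τ) : b * b = 1 := by
  classical
  have hti := inv_eq_of_sq m.hτ
  let i : Fin n := ⟨0, by omega⟩
  obtain ⟨k, hk1, hk2⟩ := exists_third hn i (m.τ i)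
  have hk3 : m.τ k ≠ i := fun h => hk2 (by rw [← h, tt m.hτ])
  have hk4 : m.τ k ≠ m.τ i := fun h => hk1 (m.τ.injective h)
  have huniv : (Finset.univ : Finset (Fin n)) = {i, m.τ i, k, m.τ k} := by
    ext l; simpa using hX i k hk1 hk2 l
  have hprod : ∀ x : Fin n → Kˣ, ∏ l, x l = x i * x (m.τ i) * (x k * x (m.τ k)) := by
    intro x
    rw [huniv, Finset.prod_insert (by simp [(hf i).symm, hk1.symm, hk3.symm]),
      Finset.prod_insert (by simp [hk2.symm, hk4.symm]), Finset.prod_pair (hf k).symm, mul_assoc]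
  have h4 : ¬ m.tw → ∀ y ∈ Subgroup.zpowers m.c, y ^ 4 = 1 := by
    intro ht y hy
    have h2 := quad hab hb0 (by rw [h0, m.hτ]) (ev_d1 i (m.τ i)) i k
    simp only [rt, h0, hti, Pi.mul_apply, Pi.inv_apply, ev, if_neg ht, pv_self,
      pv_one (hf i), pv_one (hf i).symm, pv_one hk1, pv_one hk2, pv_one hk3, pv_one hk4] at h2
    obtain ⟨j, rfl⟩ := exists_pow hy
    have : m.c ^ 4 = 1 := by
      rw [← inv_eq_one]
      simpa [pow_succ, mul_assoc] using h2
    rw [← pow_mul, mul_comm, pow_mul, this, one_pow]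
  have E1 : ∀ b ∈ B, m.ω b = 1 → b * b = 1 := by
    intro b hb h1
    obtain ⟨x, hx⟩ := exists_rp h1
    obtain ⟨χ, hχ⟩ := ((hx.conj b0).eq_iff hx).1 (by rw [hab b0 hb0 b hb, mul_inv_cancel_right])
    have e : ∀ l, x (m.τ l) = χ * x l := fun l => by
      have := hχ l
      simp only [h0, hti, Pi.mul_apply, Pi.inv_apply] at this
      rw [← this, inv_mul_cancel_right]
    have e2 : χ * χ = 1 := by
      have := e (m.τ i)
      rw [tt m.hτ, e i, ← mul_assoc] at this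
      exact (mul_eq_right.1 this.symm)
    have e3 : x i ^ 4 = 1 := by
      by_cases ht : m.tw
      · have a1 := nrm_sq ht ((m.hD x).1 hx.d1.1 i).1
        rw [← ((m.hD x).1 hx.d1.1 i).2 ht, e i] at a1
        calc x i ^ 4 = χ * χ * x i ^ 4 := by rw [e2, one_mul]
          _ = (χ * x i * x i) ^ 2 := by simp only [pow_succ, pow_zero, one_mul]; ac_rfl
          _ = 1 := a1
      · exact h4 ht _ ((m.hD x).1 hx.d1.1 i).1
    have e4 : x i * x i * (x k * x k) = 1 := by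
      have := hx.d1.2
      rw [hprod, e i, e k] at this
      calc x i * x i * (x k * x k) = χ * χ * (x i * x i * (x k * x k)) := by rw [e2, one_mul]
        _ = x i * (χ * x i) * (x k * (χ * x k)) := by ac_rfl
        _ = 1 := this
    have e5 : x k * x k = x i * x i := by
      apply mul_left_cancel (a := x i * x i)
      rw [e4, ← e3]; simp only [pow_succ, pow_zero, one_mul, mul_assoc]
    have e6 : ∀ l, x (m.τ l) * x (m.τ l) = x l * x l := fun l => by
      rw [e l, mul_mul_mul_comm, e2, one_mul]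
    refine (hx.mul hx).eq_one_iff.2 ⟨x i * x i, fun l => ?_⟩
    rcases hX i k hk1 hk2 l with rfl | rfl | rfl | rfl
    exacts [rfl, e6 i, e5, (e6 k).trans e5]
  rcases hw with hw | hw
  · exact E1 b hb hw
  obtain ⟨g, rfl⟩ := m.surj b
  rw [ω_π] at hw
  have hsg : Perm.sign m.τ = 1 := by
    have : m.τ = swap i (m.τ i) * swap k (m.τ k) := by
      ext l
      rw [Perm.mul_apply]
      rcases hX i k hk1 hk2 l with rfl | rfl | rfl | rfl
      · rw [swap_apply_of_ne_of_ne hk1.symm hk3.symm, swap_apply_left]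
      · rw [swap_apply_of_ne_of_ne hk2.symm hk4.symm, swap_apply_right, tt m.hτ]
      · rw [swap_apply_left, swap_apply_of_ne_of_ne hk3 hk4]
      · rw [swap_apply_right, swap_apply_of_ne_of_ne hk1 hk2, tt m.hτ]
    rw [this, map_mul, Perm.sign_swap (hf i).symm, Perm.sign_swap (hf k).symm]; simp
  obtain ⟨hg1, -, hg3⟩ := m.mem g
  rw [hw, if_pos hsg, hprod] at hg3
  set x := m.co g with hx
  have e1 : (x i * x (m.τ i)) ^ 2 = 1 := by
    by_cases ht : m.tw
    · rw [((m.hD x).1 hg1 i).2 ht, mul_comm]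
      exact nrm_sq ht ((m.hD x).1 hg1 i).1
    · obtain ⟨h, hh1, hh2⟩ := m.ex (pv m.τ i (-1) 1)
        (pv_mem m.neg_mem (one_mem _) fun h' => absurd h' ht) (swap i (m.τ i))
        (B1_le m.W m.hτ m.hc (swap_mem_B1 m.hτ i))
        (by rw [prod_pv_one, Perm.sign_swap (hf i).symm, if_neg (by decide)])
      have hcm : swap i (m.τ i) * m.τ = m.τ * swap i (m.τ i) :=
        m.hc _ (B1_le m.W m.hτ m.hc (swap_mem_B1 m.hτ i))
      have hu : m.pm (h * g * h⁻¹ * g⁻¹) = 1 := by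
        simp only [map_mul, map_inv, hh2, hw]
        rw [hcm]; group
      have hu2 : m.π (h * g * h⁻¹ * g⁻¹) ∈ B := by
        simp only [map_mul, map_inv]
        exact mul_mem (hB.conj_mem _ hb _) (inv_mem hb)
      have hr : m.Rp (m.π (h * g * h⁻¹ * g⁻¹)) (m.co (h * g * h⁻¹ * g⁻¹)) := ⟨_, rfl, hu, rfl⟩
      have a1 := ((hr.mul hr).eq_one_iff.1 (E1 _ hu2 hr.ω)).eq i k
      have hsi := swap_inv i (m.τ i)
      simp only [Pi.mul_apply, m.co_mul, m.co_inv, map_mul, map_inv, hh1, hh2, hw, mul_inv_rev,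
        inv_inv, hsi, hti, Perm.mul_apply, swap_apply_left, swap_apply_right, tt m.hτ,
        swap_apply_of_ne_of_ne hk1 hk2, swap_apply_of_ne_of_ne hk3 hk4, pv_self, pv_one (hf i),
        pv_one hk1, pv_one hk3, ← hx, inv_one, mul_one, one_mul, mul_inv_cancel] at a1
      have a2 := h4 ht _ ((m.hD x).1 hg1 i).1
      calc (x i * x (m.τ i)) ^ 2
          = x i ^ 4 * (-1 * x (m.τ i) * (x i)⁻¹ * (-1 * x (m.τ i) * (x i)⁻¹)) := by
            apply Units.ext
            simp only [Units.val_pow_eq_pow_val, Units.val_mul, Units.val_neg, Units.val_one,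
              Units.val_inv_eq_inv_val]
            field_simp
        _ = 1 := by rw [a1, a2, mul_one]
  have e2 : x k * x (m.τ k) = x i * x (m.τ i) := by
    apply mul_left_cancel (a := x i * x (m.τ i))
    rw [hg3, ← pow_two, e1]
  rw [← map_mul, m.ker]
  refine ⟨by rw [map_mul, hw, m.hτ], x i * x (m.τ i), fun l => ?_⟩
  rw [m.co_mul, hw, hti, ← hx]
  rcases hX i k hk1 hk2 l with rfl | rfl | rfl | rfl
  · rfl
  · rw [tt m.hτ, mul_comm]
  · exact e2
  · rw [tt m.hτ, mul_comm, e2]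

end

theorem stepA (hn : 3 ≤ n) (β : MulAut T) (t : T) (ht : m.ω t = 1) : m.ω (β t) = 1 := by
  classical
  by_contra hne
  let B : Subgroup T := m.ω.ker.map β.toMonoidHom
  haveI hB : B.Normal := Subgroup.Normal.map inferInstance _ β.surjective
  have hab : ∀ s ∈ B, ∀ t ∈ B, s * t = t * s := by
    rintro _ ⟨s, hs, rfl⟩ _ ⟨t, ht, rfl⟩
    rw [← map_mul, ← map_mul, comm_of hs ht]
  obtain ⟨w, ⟨b0, hb0, rfl⟩, hw1, -, hw3⟩ := exists_central_invol m.W.isPGroup'
    (R := B.map m.ω) (by rintro _ ⟨b, -, rfl⟩; exact m.ω_mem b)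
    (by
      rintro w hw _ ⟨b, hb, rfl⟩
      obtain ⟨s, rfl⟩ := exists_lift (by omega) hw
      exact ⟨s * b * s⁻¹, hB.conj_mem _ hb _, by simp⟩)
    (fun h => hne (by
      have : m.ω (β t) ∈ B.map m.ω := ⟨β t, ⟨t, ht, rfl⟩, rfl⟩
      rwa [h, Subgroup.mem_bot] at this))
  have hB1 : m.ω b0 ∈ B1 m.τ m.hτ := mem_B1_of_comm m.hτ m.hf fun i _ =>
    (hw3 _ (B1_le m.W m.hτ m.hc (swap_mem_B1 m.hτ i))).symm
  obtain ⟨h0, hf, hX⟩ := qtest hab hn hb0 hB1 hw1
  have E : ∀ s x, m.Rp s x → m.ω (β s) ∈ B1 m.τ m.hτ → Cst (x * x) := by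
    intro s x hs h1
    have hb : β s ∈ B := ⟨s, hs.ω, rfl⟩
    have := exc hab hn hb0 h0 hf hX hb (by
      by_cases h : m.ω (β s) = 1
      · exact Or.inl h
      · exact Or.inr (qtest hab hn hb h1 h).1)
    rw [← map_mul, map_eq_one_iff β β.injective] at this
    exact (hs.mul hs).eq_one_iff.1 this
  have hnB : ∀ u ∈ (m.W : Subgroup (Perm (Fin n))), u ∉ B1 m.τ m.hτ →
      ∀ l, u l ≠ l ∧ u l ≠ m.τ l := by
    intro u hu h1 l
    have hcm : ∀ j, u (m.τ j) = m.τ (u j) := fun j => by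
      rw [← Perm.mul_apply, m.hc u hu]; rfl
    by_contra hc
    have h2 : u l = l ∨ u l = m.τ l := by tauto
    have h3 : u (m.τ l) = l ∨ u (m.τ l) = m.τ l := by
      rw [hcm]
      rcases h2 with h | h
      · right; rw [h]
      · left; rw [h, tt m.hτ]
    refine h1 fun j => ?_
    by_cases j1 : j = l
    · rw [j1]; exact h2
    by_cases j2 : j = m.τ l
    · rw [j2, tt m.hτ]; exact h3.symm
    have hne : u l ≠ u (m.τ l) := fun h => hf l (u.injective h).symm
    rcases hX l j j1 j2 (u j) with h | h | h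
    · exfalso
      rcases h2 with a | a
      · exact j1 (u.injective (h.trans a.symm))
      · rcases h3 with b | b
        · exact j2 (u.injective (h.trans b.symm))
        · exact hne (a.trans b.symm)
    · exfalso
      rcases h2 with a | a
      · rcases h3 with b | b
        · exact hne (a.trans b.symm)
        · exact j2 (u.injective (h.trans b.symm))
      · exact j1 (u.injective (h.trans a.symm))
    · exact h
  let i : Fin n := ⟨0, by omega⟩
  obtain ⟨k, hk1, hk2⟩ := exists_third hn i (m.τ i)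
  have hk3 : m.τ k ≠ i := fun h => hk2 (by rw [← h, tt m.hτ])
  have hk4 : m.τ k ≠ m.τ i := fun h => hk1 (m.τ.injective h)
  obtain ⟨a1, ha1⟩ := (ev_d1 (m := m) i k).exists_rp
  obtain ⟨a2, ha2⟩ := (ev_d1 (m := m) (m.τ i) k).exists_rp
  have hti : m.τ (m.τ i) ≠ m.τ i := hf _
  have c2 : m.c * m.c ≠ 1 := by rw [← pow_two]; exact m.c_ne (k := 1) (by omega)
  have c4 : m.tw → m.c * m.c * (m.c * m.c) ≠ 1 := fun h => by
    have := m.c_ne (k := 2) (by have := (m.hq h).2.1; omega)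
    simpa [pow_succ, mul_assoc] using this
  have eki : m.ev k i = 1 := ev_ne hk1.symm hk3.symm
  have ekt : m.ev k (m.τ i) = 1 := ev_ne hk2.symm hk4.symm
  have eik : m.ev i k = 1 := ev_ne hk1 hk2
  have eit : m.ev i (m.τ k) = 1 := ev_ne hk3 hk4
  have etk : m.ev (m.τ i) k = 1 := ev_ne hk2 (by rwa [tt m.hτ])
  have ett : m.ev (m.τ i) (m.τ k) = 1 := ev_ne hk4 (by rwa [tt m.hτ])
  have es : ∀ l, m.ev l l = m.c := fun l => by
    unfold ev; split_ifs with a b
    exacts [absurd b (hf l), pv_self _ _ _ _, pv_self _ _ _ _]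
  have et1 : ¬ m.tw → ∀ l, m.ev l (m.τ l) = 1 := fun h l => by
    unfold ev; rw [if_neg h, pv_tau (hf l)]
  have et2 : m.tw → ∀ l, m.ev l (m.τ l) = m.c ^ m.q := fun h l => by
    unfold ev; rw [if_pos h, if_neg (hf l), pv_tau (hf l)]
  have n1 : m.ω (β a1) ∉ B1 m.τ m.hτ := fun h => by
    by_cases ht : m.tw
    · have := (E _ _ ha1 h).eq i k
      simp only [Pi.mul_apply, Pi.inv_apply, eki, eik, es, inv_one, mul_one, one_mul] at this
      exact c4 ht (by nth_rewrite 1 [this]; group)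
    · have := (E _ _ ha1 h).eq i (m.τ k)
      simp only [Pi.mul_apply, Pi.inv_apply, eki, eit, es, et1 ht, inv_one, mul_one] at this
      exact c2 this
  have n2 : m.ω (β a2) ∉ B1 m.τ m.hτ := fun h => by
    by_cases ht : m.tw
    · have := (E _ _ ha2 h).eq (m.τ i) k
      simp only [Pi.mul_apply, Pi.inv_apply, ekt, etk, es, inv_one, mul_one, one_mul] at this
      exact c4 ht (by nth_rewrite 1 [this]; group)
    · have := (E _ _ ha2 h).eq (m.τ i) (m.τ k)
      simp only [Pi.mul_apply, Pi.inv_apply, ekt, ett, es, et1 ht, inv_one, mul_one] at this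
      exact c2 this
  have n3 : m.ω (β (a1 * a2)) ∈ B1 m.τ m.hτ := by
    intro l
    rw [map_mul, map_mul, Perm.mul_apply]
    obtain ⟨p1, p2⟩ := hnB _ (m.ω_mem _) n2 l
    obtain ⟨p3, p4⟩ := hnB _ (m.ω_mem _) n1 (m.ω (β a2) l)
    rcases hX l _ p1 p2 (m.ω (β a1) (m.ω (β a2) l)) with h | h | h | h
    exacts [Or.inl h, Or.inr h, absurd h p3, absurd h p4]
  have n4 := E _ _ (ha1.mul ha2) n3
  have eti : m.ev (m.τ i) i = m.ev (m.τ i) (m.τ (m.τ i)) := by rw [tt m.hτ]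
  by_cases ht : m.tw
  · have := n4.eq i k
    simp only [Pi.mul_apply, Pi.inv_apply, eki, eik, etk, es, eti, et2 ht, inv_one, mul_one,
      one_mul] at this
    have a := nrm_sq ht (Subgroup.mem_zpowers m.c)
    rw [pow_two, mul_comm (m.c ^ m.q), this] at a
    exact c4 ht (by rw [← inv_eq_one, ← a]; simp only [mul_inv])
  · have := n4.eq i (m.τ k)
    simp only [Pi.mul_apply, Pi.inv_apply, eki, eit, ett, es, eti, et1 ht, inv_one,
      mul_one] at this
    exact c2 this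

end H8.PS.Mod
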