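import Cfsg.Agent.H8.PSMain
import Cfsg.Agent.S3116

/-! The monomial model for `n = 2`. -/

set_option autoImplicit false

namespace H8.PS.Mod

open Equiv

variable {K : Type*} [Field K] {M T : Type*} [Group M] [Group T]

theorem main2 [Finite T] (hT : IsPGroup 2 T) (m : Mod K 2 M T) (h8 : 1 ≤ m.a ∧ (m.tw → 2 ≤ m.a))
    (α : MulAut T) (hodd : Odd (orderOf α)) : α = 1 := by
  classical
  have hτ : m.τ = swap 0 1 := by
    have : ∀ τ : Perm (Fin 2), (∀ i j, τ i = i → τ j = j → i = j) → τ = swap 0 1 := by decide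
    exact this _ m.hf
  have h0 : m.τ 0 = 1 := by rw [hτ]; rfl
  have h0' : m.τ 0 ≠ 0 := by rw [h0]; decide
  have hp : ∀ w : Perm (Fin 2), w = 1 ∨ w = swap 0 1 := by decide
  obtain ⟨y, hy, hy4, hyq, hgen⟩ : ∃ y ∈ Subgroup.zpowers m.c, y ^ 2 ^ 2 ≠ 1 ∧
      (m.tw → y⁻¹ = y ^ m.q) ∧ ∀ x, m.D1 x → ∃ k : ℕ, x 0 = y ^ k := by
    by_cases ht : m.tw
    · refine ⟨m.c ^ 2, pow_mem (Subgroup.mem_zpowers _) _, ?_, fun _ => ?_, fun x hx => ?_⟩
      · rw [← pow_mul]; exact m.c_ne (k := 3) (by have := h8.2 ht; omega)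
      · have := nrm ht 2
        rw [neg_one_sq] at this
        exact (eq_inv_of_mul_eq_one_left this).symm
      · obtain ⟨j, hj⟩ := exists_pow ((m.hD x).1 hx.1 0).1
        have h1 := ((m.hD x).1 hx.1 0).2 ht
        have h2 := hx.2
        rw [Fin.prod_univ_two, ← h0, h1, hj, mul_comm, nrm ht] at h2
        rcases Nat.even_or_odd j with ⟨k, hk⟩ | hk
        · exact ⟨k, by rw [hj, ← pow_mul, hk, two_mul]⟩
        · rw [hk.neg_one_pow] at h2; exact absurd h2 m.hne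
    · exact ⟨m.c, Subgroup.mem_zpowers _, m.c_ne (by omega), fun h => absurd h ht,
        fun x hx => exists_pow ((m.hD x).1 hx.1 0).1⟩
  have hv : m.D1 (pv m.τ 0 y y⁻¹) :=
    ⟨pv_mem hy (inv_mem hy) fun h => ⟨hyq h, fun h => absurd h h0'⟩, by
      rw [prod_pv h0', mul_inv_cancel]⟩
  have v0 := pv_self m.τ 0 y y⁻¹
  have v1 := pv_tau h0' y y⁻¹
  rw [h0] at v1
  obtain ⟨s, hs⟩ := hv.exists_rp
  have hker : ∀ t, t ∈ Subgroup.zpowers s ↔ m.ω t = 1 := by
    intro t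
    refine ⟨?_, fun h => ?_⟩
    · rintro ⟨k, rfl⟩
      simp only [map_zpow, hs.ω, one_zpow]
    · obtain ⟨x, hx⟩ := exists_rp h
      obtain ⟨k, hk⟩ := hgen x hx.d1
      have h2 := hx.d1.2
      rw [Fin.prod_univ_two] at h2
      have : x = pv m.τ 0 y y⁻¹ ^ k := by
        funext i
        fin_cases i
        · exact hk.trans (congrArg (· ^ k) v0.symm)
        · have : x 1 = y⁻¹ ^ k := by rw [inv_pow, ← hk]; exact eq_inv_of_mul_eq_one_right h2
          exact this.trans (congrArg (· ^ k) v1.symm)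
      rw [(hx.eq_iff (hs.pow k)).2 ⟨1, fun i => by rw [this]; simp⟩]
      exact pow_mem (Subgroup.mem_zpowers _) _
  have hout : ∀ t, m.ω t ≠ 1 → t * t = 1 := by
    intro t h
    obtain ⟨g, rfl⟩ := m.surj t
    rw [ω_π] at h
    have h1 := (hp _).resolve_left h
    have h2 := (m.mem g).2.2
    rw [h1, if_neg (by decide), Fin.prod_univ_two] at h2
    rw [← map_mul, m.ker]
    refine ⟨by rw [map_mul, h1]; decide, -1, fun i => ?_⟩
    rw [m.co_mul, h1]
    fin_cases i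
    · exact h2
    · exact (mul_comm _ _).trans h2
  refine Cfsg.Agent.S3116.aut_eq_one hT (x := s) ?_ α hodd ?_
  · obtain ⟨a, ha⟩ := exists_lift (m := m) (by decide)
      (B1_le m.W m.hτ m.hc (swap_mem_B1 m.hτ 0))
    rw [h0] at ha
    refine Subgroup.index_eq_two_iff.2 ⟨a, fun b => ?_⟩
    rw [hker, hker, map_mul, ha]
    rcases hp (m.ω b) with h | h <;> rw [h] <;> decide
  · rw [hker]
    by_contra h
    have h1 := hout _ h
    rw [← map_mul, map_eq_one_iff _ α.injective, (hs.mul hs).eq_one_iff] at h1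
    have h2 := h1.eq 0 1
    simp only [Pi.mul_apply, v0, v1] at h2
    apply hy4
    calc y ^ 2 ^ 2 = (y * y) * (y⁻¹ * y⁻¹)⁻¹ := by group
      _ = 1 := by rw [h2, mul_inv_cancel]

end H8.PS.Mod
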