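import Cfsg.Agent.H70.RRSpec

/-! Slot RR-Mono of the tower for S3530. -/

set_option autoImplicit false

namespace H8.RRM

open Cfsg Subgroup H24 H70.RR

universe u

variable {m : ℕ} {T : Type u} [Group T] [Finite T]

theorem no5 (h : Num m) (hs : Sub m T) : ¬ 5 ∣ Nat.card T := fun k => by
  rcases h.prime 5 (by norm_num) (hs.om (ord_of_prime (by norm_num) k)) with e | ⟨i, e⟩
  · omega
  · rcases eq_or_ne i 0 with rfl | hi
    · have := (h.zero 5).1 e; omega
    · have := h.big i 5 hi e; omega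

theorem dvd18 (h : Num m) (hs : Sub m T) (hM : Mono m T) {x : ℕ} (hx : Ord T x) (h3 : 3 ∣ x) :
    x ∣ 18 := by
  refine h.d18 x (hs.om hx) fun s hp hsx => ?_
  rcases h.prime s hp (hs.om (hx.of_dvd hsx)) with e | ⟨i, e⟩
  · exact Or.inl e
  · rcases eq_or_ne i 0 with rfl | hi
    · exact Or.inr ((h.zero s).1 e)
    · have c3 : Cl m 0 3 := (h.zero 3).2 rfl
      exact absurd (hx.of_dvd (Nat.Coprime.mul_dvd_of_dvd_of_dvd (h.cop hi.symm c3 e) h3 hsx))
        (hM 0 i 3 s hi.symm c3 e)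

theorem cases18 {x : ℕ} (h : x ∣ 18) (h3 : 3 ∣ x) : x = 3 ∨ x = 6 ∨ x = 9 ∨ x = 18 := by
  have := Nat.le_of_dvd (by norm_num) h
  interval_cases x <;> simp_all

theorem split1 {q d ν : ℕ} (k : ¬ 3 ∣ q) (hd : d + 1 = q) (hν : ν = q + 1) : 3 ∣ d ∨ 3 ∣ ν := by
  have : d % 3 = 0 ∨ d % 3 = 1 ∨ d % 3 = 2 := by omega
  rcases this with e | e | e
  · left; omega
  · right; omega
  · exfalso; omega

theorem split2 {q d ν : ℕ} (k : ¬ 3 ∣ q) (hd : 2 * d + 1 = q) (hν : ν = d + 1) :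
    3 ∣ d ∨ 3 ∣ ν := by
  have : d % 3 = 0 ∨ d % 3 = 1 ∨ d % 3 = 2 := by omega
  rcases this with e | e | e
  · left; omega
  · exfalso; omega
  · right; omega

theorem big7 (h : Num m) {i : Fin 5} {s : ℕ} (hi : i ≠ 0) (hs : Cl m i s) : s.Prime ∧ 7 ≤ s :=
  ⟨hs.1, h.big i s hi hs⟩

theorem pr1092 {s : ℕ} (h : s.Prime ∧ 7 ≤ s) (hd : s ∣ 1092) : s = 7 ∨ s = 13 := by
  obtain ⟨hp, h7⟩ := h
  have e : 1092 = 2 * (2 * (3 * (7 * 13))) := by norm_num
  rw [e] at hd
  simp only [hp.dvd_mul] at hd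
  rcases hd with k | k | k | k | k
  · have := Nat.le_of_dvd (by norm_num) k; omega
  · have := Nat.le_of_dvd (by norm_num) k; omega
  · have := Nat.le_of_dvd (by norm_num) k; omega
  · exact Or.inl ((Nat.prime_dvd_prime_iff_eq hp (by norm_num)).1 k)
  · exact Or.inr ((Nat.prime_dvd_prime_iff_eq hp (by norm_num)).1 k)

theorem pr25308 {s : ℕ} (h : s.Prime ∧ 7 ≤ s) (hd : s ∣ 25308) : s = 19 ∨ s = 37 := by
  obtain ⟨hp, h7⟩ := h
  have e : 25308 = 2 * (2 * (3 * (3 * (19 * 37)))) := by norm_num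
  rw [e] at hd
  simp only [hp.dvd_mul] at hd
  rcases hd with k | k | k | k | k | k
  · have := Nat.le_of_dvd (by norm_num) k; omega
  · have := Nat.le_of_dvd (by norm_num) k; omega
  · have := Nat.le_of_dvd (by norm_num) k; omega
  · have := Nat.le_of_dvd (by norm_num) k; omega
  · exact Or.inl ((Nat.prime_dvd_prime_iff_eq hp (by norm_num)).1 k)
  · exact Or.inr ((Nat.prime_dvd_prime_iff_eq hp (by norm_num)).1 k)

theorem ne34 (h : Num m) {i : Fin 5} {s : ℕ} (h3 : i ≠ 3) (h4 : i ≠ 4) (hi : Cl m i s) :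
    ¬ (Cl m 3 s ∨ Cl m 4 s) := fun k =>
  k.elim (fun k => h3 (h.uniq _ _ _ hi k)) fun k => h4 (h.uniq _ _ _ hi k)

omit [Finite T] in
theorem three (h : Num m) (h2 : Num2 m) (hs : Sub m T) {n d ν : ℕ} (L : L2D T 3 n d ν)
    (h8 : 3 ^ n % 8 = 3 ∨ 3 ^ n % 8 = 5) (hd : 2 * d + 1 = 3 ^ n) (hν : ν = d + 1) :
    TyAB m T ν := by
  have hn : Odd n := by
    by_contra k
    obtain ⟨j, rfl⟩ := Nat.not_odd_iff_even.1 k
    have : 3 ^ (j + j) % 8 = 1 := by
      rw [← two_mul, pow_mul, Nat.pow_mod]; simp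
    omega
  have hd' : (3 ^ n - 1) / 2 = d := by omega
  obtain ⟨k, hk⟩ := h2.div n hn (hd' ▸ hs.om L.od)
  have hko : Odd k := by
    have : Odd (n * k) := hk ▸ odd_two_mul_add_one m
    exact (Nat.odd_mul.1 this).2
  have hP : 3 ^ n + 1 ∣ 3 ^ (2 * m + 1) + 1 := by
    rw [hk, pow_mul]
    simpa using hko.nat_add_dvd_pow_add_pow (3 ^ n) 1
  have hM : 3 ^ n - 1 ∣ 3 ^ (2 * m + 1) - 1 := by
    rw [hk, pow_mul]
    simpa using Nat.sub_dvd_pow_sub_pow (3 ^ n) 1 k
  refine ⟨fun s hp s2 hsν => (h.clB s hp s2).2 (hsν.trans (Dvd.dvd.trans ⟨2, by omega⟩ hP)),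
    fun s hc hdv => ?_⟩
  have hp : s.Prime := hc.elim (·.1) (·.1)
  have s2 : s ≠ 2 := hc.elim h.ne_two h.ne_two
  rw [L.card, hp.dvd_mul, hp.dvd_mul] at hdv
  rcases hdv with k | k | k
  · exact ne34 h (by decide) (by decide) ((h.clB s hp s2).2 (k.trans hP)) hc
  · have := (Nat.prime_dvd_prime_iff_eq hp Nat.prime_three).1 (hp.dvd_of_dvd_pow k)
    exact ne34 h (by decide) (by decide) ((h.zero s).2 this) hc
  · exact ne34 h (by decide) (by decide)
      ((h.clA s hp s2).2 (k.trans (Dvd.dvd.trans ⟨2, by omega⟩ hM))) hc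

theorem jobMono : JobMono.{u} := by
  intro m h h2 T _ _ l n d ν L hs hM
  have n5 := no5 h hs
  have hc := L.card
  have hl := L.prime
  have k3 : l ≠ 3 → ¬ 3 ∣ l ^ n := fun e k =>
    e ((Nat.prime_dvd_prime_iff_eq Nat.prime_three hl).1 (Nat.prime_three.dvd_of_dvd_pow k)).symm
  have dd := fun k => cases18 (dvd18 h hs hM L.od k) k
  have dν := fun k => cases18 (dvd18 h hs hM L.on k) k
  rcases L.par with ⟨rfl, hn, hd, hν⟩ | ⟨l2, hq, h8, hd, hν⟩
  · refine ⟨fun _ => ?_, fun k => absurd rfl k⟩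
    have k := k3 (by decide)
    have h4 : 4 ∣ 2 ^ n := pow_dvd_pow 2 hn
    generalize 2 ^ n = q at *
    rcases split1 k hd hν with e | e
    · rcases dd e with e | e | e | e
      · exfalso; apply n5; rw [hc, ← hd, e]; norm_num
      all_goals omega
    · have := dν e
      omega
  refine ⟨fun k => absurd k l2, fun _ hT => ?_⟩
  rcases eq_or_ne l 3 with rfl | l3
  · exact Or.inl (three h h2 hs L h8 hd hν)
  have k := k3 l3
  have hq : l ^ n = 13 ∨ l ^ n = 37 := by
    generalize l ^ n = q at *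
    rcases split2 k hd hν with e | e
    · rcases dd e with e | e | e | e
      · omega
      · omega
      · exfalso; apply n5; rw [hc, ← hd, e]; norm_num
      · omega
    · rcases dν e with e | e | e | e
      · exfalso; apply n5; rw [hc, ← hd, show d = 2 by omega]; norm_num
      · exfalso; apply n5; rw [hc, ← hd, show d = 5 by omega]; norm_num
      · omega
      · exfalso; apply n5; rw [hc, ← hd, show d = 17 by omega]; norm_num
  have om : ∀ p : ℕ, p.Prime → p ∣ Nat.card T → Om m p := fun p hp k => hs.om (ord_of_prime hp k)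
  rcases hq with e | e
  · have hc' : Nat.card T = 1092 := by rw [hc, e, show d = 6 by omega]
    obtain ⟨c13, c7⟩ := h.c13 (om 13 (by norm_num) (by rw [hc']; norm_num))
    refine Or.inl ⟨fun s hp _ hsν => ?_, fun s hcl hdv => ?_⟩
    · rw [show ν = 7 by omega] at hsν
      rw [(Nat.prime_dvd_prime_iff_eq hp (by norm_num)).1 hsν]; exact c7
    · have b : s.Prime ∧ 7 ≤ s := hcl.elim (big7 h (by decide)) (big7 h (by decide))
      rcases pr1092 b (hc' ▸ hdv) with rfl | rfl
      · exact ne34 h (by decide) (by decide) c7 hcl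
      · exact ne34 h (by decide) (by decide) c13 hcl
  · have hc' : Nat.card T = 25308 := by rw [hc, e, show d = 18 by omega]
    rcases h.c37 (om 19 (by norm_num) (by rw [hc']; norm_num))
      (om 37 (by norm_num) (by rw [hc']; norm_num)) with ⟨c1, c2⟩ | ⟨c1, c2⟩
    · obtain ⟨i, j, a, b, hij, hi, hj, ha, hb, da, db⟩ := hT
      have key : ∀ i a, i ≠ 0 → Cl m i a → a ∣ Nat.card T → i = 2 := fun i a hi ha da => by
        rcases pr25308 (big7 h hi ha) (hc' ▸ da) with rfl | rfl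
        · exact h.uniq _ _ _ ha c1
        · exact h.uniq _ _ _ ha c2
      exact absurd ((key i a hi ha da).trans (key j b hj hb db).symm) hij
    · have := (Nat.Prime.pow_eq_iff (by norm_num : Nat.Prime 37)).1 e
      refine Or.inr ⟨this.1, this.2, fun s hcl hdv => ?_⟩
      have b : s.Prime ∧ 7 ≤ s := hcl.elim (big7 h (by decide)) (big7 h (by decide))
      rcases pr25308 b (hc' ▸ hdv) with rfl | rfl
      · exact hcl.elim (fun k => ne34 h (by decide) (by decide) k c1)
          fun k => ne34 h (by decide) (by decide) k c1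
      · exact hcl.elim (fun k => ne34 h (by decide) (by decide) k c2)
          fun k => ne34 h (by decide) (by decide) k c2

end H8.RRM
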