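/- Tower WZ: the conjugates of the central involution and their action on `R`. -/
import Cfsg.Agent.H8.WZKit
import Cfsg.Agent.H8.WZT

set_option autoImplicit false
set_option linter.unusedSectionVars false

namespace H8.WZ
open Cfsg Cfsg.FusionSystem H92 H86 H35.G2S Subgroup

universe u
variable {Ω : Type u} [Group Ω] {S : Subgroup Ω} {F : FusionSystem S}

theorem exists_pow_two {c : Ω} (hS : IsPGroup 2 S) (hc : c ∈ S) (h1 : c ≠ 1) :
    ∃ n : ℕ, c ^ n ≠ 1 ∧ c ^ n * c ^ n = 1 := by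
  obtain ⟨m, hm⟩ := hS ⟨c, hc⟩
  replace hm : c ^ 2 ^ m = 1 := congrArg Subtype.val hm
  induction m with
  | zero => exact absurd (by simpa using hm) h1
  | succ m ih =>
    by_cases e : c ^ 2 ^ m = 1
    · exact ih e
    · exact ⟨2 ^ m, e, by rw [← pow_add, ← two_mul, ← pow_succ', hm]⟩

theorem two_of {c : Ω} (h1 : c ≠ 1) (h2 : c * c = 1) : orderOf c = 2 :=
  orderOf_eq_prime (by rw [pow_two, h2]) h1

theorem sq_of_two {c : Ω} (h : orderOf c = 2) : c * c = 1 := by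
  rw [← pow_two, ← h, pow_orderOf_eq_one]

theorem cj_zpow {g a : Ω} {l : ℤ} (e : g * a * g⁻¹ = a ^ l) (n : ℤ) :
    g * a ^ n * g⁻¹ = a ^ (l * n) := by rw [← conj_zpow, e, ← zpow_mul]

theorem cj_mul {g g' a : Ω} {l l' : ℤ} (e : g * a * g⁻¹ = a ^ l) (e' : g' * a * g'⁻¹ = a ^ l') :
    g * g' * a * (g * g')⁻¹ = a ^ (l * l') := by
  rw [← cj_zpow e, ← e']; group

theorem cj_pow {g a : Ω} {l : ℤ} (e : g * a * g⁻¹ = a ^ l) (n : ℕ) :
    g ^ n * a * (g ^ n)⁻¹ = a ^ (l ^ n) := by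
  induction n with
  | zero => simp
  | succ n ih => rw [pow_succ, pow_succ, cj_mul ih e]

theorem comm_of_cj {g a : Ω} (e : g * a * g⁻¹ = a) : g * a = a * g := mul_inv_eq_iff_eq_mul.1 e

theorem cj_of_comm {g a : Ω} (e : g * a = a * g) : g * a * g⁻¹ = a := mul_inv_eq_iff_eq_mul.2 e

namespace Hy
variable {R : Subgroup Ω} {k : ℕ} {a b : Ω} (h : Hy F R k a b)
include h

theorem k2 : 2 ≤ k := by
  obtain ⟨e, rfl⟩ := h.pow2
  have : 0 < 2 ^ e := by positivity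
  rw [pow_succ]; omega

theorem keven : ∃ c : ℕ, k = 2 * c := by
  obtain ⟨e, rfl⟩ := h.pow2
  exact ⟨2 ^ e, by ring⟩

theorem cop4 {c : ℤ} (hc : Odd c) : IsCoprime (4 * (k : ℤ)) c := by
  obtain ⟨e, rfl⟩ := h.pow2
  have : (4 * ((2 ^ (e + 1) : ℕ) : ℤ)) = 2 ^ (e + 3) := by push_cast; ring
  rw [this]
  exact IsCoprime.pow_left (Int.isCoprime_two_left.2 hc)

theorem cop2 {c : ℤ} (hc : Odd c) : IsCoprime (2 * (k : ℤ)) c :=
  (h.cop4 hc).of_isCoprime_of_dvd_left ⟨2, by ring⟩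

theorem one_iff (i : ℤ) : a ^ i = 1 ↔ 4 * (k : ℤ) ∣ i := by
  rw [h.gq.zpow_eq_one_iff]; push_cast; rw [← mul_assoc]; norm_num

theorem eq_iff (i j : ℤ) : a ^ i = a ^ j ↔ 4 * (k : ℤ) ∣ i - j := by
  rw [← h.one_iff, zpow_sub, mul_inv_eq_one]

theorem zz : a ^ (2 * k) = a ^ (2 * (k : ℤ)) := by
  rw [← zpow_natCast]; push_cast; rfl

theorem k0 : 2 * k ≠ 0 := by have := h.k2; omega

theorem zR : a ^ (2 * k) ∈ R := R.pow_mem h.gq.a_mem' _

theorem zS : a ^ (2 * k) ∈ S := h.le h.zR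

theorem aS : a ∈ S := h.le h.gq.a_mem'

theorem bS : b ∈ S := h.le h.gq.b_mem

theorem z2 : orderOf (a ^ (2 * k)) = 2 := two_of (h.gq.z_ne_one h.k0) h.gq.z_mul_z

theorem nd {i : ℤ} (h0 : 0 < i) (h1 : i < 4 * k) : ¬ 4 * (k : ℤ) ∣ i :=
  fun e => absurd (Int.le_of_dvd h0 e) (by omega)

theorem norm {s r : Ω} (hs : s ∈ S) (hr : r ∈ R) : s * r * s⁻¹ ∈ R :=
  h.h1 S _ (mor_conj F le_rfl hs) h.zS (cj_of_comm (h.cen s hs)) r hr (h.le hr)

theorem mem_A {r : Ω} (hr : r ∈ R) (e : orderOf r ≠ 4) : ∃ l : ℤ, r = a ^ l := by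
  obtain ⟨l, rfl | rfl⟩ := (h.gq.mem r).1 hr
  exacts [⟨l, rfl⟩, absurd (h.gq.orderOf_ba h.k0 l) e]

theorem orda : orderOf a = 4 * k := by rw [h.gq.ord]; ring

theorem odd_of {l : ℤ} (e : orderOf (a ^ l) = 4 * k) : Odd l := by
  by_contra hl
  obtain ⟨c, rfl⟩ := Int.not_odd_iff_even.1 hl
  have : (a ^ (c + c)) ^ (2 * k) = 1 := by
    rw [← zpow_natCast, ← zpow_mul, h.one_iff]; exact ⟨c, by push_cast; ring⟩
  have := Nat.le_of_dvd (Nat.pos_of_ne_zero h.k0) (orderOf_dvd_of_pow_eq_one this)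
  have := h.k2
  omega

theorem gen_of {r : Ω} (hr : r ∈ R) (e : orderOf r = 4 * k) : ∃ l : ℤ, Odd l ∧ r = a ^ l := by
  obtain ⟨l, rfl⟩ := h.mem_A hr (by have := h.k2; omega)
  exact ⟨l, h.odd_of e, rfl⟩

theorem cj_a {s : Ω} (hs : s ∈ S) : ∃ l : ℤ, Odd l ∧ s * a * s⁻¹ = a ^ l :=
  h.gen_of (h.norm hs h.gq.a_mem') (((MulAut.conj s).orderOf_eq a).trans h.orda)

theorem cj_b {s : Ω} (hs : s ∈ S) : ∃ m : ℤ, s * b * s⁻¹ = b * a ^ m := by
  obtain ⟨m, e | e⟩ := (h.gq.mem _).1 (h.norm hs h.gq.b_mem)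
  · obtain ⟨l, -, e'⟩ := h.cj_a hs
    refine absurd ?_ (h.gq.not_comm (by have := h.k2; omega))
    apply (MulAut.conj s).injective
    simp only [map_mul, MulAut.conj_apply, e, e', ← zpow_add, add_comm]
  · exact ⟨m, e⟩

theorem cent_of {g : Ω} (ha : g * a = a * g) (hb : g * b = b * g) : ∀ r ∈ R, g * r = r * g := by
  intro r hr
  obtain ⟨l, rfl | rfl⟩ := (h.gq.mem r).1 hr
  · exact ((show Commute g a from ha).zpow_right l).eq
  · exact ((show Commute g b from hb).mul_right ((show Commute g a from ha).zpow_right l)).eq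

theorem pow_z {c : Ω} (hc : c ∈ R) (h1 : c ≠ 1) : ∃ n : ℕ, c ^ n = a ^ (2 * k) := by
  obtain ⟨n, e1, e2⟩ := exists_pow_two h.pg (h.le hc) h1
  exact ⟨n, (h.gq.eq_of_sq h.k0 (R.pow_mem hc n) e2).resolve_left e1⟩

theorem notC {t : Ω} (ht : F.IsConjElt (a ^ (2 * k)) t) (hne : t ≠ a ^ (2 * k)) :
    ¬ ∀ r ∈ R, t * r = r * t := fun hc => by
  obtain ⟨f, hf, rfl⟩ := isConjElt_iff.1 ht
  exact hne (h.h2 _ f hf (mem_zpowers _) _ (mem_zpowers _) h.z2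
    (fun r hr => (h.gq.z_comm hr).symm) hc)

theorem t_sq {t : Ω} (ht : F.IsConjElt (a ^ (2 * k)) t) : t * t = 1 :=
  sq_of_two ((conj_orderOf ht).trans h.z2)

theorem z_cS {t : Ω} (ht : t ∈ S) : a ^ (2 * k) ∈ cS S t := mem_cS.2 ⟨h.zS, h.cen t ht⟩

section
variable {t : Ω} {α : Ω → Ω} (hα : Mor F (cS S t) α) (ht : t ∈ S) (e : α t = a ^ (2 * k))
include hα ht e

theorem pow_t {v : Ω} (hv : v ∈ cS S t) (hv' : α v ∈ R) (h1 : v ≠ 1) : ∃ n : ℕ, v ^ n = t := by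
  obtain ⟨n, hn⟩ := h.pow_z hv' (mt (hα.eq_one_iff hv).1 h1)
  exact ⟨n, hα.inj (pow_mem hv n) (self_mem_cS ht) (by rw [hα.map_pow hv, hn, e])⟩

theorem inter (hne : t ≠ a ^ (2 * k)) {c : Ω} (hc : c ∈ cS S t) (h1 : c ∈ R) (h2 : α c ∈ R) :
    c = 1 := by
  by_contra h3
  obtain ⟨n, hn⟩ := h.pow_t hα ht e hc h2 h3
  have h4 : orderOf t = 2 := by rw [← hα.orderOf_eq (self_mem_cS ht), e, h.z2]
  rcases h.gq.eq_of_sq h.k0 (hn ▸ R.pow_mem h1 n) (sq_of_two h4) with h5 | h5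
  · rw [h5, orderOf_one] at h4; omega
  · exact hne h5

theorem K1 (hne : t ≠ a ^ (2 * k)) {v r : Ω} (hv : v ∈ cS S t) (hv' : α v ∈ R) (hr : r ∈ R)
    (hr' : t * r = r * t) : v * r = r * v := by
  have hr2 : r ∈ cS S t := mem_cS.2 ⟨h.le hr, hr'⟩
  have := h.inter hα ht e hne (c := v * r * v⁻¹ * r⁻¹)
    (mul_mem (mul_mem (mul_mem hv hr2) (inv_mem hv)) (inv_mem hr2))
    (mul_mem (h.norm (cS_le _ _ hv) hr) (inv_mem hr)) (by
      rw [hα.map_mul (mul_mem (mul_mem hv hr2) (inv_mem hv)) (inv_mem hr2), hα.map_conj hv hr2,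
        hα.map_inv hr2]
      simpa [mul_assoc] using mul_mem hv' (h.norm (hα.mem hr2) (inv_mem hv')))
  rwa [mul_inv_eq_one, mul_inv_eq_iff_eq_mul] at this

theorem conj_t : F.IsConjElt (a ^ (2 * k)) t := conj_symm (e ▸ hα.isConjElt (self_mem_cS ht))

theorem K2 (hne : t ≠ a ^ (2 * k)) {v : Ω} (hv : v ∈ cS S t) (hv' : α v ∈ R)
    (hc : ∀ r ∈ R, v * r = r * v) : v = 1 := by
  by_contra h1
  obtain ⟨n, rfl⟩ := h.pow_t hα ht e hv hv' h1
  exact h.notC (h.conj_t hα ht e) hne fun r hr => ((show Commute v r from hc r hr).pow_left n).eq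

theorem Rt_comm (hne : t ≠ a ^ (2 * k)) {v w : Ω} (hv : v ∈ cS S t) (hv' : α v ∈ R)
    (hw : w ∈ cS S t) (hw' : α w ∈ R) : v * w = w * v := by
  have hc : v * w * (w * v)⁻¹ ∈ cS S t := mul_mem (mul_mem hv hw) (inv_mem (mul_mem hw hv))
  have hc' : α (v * w * (w * v)⁻¹) ∈ R := by
    rw [hα.map_mul (mul_mem hv hw) (inv_mem (mul_mem hw hv)), hα.map_inv (mul_mem hw hv),
      hα.map_mul hv hw, hα.map_mul hw hv]
    exact mul_mem (mul_mem hv' hw') (inv_mem (mul_mem hw' hv'))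
  have key : ∀ c : Ω, v * w * c * (v * w)⁻¹ = w * v * c * (w * v)⁻¹ →
      (w * v)⁻¹ * (v * w) * c = c * ((w * v)⁻¹ * (v * w)) := fun c e => by
    calc _ = (w * v)⁻¹ * (v * w * c * (v * w)⁻¹) * (v * w) := by group
      _ = _ := by rw [e]; group
  have hd : (w * v)⁻¹ * (v * w) ∈ cS S t := mul_mem (inv_mem (mul_mem hw hv)) (mul_mem hv hw)
  have hd' : α ((w * v)⁻¹ * (v * w)) ∈ R := by
    rw [hα.map_mul (inv_mem (mul_mem hw hv)) (mul_mem hv hw), hα.map_inv (mul_mem hw hv),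
      hα.map_mul hv hw, hα.map_mul hw hv]
    exact mul_mem (inv_mem (mul_mem hw' hv')) (mul_mem hv' hw')
  obtain ⟨l, -, e1⟩ := h.cj_a (cS_le _ _ hv)
  obtain ⟨l', -, e2⟩ := h.cj_a (cS_le _ _ hw)
  have ha := key a (by rw [cj_mul e1 e2, cj_mul e2 e1, mul_comm])
  rw [eq_comm, ← inv_mul_eq_one]
  by_cases hta : t * a = a * t
  · have h1 := h.K1 hα ht e hne hv hv' h.gq.a_mem' hta
    have h2 := h.K1 hα ht e hne hw hw' h.gq.a_mem' hta
    obtain ⟨m, e3⟩ := h.cj_b (cS_le _ _ hv)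
    obtain ⟨m', e4⟩ := h.cj_b (cS_le _ _ hw)
    have h3 : ∀ {v w : Ω} {m m' : ℤ}, v * a = a * v → v * b * v⁻¹ = b * a ^ m →
        w * b * w⁻¹ = b * a ^ m' → v * w * b * (v * w)⁻¹ = b * a ^ (m + m') := by
      intro v w m m' h1 e3 e4
      calc _ = v * (w * b * w⁻¹) * v⁻¹ := by group
        _ = v * b * v⁻¹ * (v * a ^ m' * v⁻¹) := by rw [e4]; group
        _ = _ := by
          rw [e3, cj_of_comm ((show Commute v a from h1).zpow_right m').eq, mul_assoc, ← zpow_add]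
    exact h.K2 hα ht e hne hd hd' (h.cent_of ha (key b (by rw [h3 h1 e3 e4, h3 h2 e4 e3, add_comm])))
  · by_contra h1
    obtain ⟨n, rfl⟩ := h.pow_t hα ht e hd hd' h1
    exact hta ((show Commute _ a from ha).pow_left n).eq

end

variable [Finite S]

theorem to_z {t : Ω} (ht : F.IsConjElt (a ^ (2 * k)) t) :
    ∃ α, Mor F (cS S t) α ∧ α t = a ^ (2 * k) := exists_to_central h.pg h.sat (conj_symm ht) h.cen

/-- The image of an element of `R` lies in the group `R_t`. -/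
theorem img_Rt {P : Subgroup Ω} {f α : Ω → Ω} (hf : Mor F P f) (hz : a ^ (2 * k) ∈ P)
    (hα : Mor F (cS S (f (a ^ (2 * k)))) α) (e : α (f (a ^ (2 * k))) = a ^ (2 * k)) {r : Ω}
    (hr : r ∈ R) (hrP : r ∈ P) : f r ∈ cS S (f (a ^ (2 * k))) ∧ α (f r) ∈ R := by
  have h1 : ∀ x ∈ P, f x ∈ cS S (f (a ^ (2 * k))) := fun x hx => mem_cS.2 ⟨hf.mem hx, by
    rw [← hf.map_mul hz hx, ← hf.map_mul hx hz, h.cen x (hf.le hx)]⟩
  exact ⟨h1 r hrP, h.h1 P _ (hf.comp hα h1) hz e r hr hrP⟩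

/-- A map defined on two non-commuting elements of `R` fixes `z`. -/
theorem L1 {P : Subgroup Ω} {f : Ω → Ω} (hf : Mor F P f) (hz : a ^ (2 * k) ∈ P) {r r' : Ω}
    (hr : r ∈ R) (hrP : r ∈ P) (hr' : r' ∈ R) (hrP' : r' ∈ P) (hc : r * r' ≠ r' * r) :
    f (a ^ (2 * k)) = a ^ (2 * k) := by
  by_contra hne
  obtain ⟨α, hα, e⟩ := h.to_z (hf.isConjElt hz)
  obtain ⟨h1, h2⟩ := h.img_Rt hf hz hα e hr hrP
  obtain ⟨h3, h4⟩ := h.img_Rt hf hz hα e hr' hrP'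
  have := h.Rt_comm hα (hf.mem hz) e hne h1 h2 h3 h4
  rw [← hf.map_mul hrP hrP', ← hf.map_mul hrP' hrP] at this
  exact hc (hf.inj (mul_mem hrP hrP') (mul_mem hrP' hrP) this)

omit [Finite S] in
/-- Involutions acting on `a` as a power `≡ 1 mod 4`. -/
theorem F1 {s : Ω} (hs : s ∈ S) (h2 : s * s = 1) {l : ℤ} (e : s * a * s⁻¹ = a ^ l)
    (h4 : 4 ∣ l - 1) (hne : s * a ≠ a * s) :
    s * a ^ (2 : ℤ) = a ^ (2 : ℤ) * s ∧ ∃ j : ℤ, s * (b * a ^ j) = b * a ^ j * s := by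
  obtain ⟨c, hc⟩ := h4
  have ho : Odd (2 * c + 1) := odd_two_mul_add_one c
  have e1 := cj_mul e e
  rw [h2, one_mul, inv_one, mul_one, eq_comm, ← zpow_one a, ← zpow_mul, one_mul, h.eq_iff] at e1
  have e2 : 2 * (k : ℤ) ∣ l - 1 := (h.cop2 ho).dvd_of_dvd_mul_right (by
    obtain ⟨d, hd⟩ := e1
    exact ⟨d, by
      have : l = 4 * c + 1 := by linarith
      subst this
      linarith⟩)
  obtain ⟨m, e3⟩ := h.cj_b hs
  have e4 : b * a ^ (m + l * m) = b * a ^ (0 : ℤ) := by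
    calc _ = s * b * s⁻¹ * (s * a ^ m * s⁻¹) := by rw [e3, cj_zpow e, zpow_add, mul_assoc]
      _ = s * (b * a ^ m) * s⁻¹ := by group
      _ = s * (s * b * s⁻¹) * s⁻¹ := by rw [e3]
      _ = s * s * b * (s * s)⁻¹ := by group
      _ = _ := by rw [h2]; simp
  rw [mul_right_inj, h.eq_iff] at e4
  have e5 : 2 * (k : ℤ) ∣ m := (h.cop2 ho).dvd_of_dvd_mul_right (by
    obtain ⟨d, hd⟩ := e4
    exact ⟨d, by
      have : l = 4 * c + 1 := by linarith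
      subst this
      linarith⟩)
  obtain ⟨p, hp⟩ := e2
  obtain ⟨q, rfl⟩ := e5
  have hp' : Odd p := by
    by_contra h5
    obtain ⟨r, rfl⟩ := Int.not_odd_iff_even.1 h5
    refine hne (comm_of_cj (e.trans ?_))
    rw [← zpow_one a, ← zpow_mul, one_mul, h.eq_iff]
    exact ⟨r, by linarith⟩
  obtain ⟨r, rfl⟩ := hp'
  refine ⟨comm_of_cj ?_, q, comm_of_cj ?_⟩
  · rw [cj_zpow e, h.eq_iff]
    exact ⟨2 * r + 1, by linarith⟩
  · rw [show s * (b * a ^ q) * s⁻¹ = s * b * s⁻¹ * (s * a ^ q * s⁻¹) by group, e3, cj_zpow e,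
      mul_assoc, ← zpow_add, mul_right_inj, h.eq_iff]
    have : l = 2 * k * (2 * r + 1) + 1 := by linarith
    subst this
    exact ⟨q * (r + 1), by ring⟩

omit [Finite S] in
theorem sq_not_comm (j : ℤ) : a ^ (2 : ℤ) * (b * a ^ j) ≠ b * a ^ j * a ^ (2 : ℤ) := fun e => by
  have := Int.le_of_dvd two_pos ((h.gq.a_comm_ba_iff 2 j).1 e)
  have := h.k2
  push_cast at *
  omega

/-- Either some conjugate of `z` centralizes `a`, or all of them are reflections. -/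
theorem L2 (hI : ¬ ∃ t, F.IsConjElt (a ^ (2 * k)) t ∧ t ≠ a ^ (2 * k) ∧ t * a = a * t) {t : Ω}
    (ht : F.IsConjElt (a ^ (2 * k)) t) (hne : t ≠ a ^ (2 * k)) {r : Ω} (hr : r ∈ R)
    (hc : t * r = r * t) : r = 1 ∨ r = a ^ (2 * k) := by
  by_contra h1
  have h2 : r * r ≠ 1 := fun e => h1 (h.gq.eq_of_sq h.k0 hr e)
  obtain ⟨n, hn⟩ := h.pow_z (mul_mem hr hr) h2
  obtain ⟨α, hα, e⟩ := h.to_z ht
  have htS := conj_mem ht
  have hrt : r ∈ cS S t := mem_cS.2 ⟨h.le hr, hc⟩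
  have hs : F.IsConjElt (a ^ (2 * k)) (α (a ^ (2 * k))) := hα.isConjElt (h.z_cS htS)
  have hs' : α (a ^ (2 * k)) ≠ a ^ (2 * k) := fun e' =>
    hne (hα.inj (self_mem_cS htS) (h.z_cS htS) (e.trans e'.symm))
  obtain ⟨l, ⟨c, rfl⟩, e1⟩ := h.cj_a (hα.mem (pow_mem hrt n))
  have e2 : α (r ^ n) * α (r ^ n) = α (a ^ (2 * k)) := by
    rw [← hα.map_mul (pow_mem hrt n) (pow_mem hrt n), ← hn, (Commute.refl r).mul_pow]
  have e3 := cj_mul e1 e1
  rw [e2] at e3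
  obtain ⟨h3, j, h4⟩ := h.F1 (conj_mem hs) (h.t_sq hs) e3 ⟨c * c + c, by ring⟩
    fun e => hI ⟨_, hs, hs', e⟩
  obtain ⟨β, hβ, e'⟩ := h.to_z hs
  exact hs' (hβ.inj (self_mem_cS (conj_mem hs)) (h.z_cS (conj_mem hs)) (e'.trans (h.L1 hβ
    (h.z_cS (conj_mem hs)) (h.gq.a_mem 2) (mem_cS.2 ⟨h.le (h.gq.a_mem 2), h3⟩) (h.gq.ba_mem j)
    (mem_cS.2 ⟨h.le (h.gq.ba_mem j), h4⟩) (h.sq_not_comm j)).symm))

omit [Finite S] in
theorem exists_theta : ∃ φ : S →* (ZMod (4 * k))ˣ, ∀ (s : S) (l : ℤ),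
    (s : Ω) * a * (s : Ω)⁻¹ = a ^ l ↔ (φ s : ZMod (4 * k)) = l := by
  choose l hl using fun s : S => h.cj_a s.2
  have key : ∀ i j : ℤ, a ^ i = a ^ j ↔ (i : ZMod (4 * k)) = j := fun i j => by
    rw [h.eq_iff, eq_comm, ZMod.intCast_eq_intCast_iff_dvd_sub]; push_cast; rfl
  let φ : S →* ZMod (4 * k) :=
    { toFun := fun s => l s
      map_one' := by
        have := (hl 1).2
        rw [← Int.cast_one, ← key, ← this]; simp
      map_mul' := fun s t => by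
        rw [← Int.cast_mul, ← key, ← (hl _).2, ← cj_mul (hl s).2 (hl t).2]; rfl }
  exact ⟨φ.toHomUnits, fun s m => by rw [(hl s).2, key]; rfl⟩

/-- Transfer: no involution acts as a field automorphism. -/
theorem TR (hC : ∀ y ∈ S, y * y = 1 → (∀ r ∈ R, y * r = r * y) → y = 1 ∨ y = a ^ (2 * k))
    {u : Ω} (hu : u ∈ S) (u2 : u * u = 1) (e : u * a * u⁻¹ = a ^ (1 + 2 * (k : ℤ))) : False := by
  obtain ⟨φ, hφ⟩ := h.exists_theta
  have k2 := h.k2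
  obtain ⟨c, hc⟩ := h.keven
  have hua : u * a ≠ a * u := fun e' => by
    rw [cj_of_comm e', eq_comm, ← zpow_one a, ← zpow_mul, one_mul, h.eq_iff] at e
    exact h.nd (by omega) (by omega) e
  have hu1 : u ≠ 1 := fun e' => hua (by simp [e'])
  let θ := (QuotientGroup.mk' (zpowers (-1 : (ZMod (4 * k))ˣ))).comp φ
  have hθ : ∀ s : S, θ s = 1 ↔ (s : Ω) * a * (s : Ω)⁻¹ = a ^ (1 : ℤ) ∨
      (s : Ω) * a * (s : Ω)⁻¹ = a ^ (-1 : ℤ) := fun s => by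
    rw [hφ, hφ]
    refine (QuotientGroup.eq_one_iff _).trans ⟨?_, ?_⟩
    · rintro ⟨n, hn⟩
      rcases Int.even_or_odd n with h1 | h1
      · left; rw [← hn]; simp [h1.neg_one_zpow]
      · right; rw [← hn]; simp [h1.neg_one_zpow]
    · rintro (h1 | h1)
      · exact ⟨0, Units.ext (by simpa using h1.symm)⟩
      · exact ⟨1, Units.ext (by simpa using h1.symm)⟩
  have hε : θ ⟨u, hu⟩ ≠ 1 := fun e' => by
    rcases (hθ _).1 e' with h1 | h1 <;> rw [e, h.eq_iff] at h1 <;>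
      exact h.nd (by omega) (by omega) h1
  obtain ⟨h3, j, h4⟩ := h.F1 hu u2 e ⟨c, by rw [hc]; push_cast; ring⟩ hua
  refine thompson2 h.pg h.sat θ (ε := θ ⟨u, hu⟩) (orderOf_eq_prime (by
    rw [← map_pow, pow_two, show (⟨u, hu⟩ * ⟨u, hu⟩ : S) = 1 from Subtype.ext u2, map_one]) hε) hu
    (two_of hu1 u2) (fun s hs => ?_) (fun s hs hn e1 => ?_) (h.foc hu)
  · have s2 := sq_of_two ((conj_orderOf hs).trans (two_of hu1 u2))
    obtain ⟨l, ⟨d, rfl⟩, e1⟩ := h.cj_a s.2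
    have e2 := cj_mul e1 e1
    rw [s2, one_mul, inv_one, mul_one, eq_comm, ← zpow_one a, ← zpow_mul, one_mul, h.eq_iff] at e2
    rw [or_iff_not_imp_left, hθ]
    intro h5
    rw [eq_comm, ← mul_inv_eq_one, ← map_inv, ← map_mul, hθ]
    have e3 : ((⟨u, hu⟩ * s⁻¹ : S) : Ω) * a * ((⟨u, hu⟩ * s⁻¹ : S) : Ω)⁻¹ =
        a ^ ((1 + 2 * (k : ℤ)) * (2 * d + 1)) := by
      rw [← cj_mul e e1, show s⁻¹ = s from inv_eq_of_mul_eq_one_right (Subtype.ext s2)]; rfl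
    rw [e3, h.eq_iff, h.eq_iff]
    rw [e1, h.eq_iff, h.eq_iff] at h5
    have e4 : (k : ℤ) ∣ d * (d + 1) := by
      obtain ⟨r, hr⟩ := e2
      exact ⟨r, by linarith⟩
    have cop : ∀ {n : ℤ}, Odd n → IsCoprime (k : ℤ) n := fun hn =>
      (h.cop4 hn).of_isCoprime_of_dvd_left ⟨4, by ring⟩
    rcases Int.even_or_odd d with h6 | h6
    · obtain ⟨r, rfl⟩ := (cop h6.add_one).dvd_of_dvd_mul_right e4
      rcases Int.even_or_odd' r with ⟨q, rfl | rfl⟩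
      · exact absurd (Or.inl ⟨q, by ring⟩) h5
      · exact Or.inl ⟨q + 1 + k * (2 * q + 1), by ring⟩
    · obtain ⟨r, hr⟩ := (cop h6).dvd_of_dvd_mul_left e4
      obtain rfl : d = k * r - 1 := by linarith
      rcases Int.even_or_odd' r with ⟨q, rfl | rfl⟩
      · exact absurd (Or.inr ⟨q, by ring⟩) h5
      · exact Or.inr ⟨q + k * (2 * q + 1), by ring⟩
  · obtain ⟨β, hβ, e2⟩ := exists_ext_cS h.pg h.sat hs (fc_of_fn h.pg h.sat hn)
    have m1 : a ^ (2 : ℤ) ∈ cS S u := mem_cS.2 ⟨h.le (h.gq.a_mem 2), h3⟩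
    have m2 : b * a ^ j ∈ cS S u := mem_cS.2 ⟨h.le (h.gq.ba_mem j), h4⟩
    have hz := h.L1 hβ (h.z_cS hu) (h.gq.a_mem 2) m1 (h.gq.ba_mem j) m2 (h.sq_not_comm j)
    have c1 : ∀ v ∈ cS S u, (s : Ω) * β v = β v * s := fun v hv => by
      rw [← e2, ← hβ.map_mul (self_mem_cS hu) hv, ← hβ.map_mul hv (self_mem_cS hu), (mem_cS.1 hv).2]
    have r1 := h.h1 _ _ hβ (h.z_cS hu) hz _ (h.gq.a_mem 2) m1
    have r2 := h.h1 _ _ hβ (h.z_cS hu) hz _ (h.gq.ba_mem j) m2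
    have nc : β (a ^ (2 : ℤ)) * β (b * a ^ j) ≠ β (b * a ^ j) * β (a ^ (2 : ℤ)) := fun e3 => by
      rw [← hβ.map_mul m1 m2, ← hβ.map_mul m2 m1] at e3
      exact h.sq_not_comm j (hβ.inj (mul_mem m1 m2) (mul_mem m2 m1) e3)
    have key : ∃ p q : ℤ, ¬ 2 * (k : ℤ) ∣ p ∧ (s : Ω) * a ^ p = a ^ p * s ∧
        (s : Ω) * (b * a ^ q) = b * a ^ q * s := by
      have hn : ∀ p q : ℤ, a ^ p * (b * a ^ q) ≠ b * a ^ q * a ^ p → ¬ 2 * (k : ℤ) ∣ p :=
        fun p q h5 h6 => h5 ((h.gq.a_comm_ba_iff p q).2 (by exact_mod_cast h6))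
      have c2 := c1 _ m1
      have c3 := c1 _ m2
      obtain ⟨p, e3 | e3⟩ := (h.gq.mem _).1 r1 <;> obtain ⟨q, e4 | e4⟩ := (h.gq.mem _).1 r2 <;>
        rw [e3, e4] at nc <;> rw [e3] at c2 <;> rw [e4] at c3
      · exact absurd (by rw [← zpow_add, ← zpow_add, add_comm]) nc
      · exact ⟨p, q, hn p q nc, c2, c3⟩
      · exact ⟨q, p, hn q p nc.symm, c3, c2⟩
      · have c4 : Commute (s : Ω) ((b * a ^ p)⁻¹ * (b * a ^ q)) :=
          (show Commute (s : Ω) _ from c2).inv_right.mul_right c3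
        rw [show (b * a ^ p)⁻¹ * (b * a ^ q) = a ^ (q - p) by group] at c4
        refine ⟨q - p, p, hn _ p fun e5 => nc ?_, c4.eq, c2⟩
        rw [show b * a ^ q = b * a ^ p * a ^ (q - p) by group, mul_assoc (b * a ^ p), e5]
    obtain ⟨p, q, h5, h6, h7⟩ := key
    have h8 : (s : Ω) * a = a * s := by
      rcases (hθ s).1 e1 with h9 | h9
      · exact comm_of_cj (by simpa using h9)
      · have := cj_zpow h9 p
        rw [cj_of_comm h6, h.eq_iff] at this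
        obtain ⟨r, hr⟩ := this
        exact absurd ⟨r, by linarith⟩ h5
    have h9 : (s : Ω) * b = b * s := by
      have : Commute (s : Ω) (b * a ^ q * (a ^ q)⁻¹) := (show Commute (s : Ω) _ from h7).mul_right
        ((show Commute (s : Ω) a from h8).zpow_right q).inv_right
      simpa using this.eq
    have s2 := (conj_orderOf hs).trans (two_of hu1 u2)
    rcases hC s s.2 (sq_of_two s2) (h.cent_of h8 h9) with h10 | h10
    · rw [h10, orderOf_one] at s2; omega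
    · have := hβ.inj (self_mem_cS hu) (h.z_cS hu) (e2.trans (h10.trans hz.symm))
      exact hua (this ▸ (h.gq.z_comm h.gq.a_mem').symm)

end Hy

end H8.WZ
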