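/- Tower WZ: a conjugate of `z` centralizes `a`; the torus. -/
import Cfsg.Agent.H8.WZA

set_option autoImplicit false
set_option linter.unusedSectionVars false

namespace H8.WZ
open Cfsg Cfsg.FusionSystem H92 H86 H35.G2S Subgroup

universe u
variable {Ω : Type u} [Group Ω] {S : Subgroup Ω} {F : FusionSystem S}

/-- The setting of the main case. -/
structure IS (F : FusionSystem S) (W : Subgroup Ω) (k : ℕ) (x y u : Ω) (α : Ω → Ω) (n : ℤ) :
    Prop where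
  hy : Hy F (qq k x y u) k (wu x y 1 (-1)) (u * wu x y (2 * k) 0)
  wr : Wr W k x y u
  le : W ≤ S
  mor : Mor F (cS S (wu x y (2 * k) 0)) α
  αx : α (wu x y 1 0) = wu x y n (-n)
  odd : Odd n
  img : img (cS S (wu x y (2 * k) 0)) α = cS S (α (jj k x y))
  sa : α (jj k x y) * wu x y 1 (-1) = wu x y 1 (-1) * α (jj k x y)

theorem cj_b_pow {g a b : Ω} {m : ℤ} (ha : g * a = a * g) (e : g * b * g⁻¹ = b * a ^ m) (n : ℤ) :
    g ^ n * b * (g ^ n)⁻¹ = b * a ^ (m * n) := by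
  have hc : ∀ i j : ℤ, g ^ i * a ^ j * (g ^ i)⁻¹ = a ^ j := fun i j =>
    cj_of_comm ((show Commute g a from ha).zpow_zpow i j).eq
  induction n with
  | zero => simp
  | succ n ih =>
    calc _ = g ^ (n : ℤ) * (g * b * g⁻¹) * (g ^ (n : ℤ))⁻¹ := by group
      _ = g ^ (n : ℤ) * b * (g ^ (n : ℤ))⁻¹ * (g ^ (n : ℤ) * a ^ m * (g ^ (n : ℤ))⁻¹) := by
        rw [e]; group
      _ = _ := by rw [ih, hc, mul_assoc, ← zpow_add]; congr 2; ring
  | pred n ih =>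
    have e' : g⁻¹ * b * g = b * a ^ (-m) := by
      have := hc 1 (-m)
      rw [zpow_one] at this
      calc _ = g⁻¹ * (b * a ^ m * (g * a ^ (-m) * g⁻¹)) * g := by rw [this]; group
        _ = _ := by rw [← e]; group
    calc _ = g ^ (-n : ℤ) * (g⁻¹ * b * g) * (g ^ (-n : ℤ))⁻¹ := by group
      _ = g ^ (-n : ℤ) * b * (g ^ (-n : ℤ))⁻¹ *
          (g ^ (-n : ℤ) * a ^ (-m) * (g ^ (-n : ℤ))⁻¹) := by rw [e']; group
      _ = _ := by rw [ih, hc, mul_assoc, ← zpow_add]; congr 2; ring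

namespace Hy
variable {R : Subgroup Ω} {k : ℕ} {a b : Ω} (h : Hy F R k a b)
include h

theorem euler {l : ℤ} (hl : Odd l) : 4 * (k : ℤ) ∣ l ^ (2 * k) - 1 := by
  obtain ⟨e, rfl⟩ := h.pow2
  have key : ∀ e : ℕ, (2 : ℤ) ^ (e + 1) ∣ l ^ 2 ^ e - 1 := fun e => by
    induction e with
    | zero => simpa using (hl.sub_odd odd_one).two_dvd
    | succ e ih =>
      rw [show l ^ 2 ^ (e + 1) - 1 = (l ^ 2 ^ e - 1) * (l ^ 2 ^ e + 1) by ring, pow_succ]
      exact mul_dvd_mul ih (hl.pow.add_odd odd_one).two_dvd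
  have := key (e + 2)
  rwa [show (2 : ℤ) ^ (e + 2 + 1) = 4 * ((2 ^ (e + 1) : ℕ) : ℤ) by push_cast; ring,
    show 2 ^ (e + 2) = 2 * 2 ^ (e + 1) by ring] at this

theorem pow_comm_a {v : Ω} (hv : v ∈ S) : v ^ (2 * k) * a = a * v ^ (2 * k) := by
  obtain ⟨l, hl, e⟩ := h.cj_a hv
  refine comm_of_cj ((cj_pow e _).trans ?_)
  rw [← zpow_one a, ← zpow_mul, one_mul, h.eq_iff]
  exact h.euler hl

theorem exists_inv {m : ℤ} (hm : Odd m) (c : ℤ) : ∃ n : ℤ, 4 * (k : ℤ) ∣ m * n - c := by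
  obtain ⟨p, q, e⟩ := h.cop4 hm
  exact ⟨q * c, -p * c, by linear_combination c * e⟩

/-- An element centralizing `a` whose `2 k`-th power is a conjugate of `z` moves `b` by a generator. -/
theorem odd_shift {v : Ω} (ha : v * a = a * v) {m : ℤ} (e : v * b * v⁻¹ = b * a ^ m)
    (hc : F.IsConjElt (a ^ (2 * k)) (v ^ (2 * k))) (hne : v ^ (2 * k) ≠ a ^ (2 * k)) : Odd m := by
  by_contra hm
  obtain ⟨c, rfl⟩ := Int.not_odd_iff_even.1 hm
  have := cj_b_pow ha e (2 * k : ℕ)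
  rw [zpow_natCast, (h.one_iff _).2 ⟨c, by push_cast; ring⟩, mul_one] at this
  exact h.notC hc hne (h.cent_of ((show Commute v a from ha).pow_left _).eq (comm_of_cj this))

variable [Finite S]

theorem exists_IS (hI : ∃ t, F.IsConjElt (a ^ (2 * k)) t ∧ t ≠ a ^ (2 * k) ∧ t * a = a * t) :
    ∃ W x y u α n, IS F W k x y u α n := by
  classical
  have k2 := h.k2
  obtain ⟨t, ⟨ht, hne, hta⟩, hmax⟩ := Set.exists_max_image
    {t | F.IsConjElt (a ^ (2 * k)) t ∧ t ≠ a ^ (2 * k) ∧ t * a = a * t}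
    (fun t => Nat.card (cS S t)) ((S : Set Ω).toFinite.subset fun t ht => conj_mem ht.1) hI
  obtain ⟨α, hα, e⟩ := h.to_z ht
  have htS := conj_mem ht
  have haT : a ∈ cS S t := mem_cS.2 ⟨h.aS, hta⟩
  have hz := h.z_cS htS
  have hs' : α (a ^ (2 * k)) ≠ a ^ (2 * k) := fun e' =>
    hne (hα.inj (self_mem_cS htS) hz (e.trans e'.symm))
  have hsa : α (a ^ (2 * k)) * a = a * α (a ^ (2 * k)) := by
    rw [hα.map_pow haT]; exact h.pow_comm_a (hα.mem haT)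
  have himg : img (cS S t) α = cS S (α (a ^ (2 * k))) :=
    hα.img_eq_of_card (cS_le _ _) (fun g hg => mem_cS.2 ⟨hα.mem hg, by
      rw [← hα.map_mul hz hg, ← hα.map_mul hg hz, h.cen g (cS_le _ _ hg)]⟩)
      (hmax _ ⟨hα.isConjElt hz, hs', hsa⟩)
  obtain ⟨d₀, hd₀, e₀⟩ := hα.mem_img.1 (himg ▸ mem_cS.2 ⟨h.aS, hsa⟩ : a ∈ img (cS S t) α)
  have h1 : d₀ * a = a * d₀ := h.K1 hα htS e hne hd₀ (e₀ ▸ h.gq.a_mem') h.gq.a_mem' hta
  have h2 : d₀ ^ (2 * k) = t :=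
    hα.inj (pow_mem hd₀ _) (self_mem_cS htS) (by rw [hα.map_pow hd₀, e₀, e])
  obtain ⟨m, h3⟩ := h.cj_b (cS_le _ _ hd₀)
  have hm := h.odd_shift h1 h3 (h2 ▸ ht) (h2 ▸ hne)
  obtain ⟨n, hn⟩ := h.exists_inv hm (-1)
  have hn' : Odd n := by
    obtain ⟨c, hc⟩ := hn
    have : Odd (m * n) := ⟨2 * k * c - 1, by linarith⟩
    exact (Int.odd_mul.1 this).2
  obtain ⟨d, hd⟩ : ∃ d, d = d₀ ^ n := ⟨_, rfl⟩
  have hdT : d ∈ cS S t := hd ▸ zpow_mem hd₀ n
  have αd : α d = a ^ n := by rw [hd, hα.map_zpow hd₀, e₀]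
  have da : Commute d a := hd ▸ (show Commute d₀ a from h1).zpow_left n
  have db : d * b * d⁻¹ = b * a⁻¹ := by
    rw [hd, cj_b_pow h1 h3, mul_right_inj, ← zpow_neg_one, h.eq_iff]; exact hn
  have αp : ∀ i : ℤ, α (d ^ i) = a ^ (n * i) := fun i => by rw [hα.map_zpow hdT, αd, zpow_mul]
  have od : orderOf d = 4 * k := by
    rw [← hα.orderOf_eq hdT, αd, ← h.orda]
    refine orderOf_eq_orderOf_iff.2 fun i => ?_
    rw [← zpow_natCast, ← zpow_mul, ← zpow_natCast, h.one_iff, h.one_iff]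
    exact ⟨(h.cop4 hn').dvd_of_dvd_mul_left, fun e => e.mul_left _⟩
  have dt : d ^ (2 * (k : ℤ)) = t := hα.inj (zpow_mem hdT _) (self_mem_cS htS) (by
    obtain ⟨c, rfl⟩ := hn'
    rw [αp, e, h.zz, h.eq_iff]; exact ⟨c, by ring⟩)
  have hw : ∀ i j : ℤ, wu d (a⁻¹ * d) i j = a ^ (-j) * d ^ (i + j) := fun i j => by
    rw [wu, da.symm.inv_left.mul_zpow, ← mul_assoc, (da.inv_right.zpow_zpow i j).eq, zpow_add]
    group
  have tt := h.t_sq ht
  have bd : b * d * b⁻¹ = a⁻¹ * d := by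
    calc _ = b * (d * b * d⁻¹)⁻¹ * d := by group
      _ = b * a * b⁻¹ * d := by rw [db]; group
      _ = _ := by rw [h.gq.rel]
  have bt : b * t * b⁻¹ = a ^ (2 * k) * t := by
    rw [← dt, ← conj_zpow, bd, da.symm.inv_left.mul_zpow, inv_zpow', h.zz, mul_left_inj, h.eq_iff]
    exact ⟨-1, by ring⟩
  obtain ⟨W, hW⟩ := wr_of (x := d) (y := a⁻¹ * d) (u := b * t) (k := k)
    (by obtain ⟨e, he⟩ := h.pow2; exact ⟨_, he⟩) od (da.inv_right.mul_right (Commute.refl d)).eq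
    (fun i j e1 => by
      rw [hw] at e1
      have e2 : d ^ (i + j) = a ^ j := by rw [eq_inv_of_mul_eq_one_right e1]; group
      have e3 := h.inter hα htS e hne (zpow_mem hdT (i + j)) (e2 ▸ h.gq.a_mem j)
        (αp _ ▸ h.gq.a_mem _)
      have e4 := (h.one_iff j).1 (e2 ▸ e3)
      rw [← orderOf_dvd_iff_zpow_eq_one, od] at e3
      exact ⟨by simpa using (show 4 * (k : ℤ) ∣ i + j by exact_mod_cast e3).sub e4, e4⟩)
    (by
      calc _ = b * t * b⁻¹ * (b * b) * t := by group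
        _ = a ^ (2 * k) * (t * a ^ (2 * k)) * t := by rw [bt, h.gq.bb]; group
        _ = _ := by rw [h.cen t htS, ← mul_assoc, h.gq.z_mul_z, one_mul, tt])
    (by
      calc _ = b * (t * d * t⁻¹) * b⁻¹ := by group
        _ = _ := by rw [cj_of_comm (mem_cS.1 hdT).2, bd])
  have ea : wu d (a⁻¹ * d) 1 (-1) = a := by rw [hw]; simp
  have et : wu d (a⁻¹ * d) (2 * k) 0 = t := by rw [hw]; simpa using dt
  have eb : b * t * wu d (a⁻¹ * d) (2 * k) 0 = b := by rw [et, mul_assoc, tt, mul_one]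
  have ej : jj k d (a⁻¹ * d) = a ^ (2 * k) := by
    have := hW.v_zpow (2 * k)
    rw [ea] at this
    rw [h.zz, this]
    exact hW.u_congr 0 1 (by ring) (by ring)
  have eR : qq k d (a⁻¹ * d) (b * t) = R := by
    rw [qq, hW.GQ_Y.eq_closure, ea, eb, ← h.gq.eq_closure]
  refine ⟨W, d, a⁻¹ * d, b * t, α, n, by rwa [eR, ea, eb], hW, fun g hg => ?_, by rwa [et], ?_, hn',
    by rwa [et, ej], by rwa [ej, ea]⟩
  · have h4 : ∀ i j : ℤ, wu d (a⁻¹ * d) i j ∈ S := fun i j =>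
      hw i j ▸ mul_mem (zpow_mem h.aS _) (zpow_mem (cS_le _ _ hdT) _)
    obtain ⟨i, j, rfl | rfl⟩ := (hW.mem g).1 hg
    exacts [h4 i j, mul_mem (mul_mem h.bS htS) (h4 i j)]
  · rw [← hW.v_zpow, ea, hw]; simpa using αd

end Hy

end H8.WZ
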