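/- Tower WZ: the centralizer of `R`, the normal four-group. -/
import Cfsg.Agent.H8.WZB

set_option autoImplicit false
set_option linter.unusedSectionVars false

namespace H8.WZ
open Cfsg Cfsg.FusionSystem H92 H86 H35.G2S Subgroup

universe u
variable {Ω : Type u} [Group Ω] {S : Subgroup Ω} {F : FusionSystem S}

/-- `g` acts on the torus as the power `l`. -/
def Sc (x y g : Ω) (l : ℤ) : Prop :=
  ∀ i j : ℤ, g * wu x y i j * g⁻¹ = wu x y (l * i) (l * j)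

namespace IS
variable {W : Subgroup Ω} {k : ℕ} {x y u : Ω} {α : Ω → Ω} {n : ℤ} (h : IS F W k x y u α n)
include h

theorem ej : wu x y 1 (-1) ^ (2 * k) = jj k x y := by
  rw [← zpow_natCast, h.wr.v_zpow]
  exact h.wr.u_congr 0 (-1) (by push_cast; ring) (by push_cast; ring)

theorem uS (i j : ℤ) : wu x y i j ∈ S := h.le (h.wr.u_mem i j)

theorem uT (i j : ℤ) : wu x y i j ∈ cS S (wu x y (2 * k) 0) :=
  mem_cS.2 ⟨h.uS i j, h.wr.u_comm _ _ _ _⟩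

theorem jT : jj k x y ∈ cS S (wu x y (2 * k) 0) := h.uT _ _

theorem αp (i : ℤ) : α (wu x y i 0) = wu x y (n * i) (-(n * i)) := by
  have := h.mor.map_zpow (h.uT 1 0) i
  rw [h.αx, h.wr.u_zpow, h.wr.u_zpow] at this
  simpa using this

theorem αt : α (wu x y (2 * k) 0) = wu x y 1 (-1) ^ (2 * k) := by
  obtain ⟨c, hc⟩ := h.odd
  rw [h.αp, h.ej]
  exact h.wr.u_congr c (-c - 1) (by rw [hc]; ring) (by rw [hc]; ring)

theorem tne : wu x y (2 * k) 0 ≠ wu x y 1 (-1) ^ (2 * k) := h.ej ▸ h.wr.u0_ne_u1.symm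

theorem cen {s : Ω} (hs : s ∈ S) : s * jj k x y = jj k x y * s := h.ej ▸ h.hy.cen s hs

theorem u_cj (i j m : ℤ) : wu x y i j * (u * wu x y (2 * k) 0 * wu x y 1 (-1) ^ m) * (wu x y i j)⁻¹ =
    u * wu x y (2 * k) 0 * wu x y 1 (-1) ^ (m + (j - i)) := by
  rw [h.wr.v_zpow, h.wr.v_zpow, h.wr.zu_mul_u, h.wr.zu_mul_u, h.wr.u_conj_zu]
  congr 2 <;> ring

theorem u_cj0 (i j : ℤ) : wu x y i j * (u * wu x y (2 * k) 0) * (wu x y i j)⁻¹ =
    u * wu x y (2 * k) 0 * wu x y 1 (-1) ^ (j - i) := by simpa using h.u_cj i j 0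

theorem split (i j : ℤ) : wu x y i j = wu x y 1 0 ^ (i + j) * wu x y 1 (-1) ^ (-j) := by
  rw [h.wr.u_zpow, h.wr.u_zpow, h.wr.u_mul_u]; congr 1 <;> ring

theorem sc_of {g : Ω} {l : ℤ} (h1 : g * wu x y 1 0 * g⁻¹ = wu x y 1 0 ^ l)
    (h2 : g * wu x y 1 (-1) * g⁻¹ = wu x y 1 (-1) ^ l) : Sc x y g l := fun i j => by
  rw [h.split i j, ← conj_mul, cj_zpow h1, cj_zpow h2, h.wr.u_zpow, h.wr.u_zpow, h.wr.u_mul_u]
  congr 1 <;> ring

theorem act {g : Ω} (hg : g ∈ cS S (wu x y (2 * k) 0)) : ∃ l : ℤ, Odd l ∧ Sc x y g l ∧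
    α g * wu x y 1 (-1) * (α g)⁻¹ = wu x y 1 (-1) ^ l := by
  have hgS := cS_le _ _ hg
  obtain ⟨l, -, e1⟩ := h.hy.cj_a hgS
  obtain ⟨l', hl', e2⟩ := h.hy.cj_a (h.mor.mem hg)
  obtain ⟨m, e3⟩ := h.hy.cj_b hgS
  have e4 : g * wu x y 1 0 * g⁻¹ = wu x y l' 0 :=
    h.mor.inj (mul_mem (mul_mem hg (h.uT _ _)) (inv_mem hg)) (h.uT _ _) (by
      rw [h.mor.map_conj hg (h.uT _ _), h.αx, h.αp, ← h.wr.v_zpow n, ← h.wr.v_zpow (n * l'),
        cj_zpow e2, mul_comm])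
  have e5 : wu x y 1 (-1) ^ (m + (0 - l')) = wu x y 1 (-1) ^ (m + l * (0 - 1)) := by
    apply mul_left_cancel (a := u * wu x y (2 * k) 0)
    calc _ = g * (wu x y 1 0 * (u * wu x y (2 * k) 0) * (wu x y 1 0)⁻¹) * g⁻¹ := by
          rw [← h.u_cj, ← e3, ← e4]; group
      _ = _ := by rw [h.u_cj0, zpow_add, ← mul_assoc (u * _), ← e3, ← cj_zpow e1, conj_mul]
  rw [h.hy.eq_iff] at e5
  refine ⟨l', hl', h.sc_of (by rw [e4, h.wr.u_zpow]; simp) (e1.trans ((h.hy.eq_iff _ _).2 ?_)), e2⟩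
  convert e5 using 1; ring

theorem sc_congr {g : Ω} {l l' : ℤ} (e : Sc x y g l) (e' : 4 * (k : ℤ) ∣ l - l') : Sc x y g l' :=
  fun i j => (e i j).trans ((h.wr.u_eq_iff _ _ _ _).2
    ⟨by rw [← sub_mul]; exact e'.mul_right _, by rw [← sub_mul]; exact e'.mul_right _⟩)

theorem sc_a {g : Ω} {l : ℤ} (e : Sc x y g l) :
    g * wu x y 1 (-1) * g⁻¹ = wu x y 1 (-1) ^ l := by rw [e, h.wr.v_zpow]; simp

theorem sc_of_a {g : Ω} (hg : g ∈ cS S (wu x y (2 * k) 0)) {l : ℤ}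
    (e : g * wu x y 1 (-1) * g⁻¹ = wu x y 1 (-1) ^ l) : Sc x y g l := by
  obtain ⟨l', -, e1, -⟩ := h.act hg
  exact h.sc_congr e1 ((h.hy.eq_iff _ _).1 ((h.sc_a e1).symm.trans e))

theorem comm_of_sc {g : Ω} (e : Sc x y g 1) (i j : ℤ) : g * wu x y i j = wu x y i j * g :=
  comm_of_cj (by simpa using e i j)

theorem s_conj : F.IsConjElt (wu x y 1 (-1) ^ (2 * k)) (α (jj k x y)) :=
  h.ej.symm ▸ h.mor.isConjElt h.jT

theorem s_ne : α (jj k x y) ≠ wu x y 1 (-1) ^ (2 * k) := fun e =>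
  h.wr.u0_ne_u1 (h.mor.inj h.jT (h.uT _ _) (e.trans h.αt.symm))

theorem ker {c : Ω} (hc : c ∈ cS S (wu x y (2 * k) 0)) (h1 : ∀ r ∈ qq k x y u, c * r = r * c)
    (h2 : ∀ r ∈ qq k x y u, α c * r = r * α c) : c = 1 := by
  by_contra h3
  obtain ⟨m, e1, e2⟩ := exists_pow_two h.hy.pg (cS_le _ _ hc) h3
  have := h.hy.h2 _ _ h.mor (h.ej ▸ h.jT) _ (pow_mem hc m) (two_of e1 e2)
    (fun r hr => ((show Commute c r from h1 r hr).pow_left m).eq) (fun r hr => by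
      rw [h.mor.map_pow hc]; exact ((show Commute (α c) r from h2 r hr).pow_left m).eq)
  exact h.s_ne (h.ej ▸ this)

theorem α_comm {c : Ω} (hc : c ∈ cS S (wu x y (2 * k) 0)) (hx : c * wu x y 1 0 = wu x y 1 0 * c) :
    α c * wu x y 1 (-1) = wu x y 1 (-1) * α c := by
  have h1 : Commute (α c) (wu x y 1 (-1) ^ n) := by
    rw [h.wr.v_zpow, ← h.αx]
    exact (h.mor.map_mul hc (h.uT _ _)).symm.trans (hx ▸ h.mor.map_mul (h.uT _ _) hc)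
  obtain ⟨p, hp⟩ := h.hy.exists_inv h.odd 1
  have := h1.zpow_right p
  rw [← zpow_mul, (h.hy.eq_iff _ _).2 hp, zpow_one] at this
  exact this

theorem ζ_pow : wu x y 1 1 ^ (2 * k) = jj k x y := by
  rw [← zpow_natCast, h.wr.c_zpow]; push_cast; rfl

theorem ζ_cen (i : ℤ) : ∀ r ∈ qq k x y u, wu x y i i * r = r * wu x y i i :=
  fun _ hr => (h.wr.cc_comm i (h.wr.K_le _ _ hr)).symm

theorem CB {c : Ω} (hc : c ∈ cS S (wu x y (2 * k) 0)) (h1 : ∀ r ∈ qq k x y u, c * r = r * c) :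
    ∃ p : ℤ, c = wu x y p p := by
  have hx := h.comm_of_sc (h.sc_of_a hc (l := 1)
    (by rw [zpow_one]; exact cj_of_comm (h1 _ h.hy.gq.a_mem')))
  have a1 := h.α_comm hc (hx 1 0)
  have a2 := h.α_comm (h.uT 1 1) (h.wr.u_comm _ _ _ _)
  obtain ⟨m, e1⟩ := h.hy.cj_b (h.mor.mem hc)
  obtain ⟨m₀, e2⟩ := h.hy.cj_b (h.mor.mem (h.uT 1 1))
  have e3 : α (wu x y 1 1) ^ (2 * k) = α (jj k x y) := by rw [← h.mor.map_pow (h.uT _ _), h.ζ_pow]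
  obtain ⟨p, hp⟩ := h.hy.exists_inv (h.hy.odd_shift a2 e2 (e3 ▸ h.s_conj) (e3 ▸ h.s_ne)) (-m)
  have e4 : α (c * wu x y p p) = α c * α (wu x y 1 1) ^ p := by
    rw [h.mor.map_mul hc (h.uT _ _), ← h.mor.map_zpow (h.uT _ _), h.wr.c_zpow]
  have := h.ker (mul_mem hc (h.uT p p))
    (fun r hr => ((show Commute c r from h1 r hr).mul_left (h.ζ_cen p r hr)).eq) (by
      rw [e4]
      refine h.hy.cent_of ((show Commute (α c) _ from a1).mul_left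
        ((show Commute (α _) _ from a2).zpow_left p)).eq (comm_of_cj ?_)
      calc _ = α c * (α (wu x y 1 1) ^ p * (u * wu x y (2 * k) 0) * (α (wu x y 1 1) ^ p)⁻¹) *
            (α c)⁻¹ := by group
        _ = α c * (u * wu x y (2 * k) 0) * (α c)⁻¹ *
            (α c * wu x y 1 (-1) ^ (-m) * (α c)⁻¹) := by
          rw [cj_b_pow a2 e2, (h.hy.eq_iff _ _).2 hp]; group
        _ = _ := by
          rw [e1, cj_of_comm ((show Commute (α c) _ from a1).zpow_right _).eq]; group)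
  exact ⟨-p, by rw [eq_inv_of_mul_eq_one_left this, h.wr.u_inv]⟩

theorem CT {g : Ω} (hg : g ∈ S) (e : Sc x y g 1) : ∃ i j : ℤ, g = wu x y i j := by
  have hx := h.comm_of_sc e
  obtain ⟨m, e1⟩ := h.hy.cj_b hg
  obtain ⟨p, hp⟩ := h.CB (mul_mem (mem_cS.2 ⟨hg, (hx _ _).symm⟩) (h.uT m 0)) (h.hy.cent_of
    ((show Commute g _ from hx _ _).mul_left (h.wr.u_comm _ _ _ _)).eq (comm_of_cj (by
      calc _ = g * (wu x y m 0 * (u * wu x y (2 * k) 0) * (wu x y m 0)⁻¹) * g⁻¹ := by group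
        _ = g * (u * wu x y (2 * k) 0) * g⁻¹ * (g * wu x y 1 (-1) ^ (0 - m) * g⁻¹) := by
          rw [h.u_cj0]; group
        _ = _ := by rw [e1, cj_of_comm ((show Commute g _ from hx _ _).zpow_right _).eq]; group)))
  exact ⟨_, _, by rw [eq_mul_inv_of_mul_eq hp, h.wr.u_inv, h.wr.u_mul_u]⟩

theorem t_split : wu x y (2 * k) 0 = wu x y 1 (-1) ^ (k : ℤ) * wu x y 1 1 ^ (k : ℤ) := by
  rw [h.wr.v_zpow, h.wr.c_zpow, h.wr.u_mul_u]; congr 1 <;> ring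

theorem odd_of {g : Ω} (hg : g ∈ S) {p : ℤ} (e : g * wu x y 1 1 * g⁻¹ = wu x y 1 1 ^ p) :
    Odd p := by
  by_contra hp
  obtain ⟨c, rfl⟩ := Int.not_odd_iff_even.1 hp
  have := cj_zpow e (2 * k)
  rw [h.wr.c_zpow, h.wr.c_zpow] at this
  refine h.wr.u0_ne_one ((cj_of_comm (h.cen hg)).symm.trans (this.trans ?_))
  exact (h.wr.u_eq_one_iff _ _).2 ⟨⟨c, by ring⟩, c, by ring⟩

theorem Z1 {g : Ω} (hg : g ∈ S) (h1 : ∀ r ∈ qq k x y u, g * r = r * g) {p : ℤ}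
    (e : g * wu x y 1 1 * g⁻¹ = wu x y 1 1 ^ p) (e' : g ^ (2 * k) = jj k x y) :
    ∃ q : ℤ, g = wu x y q q := by
  obtain ⟨d, rfl⟩ := h.odd_of hg e
  obtain ⟨c, hc⟩ := h.hy.keven
  have key : ∀ g ∈ S, (∀ r ∈ qq k x y u, g * r = r * g) → Commute g (wu x y 1 1 ^ (k : ℤ)) →
      ∃ q : ℤ, g = wu x y q q := fun g hg h1 h2 => h.CB (mem_cS.2 ⟨hg, by
    rw [h.t_split]
    exact ((show Commute g _ from h1 _ (h.hy.gq.a_mem k)).mul_right h2).symm.eq⟩) h1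
  obtain ⟨q, hq⟩ := key (g * g) (mul_mem hg hg)
    (fun r hr => ((show Commute g r from h1 r hr).mul_left (h1 r hr)).eq) (comm_of_cj (by
      rw [cj_zpow (cj_mul e e), h.wr.c_zpow, h.wr.c_zpow]
      exact h.wr.u_congr (d * d + d) (d * d + d) (by ring) (by ring)))
  have e1 : g ^ (2 * c) = wu x y (q * c) (q * c) := by
    rw [pow_mul, pow_two, hq, ← zpow_natCast, h.wr.u_zpow]
  have e2 : wu x y (q * c + q * c) (q * c + q * c) = wu x y (2 * k) (2 * k) := by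
    rw [← h.wr.u_mul_u, ← e1, ← pow_add, ← hc, ← two_mul, e']; rfl
  obtain ⟨r, hr⟩ := ((h.wr.u_eq_iff _ _ _ _).1 e2).1
  refine key g hg h1 ?_
  have e3 : wu x y 1 1 ^ (k : ℤ) = g ^ (2 * c) * jj k x y ^ (-r) := by
    rw [e1, jj, h.wr.c_zpow, h.wr.u_zpow, h.wr.u_mul_u]
    congr 1 <;> linarith
  rw [e3]
  exact ((Commute.refl g).pow_right _).mul_right ((show Commute g _ from h.cen hg).zpow_right _)

theorem cj_cen {s c : Ω} (hs : s ∈ S) (h1 : ∀ r ∈ qq k x y u, c * r = r * c) :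
    ∀ r ∈ qq k x y u, s * c * s⁻¹ * r = r * (s * c * s⁻¹) := fun r hr => by
  have := h1 _ (h.hy.norm (inv_mem hs) hr)
  calc _ = s * (c * (s⁻¹ * r * s⁻¹⁻¹)) * s⁻¹ := by group
    _ = _ := by rw [this]; group

variable [Finite S]

theorem normζ {s : Ω} (hs : s ∈ S) : ∃ p : ℤ, s * wu x y 1 1 * s⁻¹ = wu x y 1 1 ^ p := by
  have hZ : zpowers (wu x y 1 1) ≤ S := zpowers_le.2 (h.uS 1 1)
  suffices e : normalizerIn S (zpowers (wu x y 1 1)) = S by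
    obtain ⟨p, hp⟩ := conj_mem_of_normalizerIn (e.ge hs) (mem_zpowers _)
    exact ⟨p, hp.symm⟩
  by_contra hne
  obtain ⟨g, hg, hg'⟩ := SetLike.exists_of_lt
    (lt_normalizerIn h.hy.pg (lt_of_le_of_ne (normalizerIn_le _ _) hne))
  have h1 := conj_mem_of_normalizerIn hg (le_normalizerIn hZ (mem_zpowers _))
  obtain ⟨p, hp⟩ := conj_mem_of_normalizerIn h1 (mem_zpowers _)
  obtain ⟨q, hq⟩ := h.Z1 h1.1 (h.cj_cen hg.1 (h.ζ_cen 1)) hp.symm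
    (by rw [conj_pow, h.ζ_pow, cj_of_comm (h.cen hg.1)])
  refine hg' (mem_normalizerIn_of hZ hg.1 ?_)
  rintro _ ⟨i, rfl⟩
  rw [← conj_zpow, hq, ← h.wr.c_zpow q]
  exact zpow_mem (zpow_mem (mem_zpowers (wu x y 1 1)) q) i

theorem t_cj {s : Ω} (hs : s ∈ S) : s * wu x y (2 * k) 0 * s⁻¹ = wu x y (2 * k) 0 ∨
    s * wu x y (2 * k) 0 * s⁻¹ = wu x y 0 (2 * k) := by
  obtain ⟨l, ⟨c, rfl⟩, e1⟩ := h.hy.cj_a hs
  obtain ⟨p, e2⟩ := h.normζ hs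
  obtain ⟨d, rfl⟩ := h.odd_of hs e2
  have : s * wu x y (2 * k) 0 * s⁻¹ = wu x y (2 * k * (c + d + 1)) (2 * k * (d - c)) := by
    rw [h.t_split, ← conj_mul, cj_zpow e1, cj_zpow e2, h.wr.v_zpow, h.wr.c_zpow, h.wr.u_mul_u]
    congr 1 <;> ring
  rw [this]
  obtain ⟨r, hr | hr⟩ := Int.even_or_odd' (c + d)
  · obtain rfl : d = 2 * r - c := by linarith
    exact Or.inl (h.wr.u_congr r (r - c) (by ring) (by ring))
  · obtain rfl : d = 2 * r + 1 - c := by linarith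
    exact Or.inr (h.wr.u_congr (r + 1) (r - c) (by ring) (by ring))

omit [Finite S] in
theorem cS_u2 : cS S (wu x y 0 (2 * k)) = cS S (wu x y (2 * k) 0) := by
  have e : wu x y 0 (2 * k) = wu x y (2 * k) 0 * jj k x y := by
    rw [jj, h.wr.u_mul_u]; exact h.wr.u_congr (-1) 0 (by ring) (by ring)
  ext g
  rw [mem_cS, mem_cS, e]
  refine and_congr_right fun hg => ?_
  rw [mul_assoc, ← h.cen hg, ← mul_assoc, ← mul_assoc, mul_left_inj]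

theorem cases_S {s : Ω} (hs : s ∈ S) : s ∈ cS S (wu x y (2 * k) 0) ∨
    u * s ∈ cS S (wu x y (2 * k) 0) := by
  rcases h.t_cj hs with e | e
  · exact Or.inl (mem_cS.2 ⟨hs, (comm_of_cj e).symm⟩)
  · refine Or.inr (mem_cS.2 ⟨mul_mem (h.le h.wr.z_mem) hs, (comm_of_cj ?_).symm⟩)
    calc _ = u * (s * wu x y (2 * k) 0 * s⁻¹) * u⁻¹ := by group
      _ = _ := by rw [e, h.wr.z_conj]

theorem αa_comm : α (wu x y 1 (-1)) * wu x y 1 (-1) = wu x y 1 (-1) * α (wu x y 1 (-1)) :=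
  h.α_comm (h.uT _ _) (h.wr.u_comm _ _ _ _)

theorem sV : α (jj k x y) = wu x y (2 * k) 0 ∨ α (jj k x y) = wu x y 0 (2 * k) := by
  have hd := h.mor.mem (h.uT 1 (-1))
  have a1 : Commute (α (wu x y 1 (-1))) (wu x y 1 (-1)) := h.αa_comm
  have e3 : α (wu x y 1 (-1)) ^ (2 * k) = α (jj k x y) := by
    rw [← h.mor.map_pow (h.uT _ _), h.ej]
  obtain ⟨m, e1⟩ := h.hy.cj_b hd
  obtain ⟨c, rfl⟩ := h.hy.odd_shift a1 e1 (e3 ▸ h.s_conj) (e3 ▸ h.s_ne)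
  have hg : α (wu x y 1 (-1)) ^ (2 : ℤ) * wu x y 1 (-1) ^ (2 * c + 1) ∈ S :=
    mul_mem (zpow_mem hd _) (zpow_mem (h.uS _ _) _)
  obtain ⟨p, hp⟩ := h.normζ hg
  have s2 := h.hy.t_sq h.s_conj
  obtain ⟨q, hq⟩ := h.Z1 hg (h.hy.cent_of ((a1.zpow_left 2).mul_left
    ((Commute.refl _).zpow_left _)).eq (comm_of_cj (by
      have e4 := h.hy.gq.a_conj_ba (2 * c + 1) 0
      rw [zpow_zero, mul_one] at e4
      calc _ = α (wu x y 1 (-1)) ^ (2 : ℤ) * (wu x y 1 (-1) ^ (2 * c + 1) * (u * wu x y (2 * k) 0) *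
            (wu x y 1 (-1) ^ (2 * c + 1))⁻¹) * (α (wu x y 1 (-1)) ^ (2 : ℤ))⁻¹ := by group
        _ = α (wu x y 1 (-1)) ^ (2 : ℤ) * (u * wu x y (2 * k) 0) * (α (wu x y 1 (-1)) ^ (2 : ℤ))⁻¹ *
            (α (wu x y 1 (-1)) ^ (2 : ℤ) * wu x y 1 (-1) ^ (0 - 2 * (2 * c + 1)) *
              (α (wu x y 1 (-1)) ^ (2 : ℤ))⁻¹) := by rw [e4]; group
        _ = _ := by rw [cj_b_pow a1 e1, cj_of_comm (a1.zpow_zpow _ _).eq]; group))) hp (by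
      rw [(a1.zpow_zpow _ _).mul_pow, ← zpow_natCast (_ ^ (2 : ℤ)), ← zpow_mul, mul_comm (2 : ℤ),
        zpow_mul, zpow_natCast, e3, zpow_two, s2, one_mul, ← zpow_natCast, ← zpow_mul, ← h.ej,
        h.hy.zz, h.hy.eq_iff]
      exact ⟨c, by push_cast; ring⟩)
  have e5 : α (jj k x y) = wu x y ((q - (2 * c + 1)) * k) ((q + (2 * c + 1)) * k) := by
    rw [← e3, pow_mul, ← zpow_natCast _ 2, show ((2 : ℕ) : ℤ) = 2 from rfl, eq_mul_inv_of_mul_eq hq,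
      h.wr.v_zpow, h.wr.u_inv, h.wr.u_mul_u, ← zpow_natCast, h.wr.u_zpow]
    congr 1; ring
  have s1 : α (jj k x y) ≠ 1 := mt (h.mor.eq_one_iff h.jT).1 h.wr.u0_ne_one
  have s3 := h.ej ▸ h.s_ne
  rw [e5] at s1 s2 s3 ⊢
  rcases h.wr.eq_of_u_sq s2 with e | e | e | e
  exacts [absurd e s1, Or.inl e, Or.inr e, absurd e s3]

theorem imgT : H92.img (cS S (wu x y (2 * k) 0)) α = cS S (wu x y (2 * k) 0) := by
  rw [h.img]
  rcases h.sV with e | e <;> rw [e]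
  exact h.cS_u2

theorem αT {g : Ω} (hg : g ∈ cS S (wu x y (2 * k) 0)) : α g ∈ cS S (wu x y (2 * k) 0) :=
  h.imgT ▸ mem_img_of_mem α hg

theorem α_sc {g : Ω} (hg : g ∈ cS S (wu x y (2 * k) 0)) {l : ℤ} (e : Sc x y g l) :
    ∃ i j : ℤ, α g = g * wu x y i j := by
  obtain ⟨l', -, e1, e2⟩ := h.act hg
  have e3 := h.sc_of_a (h.αT hg) e2
  obtain ⟨i, j, e4⟩ := h.CT (mul_mem (inv_mem (cS_le _ _ hg)) (h.mor.mem hg)) fun i j => by
    calc _ = g⁻¹ * (α g * wu x y i j * (α g)⁻¹) * g := by group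
      _ = _ := by rw [e3, ← e1]; simp [mul_assoc]
  exact ⟨i, j, by rw [← e4]; group⟩

end IS

end H8.WZ
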