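/- Tower WZ: no field automorphisms; `S` is wreathed or of type `G₂`. -/
import Cfsg.Agent.H8.WZC

set_option autoImplicit false
set_option linter.unusedSectionVars false

namespace H8.WZ
open Cfsg Cfsg.FusionSystem H92 H86 H35.G2S Subgroup

universe u
variable {Ω : Type u} [Group Ω] {S : Subgroup Ω} {F : FusionSystem S}

theorem Sc.mul {x y g g' : Ω} {l l' : ℤ} (e : Sc x y g l) (e' : Sc x y g' l') :
    Sc x y (g * g') (l * l') := fun i j => by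
  calc _ = g * (g' * wu x y i j * g'⁻¹) * g⁻¹ := by group
    _ = _ := by rw [e', e, mul_assoc, mul_assoc]

namespace IS
variable {W : Subgroup Ω} {k : ℕ} {x y u : Ω} {α : Ω → Ω} {n : ℤ} (h : IS F W k x y u α n)
include h

theorem sc_u (i j : ℤ) : Sc x y (wu x y i j) 1 := fun a b => by
  rw [h.wr.u_conj_u, one_mul, one_mul]

theorem sq_shift {g : Ω} {l : ℤ} (e : Sc x y g l) (i j : ℤ) :
    g * wu x y i j * (g * wu x y i j) = wu x y (l * i) (l * j) * (g * g) * wu x y i j := by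
  rw [← e]; group

variable [Finite S]

theorem inv_sq {w : Ω} (hw : w ∈ cS S (wu x y (2 * k) 0)) (e : Sc x y w (-1))
    (hc : ∀ r ∈ qq k x y u, w * w * r = r * (w * w)) : w * w = 1 := by
  obtain ⟨p, hp⟩ := h.CB (mul_mem hw hw) hc
  obtain ⟨i, j, e1⟩ := h.α_sc hw e
  have e2 : α (w * w) = w * w := by
    rw [h.mor.map_mul hw hw, e1, h.sq_shift e, hp, h.wr.u_mul_u, h.wr.u_mul_u]
    congr 1 <;> ring
  by_contra h1
  have e3 := e p p
  rw [← hp, show w * (w * w) * w⁻¹ = w * w by group] at e3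
  have e4 := h.wr.eq_u0_of_mem_Z (g := w * w) (hp ▸ h.wr.c_zpow p ▸ zpow_mem (mem_zpowers _) p) h1 (by
    nth_rw 1 [e3]
    rw [hp, h.wr.u_mul_u, ← wu_zero x y]; congr 1 <;> ring)
  rw [e4] at e2
  exact h.s_ne (e2.trans h.ej.symm)

theorem gB {g : Ω} (hg : g ∈ S) (h1 : ∀ r ∈ qq k x y u, g * r = r * g)
    (h2 : g ∉ cS S (wu x y (2 * k) 0)) :
    g * (u * wu x y (2 * k) 0) ∈ cS S (wu x y (2 * k) 0) ∧
      Sc x y (g * (u * wu x y (2 * k) 0)) (-1) ∧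
      g * (u * wu x y (2 * k) 0) * (g * (u * wu x y (2 * k) 0)) = 1 := by
  have hb := h1 _ h.hy.gq.b_mem
  have h3 : g * (u * wu x y (2 * k) 0) ∈ cS S (wu x y (2 * k) 0) := by
    rw [hb, show u * wu x y (2 * k) 0 * g = u * wu x y (2 * k) 0 * u⁻¹ * (u * g) by group,
      h.wr.z_conj]
    exact mul_mem (h.uT _ _) ((h.cases_S hg).resolve_left h2)
  have h4 : Sc x y (g * (u * wu x y (2 * k) 0)) (-1) := h.sc_of_a h3 (by
    calc _ = g * (u * wu x y (2 * k) 0 * wu x y 1 (-1) * (u * wu x y (2 * k) 0)⁻¹) * g⁻¹ := by group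
      _ = _ := by rw [h.hy.gq.rel, cj_of_comm (h1 _ (inv_mem h.hy.gq.a_mem')), zpow_neg_one])
  refine ⟨h3, h4, h.inv_sq h3 h4 fun r hr => ?_⟩
  rw [show g * (u * wu x y (2 * k) 0) * (g * (u * wu x y (2 * k) 0)) =
    g * (u * wu x y (2 * k) 0 * g) * (u * wu x y (2 * k) 0) by group, ← hb, ← mul_assoc g g,
    mul_assoc (g * g), h.hy.gq.bb]
  exact (((show Commute g r from h1 r hr).mul_left (h1 r hr)).mul_left
    (h.hy.gq.z_comm hr).symm).eq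

theorem hC : ∀ c ∈ S, c * c = 1 → (∀ r ∈ qq k x y u, c * r = r * c) →
    c = 1 ∨ c = wu x y 1 (-1) ^ (2 * k) := fun c hc h2 h1 => by
  by_cases h3 : c ∈ cS S (wu x y (2 * k) 0)
  · obtain ⟨p, hp⟩ := h.CB h3 h1
    exact or_iff_not_imp_left.2 fun h4 => (h.wr.eq_u0_of_mem_Z
      (hp ▸ h.wr.c_zpow p ▸ zpow_mem (mem_zpowers _) p) h4 h2).trans h.ej.symm
  · have := (h.gB hc h1 h3).2.2
    rw [show c * (u * wu x y (2 * k) 0) * (c * (u * wu x y (2 * k) 0)) =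
      c * (u * wu x y (2 * k) 0 * c) * (u * wu x y (2 * k) 0) by group, ← h1 _ h.hy.gq.b_mem,
      ← mul_assoc c c, h2, one_mul, h.hy.gq.bb] at this
    exact absurd this (h.hy.gq.z_ne_one h.hy.k0)

theorem sq_data {g : Ω} (hg : g ∈ cS S (wu x y (2 * k) 0)) {l : ℤ} (e : Sc x y g l)
    (e2 : Sc x y (g * g) 1) : ∃ p q : ℤ, g * g = wu x y p q ∧ 4 * (k : ℤ) ∣ l * p - p ∧
      4 * (k : ℤ) ∣ l * q - q := by
  obtain ⟨p, q, hp⟩ := h.CT (cS_le _ _ (mul_mem hg hg)) e2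
  have e3 := e p q
  rw [← hp, show g * (g * g) * g⁻¹ = g * g by group, hp, eq_comm, h.wr.u_eq_iff] at e3
  exact ⟨p, q, hp, e3⟩

theorem not_field₀ {g : Ω} (hg : g ∈ cS S (wu x y (2 * k) 0)) (e : Sc x y g (1 + 2 * k)) :
    False := by
  obtain ⟨c, hc⟩ := h.hy.keven
  have hk : (k : ℤ) = 2 * c := by exact_mod_cast hc
  have k0 : (k : ℤ) ≠ 0 := by have := h.hy.k2; omega
  obtain ⟨p, q, e1, h1, h2⟩ := h.sq_data hg e (h.sc_congr (e.mul e) ⟨1 + k, by ring⟩)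
  have key : ∀ p : ℤ, 4 * (k : ℤ) ∣ (1 + 2 * k) * p - p →
      ∃ i : ℤ, 4 * (k : ℤ) ∣ (1 + 2 * k) * i + p + i := fun p ⟨r, hr⟩ => by
    obtain rfl : p = 2 * r := mul_left_cancel₀ (a := 2 * (k : ℤ)) (by positivity) (by linarith)
    obtain ⟨i, s, hs⟩ := h.hy.exists_inv (m := 1 + k) ⟨c, by rw [hk]; ring⟩ (-r)
    exact ⟨i, 2 * s, by linarith⟩
  obtain ⟨i, hi⟩ := key p h1
  obtain ⟨j, hj⟩ := key q h2
  refine h.hy.TR h.hC (u := g * wu x y i j) (cS_le _ _ (mul_mem hg (h.uT _ _))) ?_ ?_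
  · rw [h.sq_shift e, e1, h.wr.u_mul_u, h.wr.u_mul_u, h.wr.u_eq_one_iff]
    exact ⟨hi, hj⟩
  · simpa using h.sc_a (e.mul (h.sc_u i j))

theorem not_field₁ {g : Ω} (hg : g ∈ cS S (wu x y (2 * k) 0)) (e : Sc x y g (-1 + 2 * k)) :
    False := by
  obtain ⟨c, hc⟩ := h.hy.keven
  have hk : (k : ℤ) = 2 * c := by exact_mod_cast hc
  have k0 : (k : ℤ) ≠ 0 := by have := h.hy.k2; omega
  have ho : Odd ((k : ℤ) - 1) := ⟨c - 1, by rw [hk]; ring⟩
  obtain ⟨p, q, e1, h1, h2⟩ := h.sq_data hg e (h.sc_congr (e.mul e) ⟨k - 1, by ring⟩)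
  have key : ∀ p : ℤ, 4 * (k : ℤ) ∣ (-1 + 2 * k) * p - p →
      ∃ i : ℤ, 4 * (k : ℤ) ∣ (-1 + 2 * k) * i + p + i := fun p ⟨r, hr⟩ => by
    obtain ⟨i, rfl⟩ := (h.hy.cop2 ho).dvd_of_dvd_mul_left (z := p) ⟨r, by linarith⟩
    exact ⟨i, i, by ring⟩
  obtain ⟨i, hi⟩ := key p h1
  obtain ⟨j, hj⟩ := key q h2
  obtain ⟨f, hf⟩ : ∃ f, f = g * wu x y i j := ⟨_, rfl⟩
  have fT : f ∈ cS S (wu x y (2 * k) 0) := hf ▸ mul_mem hg (h.uT _ _)
  have f2 : f * f = 1 := by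
    rw [hf, h.sq_shift e, e1, h.wr.u_mul_u, h.wr.u_mul_u, h.wr.u_eq_one_iff]
    exact ⟨hi, hj⟩
  have fa : f * wu x y 1 (-1) * f⁻¹ = wu x y 1 (-1) ^ (-1 + 2 * (k : ℤ)) := by
    simpa [← hf] using h.sc_a (e.mul (h.sc_u i j))
  obtain ⟨m, fb⟩ := h.hy.cj_b (cS_le _ _ fT)
  have fba : ∀ r : ℤ, f * (u * wu x y (2 * k) 0 * wu x y 1 (-1) ^ r) * f⁻¹ =
      u * wu x y (2 * k) 0 * wu x y 1 (-1) ^ (m + (-1 + 2 * k) * r) := fun r => by
    rw [← conj_mul, fb, cj_zpow fa, mul_assoc, ← zpow_add]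
  have e4 := fba m
  rw [← fb, show f * (f * (u * wu x y (2 * k) 0) * f⁻¹) * f⁻¹ =
    f * f * (u * wu x y (2 * k) 0) * (f * f)⁻¹ by group, f2, one_mul, inv_one, mul_one,
    left_eq_mul, h.hy.one_iff] at e4
  obtain ⟨r, hr⟩ := e4
  obtain rfl : m = 2 * r := mul_left_cancel₀ (a := 2 * (k : ℤ)) (by positivity) (by linarith)
  obtain ⟨s, s', hs⟩ := h.hy.exists_inv ho (-r)
  have e5 := fba s
  rw [(h.hy.eq_iff (2 * r + (-1 + 2 * k) * s) s).2 ⟨2 * s', by linarith⟩] at e5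
  obtain ⟨b', hb'⟩ : ∃ b', b' = u * wu x y (2 * k) 0 * wu x y 1 (-1) ^ s := ⟨_, rfl⟩
  have b2 : b' * b' = jj k x y := hb' ▸ (h.hy.gq.ba_sq s).trans h.ej
  have bt : b' * wu x y (2 * k) 0 * b'⁻¹ = wu x y 0 (2 * k) := by
    rw [hb', h.wr.v_zpow, h.wr.zu_mul_u, h.wr.zu_conj_u]
  have ba : b' * wu x y 1 (-1) * b'⁻¹ = wu x y 1 (-1) ^ (-1 : ℤ) := by
    simpa [← hb'] using h.hy.gq.ba_conj s 1
  rw [← hb'] at e5
  refine h.hy.TR h.hC (u := f * b' * wu x y (2 * k) 0) (mul_mem (mul_mem (cS_le _ _ fT)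
    (hb' ▸ h.hy.le (h.hy.gq.ba_mem s))) (h.uS _ _)) ?_ ?_
  · calc _ = f * b' * (wu x y (2 * k) 0 * f) * b' * wu x y (2 * k) 0 := by group
      _ = f * (b' * f) * b'⁻¹ * (b' * wu x y (2 * k) 0 * b'⁻¹) * (b' * b') * wu x y (2 * k) 0 := by
        rw [(mem_cS.1 fT).2]; group
      _ = f * f * wu x y 0 (2 * k) * jj k x y * wu x y (2 * k) 0 := by
        rw [← comm_of_cj e5, bt, b2]; group
      _ = _ := by
        rw [f2, one_mul, jj, h.wr.u_mul_u, h.wr.u_mul_u, h.wr.u_eq_one_iff]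
        exact ⟨⟨1, by ring⟩, 1, by ring⟩
  · rw [cj_mul (cj_mul fa ba) (h.sc_a (h.sc_u _ _)), h.hy.eq_iff]
    exact ⟨-1, by ring⟩

theorem pm {g : Ω} (hg : g ∈ cS S (wu x y (2 * k) 0)) : Sc x y g 1 ∨ Sc x y g (-1) := by
  obtain ⟨m, hm⟩ := h.hy.pg ⟨g, cS_le _ _ hg⟩
  replace hm : g ^ 2 ^ m = 1 := congrArg Subtype.val hm
  induction m generalizing g with
  | zero =>
    obtain rfl : g = 1 := by simpa using hm
    exact Or.inl fun i j => by simp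
  | succ m ih =>
    obtain ⟨l, ⟨d, rfl⟩, e, -⟩ := h.act hg
    have e1 : ∀ l : ℤ, Sc x y (g * g) l → 4 * (k : ℤ) ∣ (2 * d + 1) * (2 * d + 1) - l := fun l e1 =>
      (h.hy.eq_iff _ _).1 ((h.sc_a (e.mul e)).symm.trans (h.sc_a e1))
    rcases ih (mul_mem hg hg) (by rw [← pow_two, ← pow_mul, ← pow_succ', hm]) with e2 | e2
    swap
    · obtain ⟨r, hr⟩ := e1 _ e2
      have : 2 * (2 * (d * d + d - k * r) + 1) = 0 := by linarith
      omega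
    have e4 : (k : ℤ) ∣ d * (d + 1) := by
      obtain ⟨r, hr⟩ := e1 _ e2
      exact ⟨r, by linarith⟩
    have cop : ∀ {n : ℤ}, Odd n → IsCoprime (k : ℤ) n := fun hn =>
      (h.hy.cop4 hn).of_isCoprime_of_dvd_left ⟨4, by ring⟩
    rcases Int.even_or_odd d with h6 | h6
    · obtain ⟨r, rfl⟩ := (cop h6.add_one).dvd_of_dvd_mul_right e4
      rcases Int.even_or_odd' r with ⟨q, rfl | rfl⟩
      · exact Or.inl (h.sc_congr e ⟨q, by ring⟩)
      · exact (h.not_field₀ hg (h.sc_congr e ⟨q, by ring⟩)).elim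
    · obtain ⟨r, hr⟩ := (cop h6).dvd_of_dvd_mul_left e4
      obtain rfl : d = k * r - 1 := by linarith
      rcases Int.even_or_odd' r with ⟨q, rfl | rfl⟩
      · exact Or.inr (h.sc_congr e ⟨q, by ring⟩)
      · exact (h.not_field₁ hg (h.sc_congr e ⟨q, by ring⟩)).elim

theorem mem_W {g : Ω} (h1 : (∃ i j : ℤ, g = wu x y i j) ∨ ∃ i j : ℤ, u * g = wu x y i j) :
    g ∈ W := by
  rcases h1 with ⟨i, j, rfl⟩ | ⟨i, j, e⟩
  · exact h.wr.u_mem i j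
  · exact (W.mul_mem_cancel_left h.wr.z_mem).1 (e ▸ h.wr.u_mem i j)

theorem wr_of_not (hw : ¬ ∃ w ∈ cS S (wu x y (2 * k) 0), Sc x y w (-1)) : Wr S k x y u := by
  have h1 : ∀ g ∈ cS S (wu x y (2 * k) 0), ∃ i j : ℤ, g = wu x y i j := fun g hg =>
    h.CT (cS_le _ _ hg) ((h.pm hg).resolve_right fun e => hw ⟨g, hg, e⟩)
  rw [show S = W from le_antisymm (fun g hg => h.mem_W ((h.cases_S hg).imp (h1 _) (h1 _))) h.le]
  exact h.wr

theorem not_sc {i j : ℤ} : ¬ Sc x y (wu x y i j) (-1) := fun e => by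
  have := (h.sc_a e).symm.trans (h.sc_a (h.sc_u i j))
  rw [eq_comm, h.hy.eq_iff] at this
  exact h.hy.nd (by norm_num) (by have := h.hy.k2; omega) this

theorem u_notT : u ∉ cS S (wu x y (2 * k) 0) := fun hu =>
  h.wr.u1_ne_u2 ((cj_of_comm (mem_cS.1 hu).2.symm).symm.trans (h.wr.z_conj _ _))

theorem eq_mul_of_sc {w g : Ω} (hw : w ∈ S) (hg : g ∈ S) (w2 : w * w = 1) (e : Sc x y w (-1))
    (e' : Sc x y g (-1)) : ∃ i j : ℤ, g = w * wu x y i j := by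
  obtain ⟨i, j, e1⟩ := h.CT (mul_mem hw hg) (by simpa using e.mul e')
  exact ⟨i, j, by rw [← e1, ← mul_assoc, w2, one_mul]⟩

theorem gs_of_inv {w : Ω} (hw : w ∈ cS S (wu x y (2 * k) 0)) (e : Sc x y w (-1)) (w2 : w * w = 1)
    (wu' : w * u = u * w) : GS S W k x y u w := by
  have hS := cS_le _ _ hw
  refine ⟨h.wr, w2, by simpa [wu] using e 1 0, wu', fun g => ⟨fun hg => ?_, ?_⟩, fun hW => ?_⟩
  · have key : ∀ g ∈ cS S (wu x y (2 * k) 0), (∃ i j : ℤ, g = wu x y i j) ∨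
        ∃ i j : ℤ, w * g = wu x y i j := fun g hg => (h.pm hg).imp (h.CT (cS_le _ _ hg)) fun e' =>
      h.CT (mul_mem hS (cS_le _ _ hg)) (by simpa using e.mul e')
    rcases h.cases_S hg with h1 | h1 <;> rcases key _ h1 with h2 | h2
    · exact Or.inl (h.mem_W (Or.inl h2))
    · exact Or.inr (h.mem_W (Or.inl h2))
    · exact Or.inl (h.mem_W (Or.inr h2))
    · exact Or.inr (h.mem_W (Or.inr (by rwa [← mul_assoc, ← wu', mul_assoc])))
  · rintro (hg | hg)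
    exacts [h.le hg, (S.mul_mem_cancel_left hS).1 (h.le hg)]
  · obtain ⟨i, j, rfl | rfl⟩ := (h.wr.mem w).1 hW
    · exact h.not_sc e
    · exact h.u_notT ((mul_mem_cancel_right (h.uT i j)).1 hw)

theorem exists_inv {w₀ : Ω} (hw : w₀ ∈ cS S (wu x y (2 * k) 0)) (e : Sc x y w₀ (-1)) :
    ∃ w ∈ cS S (wu x y (2 * k) 0), Sc x y w (-1) ∧ w * w = 1 ∧ w * u = u * w := by
  have hS := mul_mem (cS_le _ _ hw) h.hy.bS
  obtain ⟨m, e1⟩ := h.hy.cj_b hS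
  have ha : Commute (w₀ * (u * wu x y (2 * k) 0)) (wu x y 1 (-1)) := comm_of_cj (by
    have := cj_mul (h.sc_a e) (h.hy.gq.rel.trans (zpow_neg_one _).symm)
    simpa using this)
  have hg : ∀ r ∈ qq k x y u, w₀ * (u * wu x y (2 * k) 0) * wu x y m 0 * r =
      r * (w₀ * (u * wu x y (2 * k) 0) * wu x y m 0) :=
    h.hy.cent_of (ha.mul_left (h.wr.u_comm _ _ _ _)).eq (comm_of_cj (by
      calc _ = w₀ * (u * wu x y (2 * k) 0) * (wu x y m 0 * (u * wu x y (2 * k) 0) *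
            (wu x y m 0)⁻¹) * (w₀ * (u * wu x y (2 * k) 0))⁻¹ := by group
        _ = w₀ * (u * wu x y (2 * k) 0) * (u * wu x y (2 * k) 0) * (w₀ * (u * wu x y (2 * k) 0))⁻¹ *
            (w₀ * (u * wu x y (2 * k) 0) * wu x y 1 (-1) ^ (0 - m) *
              (w₀ * (u * wu x y (2 * k) 0))⁻¹) := by rw [h.u_cj0]; group
        _ = _ := by rw [e1, cj_of_comm (ha.zpow_right _).eq]; group))
  obtain ⟨h1, h2, h3⟩ := h.gB (mul_mem hS (h.uS m 0)) hg fun hT => h.u_notT (by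
    rwa [mul_mem_cancel_right (h.uT _ _), mul_mem_cancel_left hw,
      mul_mem_cancel_right (h.uT _ _)] at hT)
  refine ⟨_, h1, h2, h3, ?_⟩
  have c1 := (show Commute _ _ from hg _ h.hy.gq.b_mem).mul_left (Commute.refl _)
  have := c1.mul_right (show Commute _ _ from (mem_cS.1 h1).2.symm)
  rw [mul_assoc u, h.wr.u1_sq, mul_one] at this
  exact this

end IS

end H8.WZ
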