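/- Tower WZ: the automorphism of order three of the extended torus; `JobI`. -/
import Cfsg.Agent.H8.WZD

set_option autoImplicit false
set_option linter.unusedSectionVars false

namespace H8.WZ
open Cfsg Cfsg.FusionSystem H92 H86 H35.G2S Subgroup

universe u
variable {Ω : Type u} [Group Ω] {S : Subgroup Ω} {F : FusionSystem S}

/-- `f` is an automorphism of `T` acting on the torus as `c` times the standard rotation. -/
def Rh (F : FusionSystem S) (T : Subgroup Ω) (x y : Ω) (c : ℤ) (f : Ω → Ω) : Prop :=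
  Mor F T f ∧ (∀ g ∈ T, f g ∈ T) ∧ ∀ i j : ℤ, f (wu x y i j) = wu x y (c * j) (c * (-i - j))

theorem Rh.four {T : Subgroup Ω} {x y : Ω} {c : ℤ} {f : Ω → Ω} (h : Rh F T x y c f) :
    Rh F T x y (c ^ 4) fun g => f (f (f (f g))) := by
  obtain ⟨h1, h2, h3⟩ := h
  have h4 := h1.comp h1 h2
  have h5 : ∀ g ∈ T, f (f g) ∈ T := fun g hg => h2 _ (h2 g hg)
  refine ⟨h4.comp h4 h5, fun g hg => h5 _ (h5 g hg), fun i j => ?_⟩
  simp only [h3]
  congr 1 <;> ring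

theorem Rh.iter {T : Subgroup Ω} {x y : Ω} {c : ℤ} {f : Ω → Ω} (h : Rh F T x y c f) (r : ℕ) :
    ∃ f, Rh F T x y (c ^ 4 ^ r) f := by
  induction r with
  | zero => exact ⟨f, by simpa using h⟩
  | succ r ih =>
    obtain ⟨g, hg⟩ := ih
    exact ⟨_, by simpa only [← pow_mul, ← pow_succ] using hg.four⟩

namespace IS
variable {W : Subgroup Ω} {k : ℕ} {x y u : Ω} {α : Ω → Ω} {n : ℤ} (h : IS F W k x y u α n)
  [Finite S]
include h

theorem toX {f : Ω → Ω} (hf : Mor F (cS S (wu x y (2 * k) 0)) f)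
    (e : f (jj k x y) = wu x y (2 * k) 0) : ∃ p : ℤ, Odd p ∧ f (wu x y 1 (-1)) = wu x y p 0 := by
  rw [← h.ej] at e
  obtain ⟨h1, h2⟩ := h.hy.img_Rt (α := α) hf (h.ej.symm ▸ h.jT) (e.symm ▸ h.mor) (e.symm ▸ h.αt)
    h.hy.gq.a_mem' (h.uT _ _)
  rw [e] at h1
  obtain ⟨l, hl, e1⟩ := h.hy.gen_of h2
    (by rw [h.mor.orderOf_eq h1, hf.orderOf_eq (h.uT _ _), h.hy.orda])
  obtain ⟨p, hp⟩ := h.hy.exists_inv h.odd l
  refine ⟨p, ?_, h.mor.inj h1 (h.uT _ _) ?_⟩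
  · obtain ⟨c, hc⟩ := hp
    obtain ⟨d, rfl⟩ := hl
    exact (Int.odd_mul.1 (show Odd (n * p) from ⟨2 * k * c + d, by linarith⟩)).2
  · rw [e1, h.αp, ← h.wr.v_zpow (n * p), eq_comm, h.hy.eq_iff]; exact hp

theorem u_maps {g : Ω} (hg : g ∈ cS S (wu x y (2 * k) 0)) :
    u * g * u⁻¹ ∈ cS S (wu x y (2 * k) 0) := by
  rw [← h.cS_u2] at hg
  have hu := h.le h.wr.z_mem
  refine mem_cS.2 ⟨mul_mem (mul_mem hu (cS_le _ _ hg)) (inv_mem hu), ?_⟩
  rw [← h.wr.z_conj 0, conj_mul, conj_mul, (mem_cS.1 hg).2]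

theorem mor_u : Mor F (cS S (wu x y (2 * k) 0)) fun g => u * g * u⁻¹ :=
  mor_conj F (cS_le _ _) (h.le h.wr.z_mem)

theorem exists_sigma : ∃ (σ : Ω → Ω) (m : ℤ), Mor F (cS S (wu x y (2 * k) 0)) σ ∧
    (∀ g ∈ cS S (wu x y (2 * k) 0), σ g ∈ cS S (wu x y (2 * k) 0)) ∧ Odd m ∧
    σ (wu x y 1 0) = wu x y m (-m) ∧ σ (jj k x y) = wu x y 0 (2 * k) := by
  rcases h.sV with e | e
  · exact ⟨_, -n, h.mor.comp h.mor_u fun g hg => h.αT hg, fun g hg => h.u_maps (h.αT hg), h.odd.neg,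
      by simp only [h.αx, h.wr.z_conj, neg_neg], by simp only [e, h.wr.z_conj]⟩
  · exact ⟨α, n, h.mor, fun g hg => h.αT hg, h.odd, h.αx, e⟩

theorem exists_rh : ∃ ρ, Rh F (cS S (wu x y (2 * k) 0)) x y 1 ρ := by
  obtain ⟨σ, m, h1, h2, hm, h3, h4⟩ := h.exists_sigma
  obtain ⟨p, hp, e1⟩ := h.toX (h1.comp h.mor_u h2) (by simp only [h4, h.wr.z_conj])
  have e2 : σ (wu x y 1 (-1)) = wu x y 0 p := by
    rw [← h.wr.z_conj p 0, ← e1, h.wr.z_inv, ← mul_assoc, ← mul_assoc, h.wr.zz, one_mul, mul_assoc,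
      h.wr.zz, mul_one]
  have e3 : ∀ i j : ℤ, σ (wu x y i j) = wu x y (m * (i + j)) (-(m * (i + j)) - p * j) := fun i j => by
    rw [h.split i j, h1.map_mul (zpow_mem (h.uT _ _) _) (zpow_mem (h.uT _ _) _),
      h1.map_zpow (h.uT _ _), h1.map_zpow (h.uT _ _), h3, e2, h.wr.u_zpow, h.wr.u_zpow, h.wr.u_mul_u]
    congr 1 <;> ring
  obtain ⟨c, rfl⟩ := hm
  obtain ⟨d, rfl⟩ := hp
  obtain ⟨q, -, e4⟩ := h.toX (h1.comp h1 h2) (by
    simp only [h4, e3]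
    exact h.wr.u_congr c (-c - d - 1) (by ring) (by ring))
  simp only [e2] at e4
  rw [e3, h.wr.u_eq_iff] at e4
  obtain ⟨r, hr⟩ : 4 * (k : ℤ) ∣ (2 * c + 1) + (2 * d + 1) :=
    (h.hy.cop4 (odd_two_mul_add_one d)).dvd_of_dvd_mul_right (by
      obtain ⟨r, hr⟩ := e4.2
      exact ⟨-r, by linarith⟩)
  have e5 : ∀ i j : ℤ, σ (wu x y i j) = wu x y ((2 * c + 1) * (i + j)) (-((2 * c + 1) * i)) :=
    fun i j => (e3 i j).trans (h.wr.u_congr 0 (-r * j) (by ring) (by linear_combination (-j) * hr))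
  have h5 : Rh F (cS S (wu x y (2 * k) 0)) x y ((2 * c + 1) ^ 2) fun g => σ (σ g) :=
    ⟨h1.comp h1 h2, fun g hg => h2 _ (h2 g hg), fun i j => by
      simp only [e5]
      congr 1 <;> ring⟩
  obtain ⟨e, he⟩ := h.hy.pow2
  obtain ⟨ρ, h6, h7, h8⟩ := h5.iter (e + 2)
  obtain ⟨s, hs⟩ : 4 * (k : ℤ) ∣ ((2 * c + 1) ^ 2) ^ 4 ^ (e + 2) - 1 := by
    have := h.hy.euler ((odd_two_mul_add_one c).pow (n := 2 * 2 ^ (e + 2)))
    rw [← pow_mul] at this ⊢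
    convert this using 3
    rw [he, show (4 : ℕ) = 2 * 2 from rfl, mul_pow]; ring
  exact ⟨ρ, h6, h7, fun i j => (h8 i j).trans (h.wr.u_congr (s * j) (s * (-i - j))
    (by linear_combination j * hs) (by linear_combination (-i - j) * hs))⟩

theorem centric_U : F.IsCentric (wrU x y) := by
  have hU : wrU x y ≤ S := h.wr.U_le.trans h.le
  refine isCentric_of_fullyCentralized (fc_of_fn h.hy.pg h.hy.sat
    (fullyNormalized_of_normal F hU fun s hs g hg => ?_)) fun g hg => ?_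
  · obtain ⟨i, j, rfl⟩ := (h.wr.mem_U g).1 hg
    rcases h.cases_S hs with h1 | h1 <;> obtain ⟨l, -, e, -⟩ := h.act h1
    · exact e i j ▸ h.wr.u_mem_U _ _
    · have : s * wu x y i j * s⁻¹ = u * (u * s * wu x y i j * (u * s)⁻¹) * u⁻¹ := by
        calc _ = u * u * (s * wu x y i j * s⁻¹) * (u * u)⁻¹ := by rw [h.wr.zz]; group
          _ = _ := by group
      rw [this, e, h.wr.z_conj]
      exact h.wr.u_mem_U _ _
  · exact (h.wr.mem_U g).2 (h.CT hg.1 fun i j => by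
      rw [one_mul, one_mul]
      exact cj_of_comm ((mem_centralizerIn.1 hg).2 _ (h.wr.u_mem_U i j)).symm)

theorem exists_fr {w₀ : Ω} (hw₀ : w₀ ∈ cS S (wu x y (2 * k) 0)) (e₀ : Sc x y w₀ (-1)) :
    ∃ w, Fr0 F W k x y u w := by
  obtain ⟨w, hw, e, w2, wu'⟩ := h.exists_inv hw₀ e₀
  have G := h.gs_of_inv hw e w2 wu'
  obtain ⟨ρ, h1, h2, h3⟩ := h.exists_rh
  simp only [one_mul] at h3
  obtain ⟨p, q, e1⟩ := h.eq_mul_of_sc (cS_le _ _ hw) (h1.mem hw) w2 e fun i j => by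
    have e1 := h3 (-i - j) i
    rw [show -(-i - j) - i = j by ring] at e1
    rw [← e1, ← h1.map_conj hw (h.uT _ _), e, h3]
    congr 1; ring
  have e2 : ∀ i j : ℤ, ρ (w * wu x y i j) = w * wu x y (p + j) (q + (-i - j)) := fun i j => by
    rw [h1.map_mul hw (h.uT _ _), e1, h3, mul_assoc, h.wr.u_mul_u]
  have e3 : ∀ i j : ℤ, u * (w * wu x y i j) * u⁻¹ = w * wu x y j i := fun i j => by
    rw [← h.wr.z_conj i j, ← mul_assoc u, ← wu']; group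
  have h4 := h.mor_u.comp h1 fun g hg => h.u_maps hg
  have h5 : ∀ g ∈ cS S (wu x y (2 * k) 0), ρ (u * g * u⁻¹) ∈ cS S (wu x y (2 * k) 0) :=
    fun g hg => h2 _ (h.u_maps hg)
  obtain ⟨ψ, hψ, e4⟩ := (h4.comp h4 h5).exists_aut' fun g hg => h5 _ (h5 g hg)
  have hU : wrU x y ≤ cS S (wu x y (2 * k) 0) := fun g hg => by
    obtain ⟨i, j, rfl⟩ := (h.wr.mem_U g).1 hg
    exact h.uT i j
  obtain ⟨ν, hν, e5⟩ := aut_eq_conj_of_centric h.hy.pg h.hy.sat h.centric_U hU (cS_le _ _)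
    (fun g hg c hc => by
      obtain ⟨i, j, rfl⟩ := (h.wr.mem_U c).1 hc
      obtain ⟨l, -, e, -⟩ := h.act hg
      exact e i j ▸ h.wr.u_mem_U _ _) hψ (fun g hg => by
      rw [e4 g (hU hg)]
      obtain ⟨i, j, rfl⟩ := (h.wr.mem_U g).1 hg
      simp only [h.wr.z_conj, h3]
      congr 1; ring)
  obtain ⟨a, b, rfl⟩ := (h.wr.mem_U ν).1 (centralizerIn_le_of_centric h.centric_U hν)
  have e6 := e5 _ (mul_mem hw (h.uT 0 0))
  rw [e4 _ (mul_mem hw (h.uT 0 0)), G.conj_zt] at e6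
  simp only [e3, e2] at e6
  rw [mul_right_inj, h.wr.u_eq_iff] at e6
  obtain ⟨c, rfl⟩ : ∃ c, p = 2 * c := by
    obtain ⟨r, hr⟩ := e6.2
    exact ⟨b - 2 * k * r, by linarith⟩
  obtain ⟨j, r, hr⟩ := h.hy.exists_inv (m := 3) ⟨1, rfl⟩ (q - 2 * c)
  have hw' : w * wu x y j j ∈ cS S (wu x y (2 * k) 0) := mul_mem hw (h.uT _ _)
  have m1 := mor_conj F (cS_le S (wu x y (2 * k) 0)) (h.uS (-c) 0)
  have m2 := mor_conj F (cS_le S (wu x y (2 * k) 0)) (h.uS c 0)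
  have m3 : ∀ c : ℤ, ∀ g ∈ cS S (wu x y (2 * k) 0),
      wu x y c 0 * g * (wu x y c 0)⁻¹ ∈ cS S (wu x y (2 * k) 0) := fun c g hg =>
    mul_mem (mul_mem (h.uT _ _) hg) (inv_mem (h.uT _ _))
  have key : ∀ i j : ℤ, wu x y c 0 * ρ (wu x y (-c) 0 * wu x y i j * (wu x y (-c) 0)⁻¹) *
      (wu x y c 0)⁻¹ = wu x y j (-i - j) := fun i j => by rw [h.wr.u_conj_u, h3, h.wr.u_conj_u]
  refine ⟨w * wu x y j j, h.hy.sat, h.gs_of_inv hw' (by simpa using e.mul (h.sc_u j j))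
    (G.zt_sq j j) (comm_of_cj (e3 j j)).symm, h.hy.k2, h.ej ▸ h.hy.h1, _,
    ((m1.comp h1 (m3 _)).comp m2 fun g hg => h2 _ (m3 _ g hg)).mono
      (sup_le hU (zpowers_le.2 hw')), ?_, ?_, ?_⟩
  · have := key 1 0
    simpa [wu] using this
  · have := key 0 1
    simpa [wu] using this
  · simp only [G.conj_zt, e2]
    exact congrArg _ (h.wr.u_congr 0 (-r) (by ring) (by linarith))

end IS

theorem jobI : JobI.{u} := by
  intro Ω _ S _ F R k a b h hI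
  obtain ⟨W, x, y, u, α, n, h⟩ := h.exists_IS hI
  by_cases hw : ∃ w ∈ cS S (wu x y (2 * k) 0), Sc x y w (-1)
  · obtain ⟨w, hw, e⟩ := hw
    obtain ⟨w', h'⟩ := h.exists_fr hw e
    exact Or.inr ⟨W, x, y, u, w', h'⟩
  · exact Or.inl ⟨x, y, u, h.wr_of_not hw⟩

end H8.WZ
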