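/- Tower WZ: assembly. -/
import Cfsg.Agent.H8.WZE
import Cfsg.Agent.H9.R2Top

set_option autoImplicit false

namespace H8.WZ
open Cfsg Cfsg.FusionSystem H92 H86 H35.G2S Subgroup

universe u
variable {Ω : Type u} [Group Ω] {S : Subgroup Ω} [Finite S] {F : FusionSystem S}

theorem hy_of (hS : IsPGroup 2 S) (hF : F.IsSaturated 2) (hfoc : S ≤ F.focalSubgroup)
    {R : Subgroup Ω} {e : ℕ} {a b : Ω} (hq : GQ R (2 * 2 ^ (e + 1)) a b) (hW : F.WeaklyClosed R)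
    (hC : ∀ y ∈ centralizerIn S R, orderOf y = 2 →
      ∀ C : FusionSystem (centralizerIn S (zpowers y)),
        F.IsCentralizerSystem (zpowers y) C → C.StronglyClosed R) : Hy F R (2 ^ (e + 1)) a b := by
  have hR : R ≤ S := hW.1
  have k0 : 2 * 2 ^ (e + 1) ≠ 0 := by positivity
  have zR : a ^ (2 * 2 ^ (e + 1)) ∈ R := R.pow_mem hq.a_mem' _
  have z2 := two_of (hq.z_ne_one k0) hq.z_mul_z
  have uniq : ∀ {g : Ω}, g ∈ R → orderOf g = 2 → g = a ^ (2 * 2 ^ (e + 1)) := fun hg h2 =>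
    (hq.eq_of_sq k0 hg (sq_of_two h2)).resolve_left fun e => by
      rw [e, orderOf_one] at h2; omega
  have key : ∀ y ∈ S, orderOf y = 2 → (∀ r ∈ R, y * r = r * y) → ∀ P f, Mor F P f → y ∈ P →
      f y = y → (∀ g ∈ P, y * g = g * y) → ∀ r ∈ R, r ∈ P → f r ∈ R := by
    intro y hy h2 hc P f hf hyP e hP r hr hrP
    have h1 := H93.isCentralizerSystem_centSys F _ (zpowers_le.2 hy)
    refine Mor.mem_of_stronglyClosed ((mor_centralizerSystem_iff h1).2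
      ⟨fun g hg => mem_cS.2 ⟨hf.le hg, hP g hg⟩, f, by rwa [sup_eq_left.2 (zpowers_le.2 hyP)],
        fun _ _ => rfl, ?_⟩) (hC y (mem_centralizerIn.2 ⟨hy, fun r hr => (hc r hr).symm⟩) h2 _ h1)
      hrP hr
    rintro _ ⟨n, rfl⟩
    rw [hf.map_zpow hyP, e]
  have cen : ∀ s ∈ S, s * a ^ (2 * 2 ^ (e + 1)) = a ^ (2 * 2 ^ (e + 1)) * s := fun s hs =>
    comm_of_cj (uniq (conj_mem_of_weaklyClosed hW hs zR) (((MulAut.conj s).orderOf_eq _).trans z2))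
  refine ⟨hS, hF, ⟨e, rfl⟩, hq, hR, cen, fun P f hf hz e => key _ (hR zR) z2
    (fun r hr => (hq.z_comm hr).symm) P f hf hz e fun g hg => (cen g (hf.le hg)).symm,
    fun P f hf hz y hy h2 c1 c2 => ?_, hfoc⟩
  obtain ⟨Q, hQ, hQ'⟩ := exists_fullyCentralized F (zpowers_le.2 (hf.le hy))
  obtain ⟨g, hg, rfl⟩ := isConj_iff.1 hQ
  rw [hg.mulOn.img_zpowers (mem_zpowers y)] at hQ'
  have h3 := hg.isConjElt (mem_zpowers y)
  obtain ⟨β, hβ, e1⟩ := exists_ext_cS hS hF h3 hQ'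
  obtain ⟨γ, hγ, e2⟩ := exists_ext_cS hS hF (conj_trans (conj_symm (hf.isConjElt hy)) h3) hQ'
  have r1 : R ≤ cS S y := fun r hr => mem_cS.2 ⟨hR hr, c1 r hr⟩
  have r2 : R ≤ cS S (f y) := fun r hr => mem_cS.2 ⟨hR hr, c2 r hr⟩
  have z1 : β (a ^ (2 * 2 ^ (e + 1))) = a ^ (2 * 2 ^ (e + 1)) :=
    uniq (hβ.mem_of_weaklyClosed hW r1 zR) ((hβ.orderOf_eq (r1 zR)).trans z2)
  have z3 : γ (a ^ (2 * 2 ^ (e + 1))) = a ^ (2 * 2 ^ (e + 1)) :=
    uniq (hγ.mem_of_weaklyClosed hW r2 zR) ((hγ.orderOf_eq (r2 zR)).trans z2)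
  have hy' : y ∈ P ⊓ cS S y := ⟨hy, self_mem_cS (hf.le hy)⟩
  have hz' : a ^ (2 * 2 ^ (e + 1)) ∈ P ⊓ cS S y := ⟨hz, r1 zR⟩
  have hβ' := hβ.mono (inf_le_right : P ⊓ cS S y ≤ _)
  obtain ⟨δ, hδ, e3, e4⟩ := hβ'.exists_inv
  have m1 : ∀ x ∈ P ⊓ cS S y, f x ∈ cS S (f y) := fun x hx => mem_cS.2 ⟨hf.mem hx.1, by
    rw [← hf.map_mul hy hx.1, ← hf.map_mul hx.1 hy, (mem_cS.1 hx.2).2]⟩
  have h4 := key (g y) (conj_mem h3) ((conj_orderOf h3).trans h2) (fun r hr => by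
      have : r ∈ img R β := ((weaklyClosed_iff.1 hW).2 β (hβ.mono r1)).symm ▸ hr
      obtain ⟨r', hr', rfl⟩ := (hβ.mono r1).mem_img.1 this
      rw [← e1, ← hβ.map_mul hy'.2 (r1 hr'), ← hβ.map_mul (r1 hr') hy'.2, c1 r' hr']) _ _
    (hδ.comp ((hf.mono inf_le_left).comp hγ m1) fun x hx => (e4 x hx).2)
    (e1 ▸ mem_img_of_mem β hy') (by rw [← e1, e3 y hy', e2, e1]) (fun x hx => by
      obtain ⟨x', hx', rfl⟩ := hβ'.mem_img.1 hx
      rw [← e1, ← hβ.map_mul hy'.2 hx'.2, ← hβ.map_mul hx'.2 hy'.2, (mem_cS.1 hx'.2).2]) _ zR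
    (z1 ▸ mem_img_of_mem β hz')
  have e5 := e3 _ hz'
  rw [z1] at e5
  simp only [e5] at h4
  exact hγ.inj (m1 _ hz') (r2 zR) ((uniq h4 (by
    rw [hγ.orderOf_eq (m1 _ hz'), hf.orderOf_eq hz, z2])).trans z3.symm)

theorem main (jD : JobD.{u}) (jE : JobE.{u}) (jE₀ : JobE.{0}) (jG : JobG) (jT : JobT.{u})
    (hS : IsPGroup 2 S) (hF : F.IsSimple 2) (R : Subgroup Ω) (hRS : R ≤ S) (k : ℕ) (hk : 2 ≤ k)
    (eR : R ≃* QuaternionGroup (2 ^ k)) (hW : F.WeaklyClosed R)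
    (hC : ∀ y ∈ centralizerIn S R, orderOf y = 2 →
      ∀ C : FusionSystem (centralizerIn S (zpowers y)),
        F.IsCentralizerSystem (zpowers y) C → C.StronglyClosed R) :
    (∃ (K : Type) (_ : Field K) (_ : Fintype K), Odd (Fintype.card K) ∧
        ((∃ ι : S →* Matrix.ProjectiveSpecialLinearGroup (Fin 3) K, F.IsRealizedBy ι ∧
            ∃ T : Sylow 2 (Matrix.ProjectiveSpecialLinearGroup (Fin 3) K),
              (T : Subgroup (Matrix.ProjectiveSpecialLinearGroup (Fin 3) K)) = ι.range) ∨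
         (∃ ι : S →* Lie.G2 K, F.IsRealizedBy ι ∧
            ∃ T : Sylow 2 (Lie.G2 K), (T : Subgroup (Lie.G2 K)) = ι.range))) ∨
      ∃ P : Subgroup Ω, P ≤ S ∧ IsQuasiDihedral P ∧ F.StronglyClosed P := by
  obtain ⟨e, rfl⟩ := Nat.exists_eq_add_of_le' hk
  obtain ⟨a, b, hq⟩ := exists_GQ eR
  rw [pow_succ'] at hq
  have k0 : 2 * 2 ^ (e + 1) ≠ 0 := by positivity
  obtain ⟨h1, h2⟩ := H9.simple_facts hS hF fun e' => by
    have := card_le_of_le' le_rfl hRS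
    rw [hq.card k0, e'] at this
    omega
  have h := hy_of hS hF.1 (h2.ge.trans (H95.hyperfocal_le_focal F 2)) hq hW hC
  by_cases hI : ∃ t, F.IsConjElt (a ^ (2 * 2 ^ (e + 1))) t ∧ t ≠ a ^ (2 * 2 ^ (e + 1)) ∧
    t * a = a * t
  swap
  · refine Or.inr (jD F R _ a b h ?_ fun t ht hne r hr hc => h.L2 hI ht hne hr hc)
    by_contra h3
    push Not at h3
    refine hq.z_ne_one k0 (mem_bot.1 (h1 (zpowers (a ^ (2 * 2 ^ (e + 1)))) (isNormal_of_comm hS hF.1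
      (stronglyClosed_iff.2 ⟨zpowers_le.2 h.zS, fun P f hf x hx hx' => ?_⟩) ?_) ▸ mem_zpowers _))
    · rcases hq.eq_of_sq k0 (zpowers_le.2 h.zR hx') (by
        obtain ⟨n, rfl⟩ := hx'
        rw [← (Commute.refl _).mul_zpow, hq.z_mul_z, one_zpow]) with rfl | rfl
      · rw [hf.map_one]; exact one_mem _
      · rw [h3 _ (hf.isConjElt hx)]; exact mem_zpowers _
    · rintro _ ⟨n, rfl⟩ _ ⟨m, rfl⟩
      exact ((Commute.refl _).zpow_zpow n m).eq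
  left
  rcases jobI F R _ a b h hI with ⟨x, y, z, w⟩ | ⟨W, x, y, u, w, fr⟩
  · obtain ⟨K, _, _, hK, h3⟩ := H9.WS.realized_psl w hF.1
      (by_contra fun e => w.u0_ne_one (mem_bot.mp
        (h1 _ (H9.WS.isNormal_of_not_fus w hF.1 e) ▸ w.u_mem_U _ _)))
      (by_contra fun e => w.u0_ne_one (mem_bot.mp
        (h1 _ (H9.WS.isNormal_of_not_good w hF.1 e) ▸ (w.u_mem_Z _ _).mpr (by simp))))
    exact ⟨K, _, _, hK, Or.inl h3⟩
  obtain ⟨K, _, _, hK, T, R', a', b', h', hc, hI'⟩ := jG e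
  rcases jobI _ R' _ a' b' h' hI' with ⟨x', y', z', w'⟩ | ⟨W', x', y', u', w', fr'⟩
  · have := w'.card
    have : 0 < (2 ^ (e + 1)) ^ 2 := by positivity
    omega
  obtain ⟨ι, h3, h4⟩ := jT F W _ x y u w ⟨fr, jE F W _ x y u w fr h.foc⟩ T W' x' y' u' w'
    ⟨fr', jE₀ _ W' _ x' y' u' w' fr' h'.foc⟩
  exact ⟨K, _, _, hK, Or.inr ⟨ι, h3, T, h4⟩⟩

end H8.WZ
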